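import Cfsg.Agent.Lib.JComp.Unique

/-!
`J(T)`-components: transport, the normalizer of `W_K`, existence in a member of `ℒ(T)`.
-/

set_option autoImplicit false
set_option linter.style.haveILetI false
set_option linter.unusedSectionVars false
open scoped commutatorElement Pointwise

namespace Cfsg.Agent.JComp

open Cfsg.Agent

universe u

variable {G : Type u} [Group G] [Finite G]

theorem pCoreOf_map (e : G ≃* G) (K : Subgroup G) :
    Cfsg.pCoreOf 2 (K.map e.toMonoidHom) = (Cfsg.pCoreOf 2 K).map e.toMonoidHom := by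
  have key : ∀ (e : G ≃* G) (K : Subgroup G),
      (Cfsg.pCoreOf 2 K).map e.toMonoidHom ≤ Cfsg.pCoreOf 2 (K.map e.toMonoidHom) := fun e K => by
    refine CharP.le_opIn (Subgroup.map_mono (CharP.opIn_le K)) ?_ ((CharP.opIn_isPGroup K).map _)
    exact (Subgroup.map_mono (CharP.le_normalizer_opIn (p := 2) K)).trans
      (Subgroup.le_normalizer_map _)
  refine le_antisymm ?_ (key e K)
  have h := key e.symm (K.map e.toMonoidHom)
  rw [Subgroup.map_map, show e.symm.toMonoidHom.comp e.toMonoidHom = MonoidHom.id G by ext; simp,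
    Subgroup.map_id] at h
  intro x hx
  exact ⟨e.symm x, h (Subgroup.mem_map_of_mem _ hx), by simp⟩

theorem wOf_map (e : G ≃* G) (K : Subgroup G) :
    Cfsg.wOf (K.map e.toMonoidHom) = (Cfsg.wOf K).map e.toMonoidHom := by
  haveI : Fact (Nat.Prime 2) := ⟨Nat.prime_two⟩
  rw [Cfsg.wOf, Cfsg.wOf, Subgroup.map_commutator, pCoreOf_map, Cfsg.omegaCenterOf,
    Cfsg.omegaCenterOf, OmegaOne.map_center e.toMonoidHom e.injective.injOn]

theorem isJComponent_map (g : G) {T K : Subgroup G} (h : Cfsg.IsJComponent T K) :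
    Cfsg.IsJComponent (T.map (MulAut.conj g).toMonoidHom) (K.map (MulAut.conj g).toMonoidHom) := by
  obtain ⟨h1, h2, h3, h4, h5, h6⟩ := h
  set e : G ≃* G := MulAut.conj g with he
  have hinj : Function.Injective e.toMonoidHom := e.injective
  have hJ : Cfsg.thompsonSubgroupOf 2 (T.map e.toMonoidHom) =
      (Cfsg.thompsonSubgroupOf 2 T).map e.toMonoidHom :=
    Thompson.thompsonSubgroupOf_map_of_injective _ _ hinj
  refine ⟨?_, ?_, ?_, ?_, ?_, ?_⟩
  · conv_rhs => rw [← h1, MonoidHom.map_closure]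
    congr 1
    ext x
    constructor
    · rintro ⟨⟨k, hk, rfl⟩, ho⟩
      exact ⟨k, ⟨hk, by rwa [orderOf_injective e.toMonoidHom hinj] at ho⟩, rfl⟩
    · rintro ⟨k, ⟨hk, ho⟩, rfl⟩
      exact ⟨⟨k, hk, rfl⟩, by rwa [orderOf_injective e.toMonoidHom hinj]⟩
  · rw [hJ, ← Subgroup.map_commutator, h2]
  · rw [pCoreOf_map, Subgroup.relIndex_map_map_of_injective _ _ hinj, h3]
  · intro S hS hJS
    rw [hJ] at hS hJS ⊢
    rw [← Subgroup.map_sup] at hS
    set S' := S.comap e.toMonoidHom with hS'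
    have hSS : S'.map e.toMonoidHom = S := Subgroup.map_comap_eq_self_of_surjective e.surjective S
    rw [← hSS] at hS hJS ⊢
    rw [Subgroup.map_le_map_iff_of_injective hinj] at hJS
    rw [Thompson.thompsonSubgroupOf_map_of_injective _ _ hinj, h4 S' ⟨?_, ?_, ?_⟩ hJS]
    · exact (Subgroup.map_le_map_iff_of_injective hinj).1 hS.1
    · exact hS.2.1.of_equiv (Subgroup.equivMapOfInjective S' _ hinj).symm
    · have := hS.2.2
      rwa [Subgroup.relIndex_map_map_of_injective _ _ hinj] at this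
  · rw [wOf_map, Subgroup.card_map_of_injective hinj, h5]
  · rw [wOf_map]
    rintro _ ⟨w, hw, rfl⟩
    rw [← map_mul, h6 w hw, map_one]

theorem isJComponent_congr {T T' K : Subgroup G} (h : Cfsg.IsJComponent T K)
    (hJ : Cfsg.thompsonSubgroupOf 2 T' = Cfsg.thompsonSubgroupOf 2 T) : Cfsg.IsJComponent T' K := by
  obtain ⟨h1, h2, h3, h4, h5, h6⟩ := h
  exact ⟨h1, hJ.symm ▸ h2, h3, by rw [hJ]; exact h4, h5, h6⟩

theorem isSylowTwoIn_map (g : G) {T L : Subgroup G} (h : Cfsg.IsSylowTwoIn T L)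
    (hg : g ∈ Subgroup.normalizer (L : Set G)) :
    Cfsg.IsSylowTwoIn (T.map (MulAut.conj g).toMonoidHom) L := by
  have hL := Subgroup.mem_normalizer_iff_map_conj_eq.1 hg
  refine ⟨(Subgroup.map_mono h.1).trans hL.le, h.2.1.map _, ?_⟩
  have h2 := h.2.2
  rw [← Subgroup.relIndex_map_map_of_injective (f := (MulAut.conj g).toMonoidHom) T L
    (MulAut.conj g).injective] at h2
  rwa [show L.map (MulAut.conj g).toMonoidHom = L from hL] at h2

theorem map_ne_bot (g : G) {T : Subgroup G} (h : T ≠ ⊥) :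
    T.map (MulAut.conj g).toMonoidHom ≠ ⊥ := fun h' =>
  h ((Subgroup.map_eq_bot_iff_of_injective _ (MulAut.conj g).injective).1 h')

namespace Loc

variable {L T V C Aa P : Subgroup G} (X : Loc L T V C Aa P) {K : Subgroup G}
include X

/-- An element of `L` fixing `W_K` fixes `K`. -/
theorem conj_le_of_W (Z : ZN G) (hT1 : T ≠ ⊥) (hK : Cfsg.IsJComponent T K) (hKL : K ≤ L) {g : G}
    (hg : g ∈ L) (hW : (Cfsg.wOf K).map (MulAut.conj g).toMonoidHom = Cfsg.wOf K) :
    g ∈ Subgroup.normalizer (K : Set G) := by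
  rw [Subgroup.mem_normalizer_iff_map_conj_eq]
  refine Subgroup.eq_of_le_of_card_ge ?_ (Subgroup.card_map_of_injective (MulAut.conj g).injective).ge
  refine X.unique Z hT1 (isSylowTwoIn_map g X.hT (Subgroup.le_normalizer hg)) (map_ne_bot g hT1) hK
    (isJComponent_map g hK) hKL ?_ (by rw [← hW]; exact wOf_map _ K)
  rintro _ ⟨k, hk, rfl⟩
  exact mul_mem (mul_mem hg (hKL hk)) (inv_mem (s := L) hg)

/-- The four-groups of two components are equal or meet trivially. -/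
theorem W_eq_of_inf (Z : ZN G) (hT1 : T ≠ ⊥) {T' : Subgroup G} (hT' : Cfsg.IsSylowTwoIn T' L)
    (hT'1 : T' ≠ ⊥) (hK : Cfsg.IsJComponent T K) {M : Subgroup G} (hM : Cfsg.IsJComponent T' M)
    (hKL : K ≤ L) (hML : M ≤ L) (h : Cfsg.wOf K ⊓ Cfsg.wOf M ≠ ⊥) :
    Cfsg.wOf M = Cfsg.wOf K := by
  have X' : Loc L T' V C Aa P := { X with hT := hT' }
  obtain ⟨A, a, y, F⟩ := exists_frame (pre_of X.hT.2.1 hK)
  obtain ⟨A', a', m, F'⟩ := exists_frame (pre_of hT'.2.1 hM)
  obtain ⟨z, hz, hz1⟩ := SetLike.exists_of_lt (bot_lt_iff_ne_bot.2 h)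
  have hz1' : z ≠ 1 := fun e => hz1 (e ▸ one_mem _)
  have hmW := X.Aa_normalizes_W Z hT1 hK F hKL (X'.K_le_Aa F'.pre hML F'.hy)
  set D := Cfsg.wOf K ⊓ Cfsg.wOf M with hD
  have hd : Nat.card D ∣ 4 := hM.2.2.2.2.1 ▸ Subgroup.card_dvd_of_le inf_le_right
  have hmz : m * z * m⁻¹ ∈ D := ⟨(Subgroup.mem_normalizer_iff.1 hmW z).1 hz.1,
    F'.conjW (Subgroup.le_normalizer F'.hy) hz.2⟩
  have h3 : 3 ≤ Nat.card D := by
    let g : Fin 3 → D := ![1, ⟨z, hz⟩, ⟨m * z * m⁻¹, hmz⟩]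
    have hg : Function.Injective g := by
      intro i j hij
      have hij' := congrArg Subtype.val hij
      have h0 : m * z * m⁻¹ ≠ z := fun h => hz1' (F'.fpf hz.2 (mul_inv_eq_iff_eq_mul.1 h))
      have h1 : m * z * m⁻¹ ≠ 1 := fun h => hz1' (conj_eq_one_iff.1 h)
      fin_cases i <;> fin_cases j <;> first | rfl | (exfalso; simp [g] at hij')
      all_goals first
        | exact hz1' hij' | exact hz1' hij'.symm | exact h0 hij' | exact h0 hij'.symm
        | exact h1 hij' | exact h1 hij'.symm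
    have := Nat.card_le_card_of_injective g hg
    rwa [Nat.card_fin] at this
  have := Nat.le_of_dvd (by norm_num) hd
  have hD4 : Nat.card D = 4 := by
    rcases (show Nat.card D = 3 ∨ Nat.card D = 4 by omega) with h | h
    · rw [h] at hd; norm_num at hd
    · exact h
  exact ((Subgroup.eq_of_le_of_card_ge (inf_le_right : D ≤ Cfsg.wOf M)
    (by rw [hD4, hM.2.2.2.2.1])).symm.trans
    (Subgroup.eq_of_le_of_card_ge (inf_le_left : D ≤ Cfsg.wOf K) (by rw [hD4, hK.2.2.2.2.1])))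

/-- An element of `J(L)` inverted modulo `C` gives a `J(T)`-component. -/
theorem component_of_pair {A : Subgroup G} (hA : Thompson.IsMaxEAIn 2 T A) {t : G} (ht : t ∈ A)
    {y0 : G} (hy0A : y0 ∈ Aa) (hy0J : y0 ∈ Cfsg.thompsonSubgroupOf 2 L) (hy0C : y0 ∉ C)
    (hty0 : t * y0 * t⁻¹ * y0 ∈ C)
    (hj0 : ∀ j ∈ Cfsg.thompsonSubgroupOf 2 T,
      j * y0 * j⁻¹ * y0⁻¹ ∈ C ∨ j * y0 * j⁻¹ * y0 ∈ C) :
    ∃ K : Subgroup G, Cfsg.IsJComponent T K ∧ K ≤ L ∧
      ∀ M' : Subgroup G, C ≤ M' → K ≤ M' → y0 ∈ M' := by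
  haveI : Fact (Nat.Prime 2) := ⟨Nat.prime_two⟩
  have htL := X.mem_L_of_A hA ht
  have ht2 : t * t = 1 := by rw [← pow_two]; exact hA.2.1.2 t ht
  have hti : t⁻¹ = t := inv_eq_of_mul_eq_one_right ht2
  set J := Cfsg.thompsonSubgroupOf 2 T with hJ
  have htJ : t ∈ J := Thompson.le_thompsonSubgroupOf hA ht
  have hJL := X.J_le
  have hJT : J ≤ Cfsg.thompsonSubgroupOf 2 L := thompson_le_thompson X.hT
  set u := ⁅y0, t⁆ with hu
  have huA : u ∈ Aa := by
    rw [hu, commutatorElement_def, mul_assoc, mul_assoc, ← mul_assoc t]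
    exact mul_mem hy0A ((Subgroup.mem_normalizer_iff.1 (X.hAn htL) _).1 (inv_mem hy0A))
  have hyL0 : y0 ∈ L := X.hAL hy0A
  have huJ : u ∈ Cfsg.thompsonSubgroupOf 2 L := by
    rw [hu, commutatorElement_def]
    exact mul_mem (mul_mem (mul_mem hy0J (hJT htJ)) (inv_mem hy0J)) (inv_mem (hJT htJ))
  have htu : t * u * t⁻¹ = u⁻¹ := by
    rw [hu, commutatorElement_inv, commutatorElement_def, commutatorElement_def]
    calc t * (y0 * t * y0⁻¹ * t⁻¹) * t⁻¹ = t * y0 * t * y0⁻¹ * (t * t)⁻¹ := by group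
      _ = t * y0 * t⁻¹ * y0⁻¹ := by rw [ht2, inv_one, mul_one, hti]
  haveI := X.Cnormal
  set π := QuotientGroup.mk' (C.subgroupOf L) with hπ
  have hone : ∀ g : L, (g : G) ∈ C → π g = 1 := fun g hg => (QuotientGroup.eq_one_iff g).2 hg
  have hof : ∀ g : L, π g = 1 → (g : G) ∈ C := fun g hg => (QuotientGroup.eq_one_iff g).1 hg
  let Y0 : L := ⟨y0, hyL0⟩
  let Te : L := ⟨t, htL⟩
  have hU : π ⁅Y0, Te⁆ = π Y0 * π Y0 := by
    have h1 : π Te * π Y0 * (π Te)⁻¹ * π Y0 = 1 := by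
      rw [← map_inv, ← map_mul, ← map_mul, ← map_mul]
      exact hone _ hty0
    rw [map_commutatorElement]
    generalize π Y0 = b at h1 ⊢
    generalize π Te = s at h1 ⊢
    calc ⁅b, s⁆ = b * (s * b * s⁻¹)⁻¹ := by rw [commutatorElement_def]; group
      _ = b * b := by rw [eq_inv_of_mul_eq_one_left h1, inv_inv]
  have hy03 : (π Y0) ^ 3 = 1 := by rw [← map_pow]; exact hone _ (X.cube_mem y0 hy0A)
  have huC : u ∉ C := by
    intro h
    apply hy0C
    refine X.mem_C_of_pow hy0A (k := 1) ?_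
    rw [pow_one, pow_two]
    refine hof (Y0 * Y0) ?_
    rw [map_mul, ← hU]
    exact hone _ h
  obtain ⟨k, m, hm, hum⟩ :=
    Nat.exists_eq_pow_mul_and_not_dvd (orderOf_pos u).ne' 2 (by norm_num)
  set y := u ^ (2 ^ k) with hy
  have hyA : y ∈ Aa := pow_mem huA _
  have hyJ : y ∈ Cfsg.thompsonSubgroupOf 2 L := pow_mem huJ _
  have hyC : y ∉ C := fun h => huC (X.mem_C_of_pow huA h)
  have hyo : Odd (orderOf y) := by
    rw [hy, orderOf_pow' u (Nat.two_pow_pos k).ne', hum, Nat.gcd_eq_right (dvd_mul_right _ _),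
      Nat.mul_div_cancel_left _ (Nat.two_pow_pos k)]
    exact Nat.odd_iff.2 (by omega)
  have hty : t * y * t⁻¹ = y⁻¹ := by rw [hy, ← conj_pow, htu, inv_pow]
  have hyL : y ∈ L := X.hAL hyA
  haveI := X.Pnormal
  have hy3P : y ^ 3 ∈ P := by
    have hc := X.cube_mem y hyA
    refine X.mem_P_of_pow hc (k := 1) ?_
    have h1 := X.comm_two _ hc t htL (X.two_pow_of_A hA ht)
    rw [commutatorElement_def, mul_assoc, mul_assoc, ← mul_assoc t, ← inv_pow y 3, ← conj_pow,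
      ← conj_inv, hty, inv_inv] at h1
    rwa [pow_one, pow_two]
  set π' := QuotientGroup.mk' (P.subgroupOf L) with hπ'
  have hone' : ∀ g : L, (g : G) ∈ P → π' g = 1 := fun g hg => (QuotientGroup.eq_one_iff g).2 hg
  have hof' : ∀ g : L, π' g = 1 → (g : G) ∈ P := fun g hg => (QuotientGroup.eq_one_iff g).1 hg
  let Y : L := ⟨y, hyL⟩
  -- conjugation by `J(T)`
  have hjC : ∀ j ∈ J, j * y * j⁻¹ * y⁻¹ ∈ C ∨ j * y * j⁻¹ * y ∈ C := by
    intro j hj
    let Je : L := ⟨j, hJL hj⟩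
    have hYn : π Y = (π Y0 * π Y0) ^ (2 ^ k) := by
      rw [← hU, ← map_pow]
      rfl
    rcases hj0 j hj with h | h
    · left
      refine hof (Je * Y * Je⁻¹ * Y⁻¹) ?_
      have h1 : π Je * π Y0 * (π Je)⁻¹ = π Y0 := by
        rw [← mul_inv_eq_one, ← map_inv, ← map_inv, ← map_mul, ← map_mul, ← map_mul]
        exact hone _ h
      rw [map_mul, map_mul, map_mul, map_inv, map_inv, hYn, ← conj_pow,
        show π Je * (π Y0 * π Y0) * (π Je)⁻¹ = (π Je * π Y0 * (π Je)⁻¹) * (π Je * π Y0 * (π Je)⁻¹) by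
          group, h1, mul_inv_cancel]
    · right
      refine hof (Je * Y * Je⁻¹ * Y) ?_
      have h1 : π Je * π Y0 * (π Je)⁻¹ = (π Y0)⁻¹ := by
        rw [← mul_eq_one_iff_eq_inv, ← map_inv, ← map_mul, ← map_mul, ← map_mul]
        exact hone _ h
      rw [map_mul, map_mul, map_mul, map_inv, hYn, ← conj_pow,
        show π Je * (π Y0 * π Y0) * (π Je)⁻¹ = (π Je * π Y0 * (π Je)⁻¹) * (π Je * π Y0 * (π Je)⁻¹) by
          group, h1, ← mul_inv_rev, inv_pow, inv_mul_cancel]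
  have hgP : ∀ g ∈ J, g * y * g⁻¹ * y⁻¹ ∈ C → g * y * g⁻¹ * y⁻¹ ∈ P := by
    intro g hg hc
    obtain ⟨i, hi⟩ := IsPGroup.iff_orderOf.1 X.hT.2.1 ⟨g, Thompson.thompsonSubgroupOf_le 2 T hg⟩
    rw [Subgroup.orderOf_mk] at hi
    set c := g * y * g⁻¹ * y⁻¹ with hc'
    have hcg : π' ⟨c, X.hCL hc⟩ * π' ⟨g, hJL hg⟩ = π' ⟨g, hJL hg⟩ * π' ⟨c, X.hCL hc⟩ := by
      rw [← commutatorElement_eq_one_iff_mul_comm, ← map_commutatorElement]
      exact hone' _ (X.comm_two c hc g (hJL hg) ⟨i, hi⟩)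
    have h1 : π' ⟨g, hJL hg⟩ * π' Y * (π' ⟨g, hJL hg⟩)⁻¹ = π' ⟨c, X.hCL hc⟩ * π' Y := by
      rw [← map_inv, ← map_mul, ← map_mul, ← map_mul]
      congr 1
      apply Subtype.ext
      show g * y * g⁻¹ = c * y
      rw [hc', inv_mul_cancel_right]
    have h2 := conj_pow_of_fix h1 (by rw [← hcg, mul_inv_cancel_right]) (2 ^ i)
    have h3 : (π' ⟨g, hJL hg⟩) ^ (2 ^ i) = 1 := by
      rw [← map_pow]
      refine hone' _ ?_
      show g ^ (2 ^ i) ∈ P
      rw [← hi, pow_orderOf_eq_one]; exact one_mem _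
    rw [h3, one_mul, inv_one, mul_one, eq_comm, mul_eq_right, ← map_pow] at h2
    exact X.mem_P_of_pow hc (hof' _ h2)
  have hjP : ∀ j ∈ J, j * y * j⁻¹ ∈ Subgroup.zpowers y ⊔ P := by
    intro j hj
    have hy' : y ∈ Subgroup.zpowers y ⊔ P := Subgroup.mem_sup_left (Subgroup.mem_zpowers y)
    rcases hjC j hj with h | h
    · have h1 := hgP j hj h
      have := mul_mem (Subgroup.mem_sup_right h1 : _ ∈ Subgroup.zpowers y ⊔ P) hy'
      rwa [inv_mul_cancel_right] at this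
    · have htj : t * j ∈ J := mul_mem htJ hj
      set c := j * y * j⁻¹ * y with hc
      have hcc : t * j * y * (t * j)⁻¹ * y⁻¹ = t * c * t⁻¹ := by
        calc t * j * y * (t * j)⁻¹ * y⁻¹ = t * c * t⁻¹ * ((t * y * t⁻¹)⁻¹ * y⁻¹) := by
              rw [hc]; group
          _ = _ := by rw [hty, inv_inv, mul_inv_cancel, mul_one]
      have hcC : t * c * t⁻¹ ∈ C :=
        (Subgroup.mem_normalizer_iff.1 ((Subgroup.normal_subgroupOf_iff_le_normalizer X.hCL).1
          X.Cnormal htL) c).1 h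
      have h1 := hgP (t * j) htj (by rwa [hcc])
      rw [hcc] at h1
      have h2 : c ∈ P := by
        have h3 := (Subgroup.mem_normalizer_iff.1 (X.hPn htL) c).2 h1
        exact h3
      have := mul_mem (Subgroup.mem_sup_right h2 : c ∈ Subgroup.zpowers y ⊔ P) (inv_mem hy')
      rwa [hc, mul_inv_cancel_right] at this
  set L' := Subgroup.zpowers y ⊔ P with hL'
  have hL'L : L' ≤ L := sup_le (Subgroup.zpowers_le.2 hyL) X.hPL
  have hJL' : J ≤ Subgroup.normalizer (L' : Set G) := by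
    intro j hj
    rw [Subgroup.mem_normalizer_iff_map_conj_eq]
    refine Subgroup.eq_of_le_of_card_ge ?_ (Subgroup.card_map_of_injective (MulAut.conj j).injective).ge
    rw [hL', Subgroup.map_sup, MonoidHom.map_zpowers]
    refine sup_le (Subgroup.zpowers_le.2 ?_)
      ((Subgroup.mem_normalizer_iff_map_conj_eq.1 (X.hPn (hJL hj))).le.trans le_sup_right)
    rw [MonoidHom.coe_coe, MulAut.conj_apply]
    exact hjP j hj
  set K := Subgroup.closure {g : G | g ∈ L' ∧ Odd (orderOf g)} with hK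
  have hKL' : K ≤ L' := (Subgroup.closure_le _).2 fun g hg => hg.1
  have hnorm : Subgroup.normalizer (L' : Set G) ≤ Subgroup.normalizer (K : Set G) := by
    intro g hg
    rw [Subgroup.mem_normalizer_iff_map_conj_eq]
    refine Subgroup.eq_of_le_of_card_ge ?_ (Subgroup.card_map_of_injective (MulAut.conj g).injective).ge
    rw [hK, MonoidHom.map_closure, Subgroup.closure_le]
    rintro _ ⟨x, ⟨hx, ho⟩, rfl⟩
    exact Subgroup.subset_closure ⟨(Subgroup.mem_normalizer_iff.1 hg x).1 hx,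
      by rwa [orderOf_injective _ (MulAut.conj g).injective]⟩
  have hJK : J ≤ Subgroup.normalizer (K : Set G) := hJL'.trans hnorm
  have hPK : P ≤ Subgroup.normalizer (K : Set G) :=
    (le_sup_right.trans Subgroup.le_normalizer).trans hnorm
  have hyK : y ∈ K := Subgroup.subset_closure ⟨Subgroup.mem_sup_left (Subgroup.mem_zpowers y), hyo⟩
  have hyP : y ∉ P := fun h => hyC (X.hPC h)
  have hzn : Subgroup.zpowers y ≤ Subgroup.normalizer (P : Set G) :=
    (Subgroup.zpowers_le.2 hyL).trans X.hPn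
  have hdec : ∀ g ∈ L', ∃ i : ℤ, ∃ p ∈ P, g = y ^ i * p := by
    intro g hg
    have h : g ∈ ((Subgroup.zpowers y : Set G) * (P : Set G)) := by
      rw [← Subgroup.coe_mul_of_left_le_normalizer_right (Subgroup.zpowers y) P hzn]
      exact hg
    obtain ⟨_, ⟨i, rfl⟩, p, hp, rfl⟩ := Set.mem_mul.1 h
    exact ⟨i, p, hp, rfl⟩
  have hKP : ((K ⊓ P).subgroupOf K).Normal := by
    refine (Subgroup.normal_subgroupOf_iff_le_normalizer inf_le_left).2 ?_
    rw [Subgroup.le_normalizer_iff]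
    intro g hg x hx
    exact ⟨mul_mem (mul_mem hg hx.1) (inv_mem (s := K) hg),
      (Subgroup.mem_normalizer_iff.1 (X.hPn (hL'L (hKL' hg))) x).1 hx.2⟩
  haveI := hKP
  set N := (K ⊓ P).subgroupOf K with hN
  let Yk : K := ⟨y, hyK⟩
  have hYk : orderOf (QuotientGroup.mk' N Yk) = 3 := by
    haveI : Fact (Nat.Prime 3) := ⟨Nat.prime_three⟩
    refine orderOf_eq_prime ?_ (fun h => hyP ((QuotientGroup.eq_one_iff Yk).1 h).2)
    rw [← map_pow]
    exact (QuotientGroup.eq_one_iff (Yk ^ 3)).2 ⟨pow_mem hyK 3, hy3P⟩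
  have hgenq : ∀ q : K ⧸ N, q ∈ Subgroup.zpowers (QuotientGroup.mk' N Yk) := by
    intro q
    obtain ⟨g, rfl⟩ := QuotientGroup.mk'_surjective N q
    obtain ⟨i, p, hp, hg⟩ := hdec _ (hKL' g.2)
    refine ⟨i, ?_⟩
    have hpK : p ∈ K := by
      rw [show p = (y ^ i)⁻¹ * (g : G) by rw [hg]; group]
      exact mul_mem (inv_mem (zpow_mem hyK i)) g.2
    show (QuotientGroup.mk' N Yk) ^ i = QuotientGroup.mk' N g
    rw [← map_zpow, QuotientGroup.mk'_apply, QuotientGroup.mk'_apply, QuotientGroup.eq,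
      Subgroup.mem_subgroupOf]
    refine ⟨SetLike.coe_mem _, ?_⟩
    simp only [Subgroup.coe_mul, Subgroup.coe_inv, SubgroupClass.coe_zpow]
    rw [hg, inv_mul_cancel_left]
    exact hp
  have hindex : N.index = 3 := by
    rw [Subgroup.index, ← orderOf_eq_card_of_forall_mem_zpowers hgenq, hYk]
  have hcore : Cfsg.pCoreOf 2 K = K ⊓ P := by
    refine le_antisymm (fun x hx => ⟨CharP.opIn_le K hx, ?_⟩)
      (CharP.le_opIn inf_le_left ((Subgroup.normal_subgroupOf_iff_le_normalizer inf_le_left).1 hKP)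
        (X.hP.to_le inf_le_right))
    by_contra hxP
    have hx' : x ∈ CharP.opIn 2 K := hx
    obtain ⟨i, hi⟩ := IsPGroup.iff_orderOf.1 (CharP.opIn_isPGroup (p := 2) K) ⟨x, hx'⟩
    rw [Subgroup.orderOf_mk] at hi
    let Xk : K := ⟨x, CharP.opIn_le K hx⟩
    have h1 : orderOf (QuotientGroup.mk' N Xk) ∣ 3 := by
      rw [← hindex]; exact orderOf_dvd_natCard _
    have h2 : orderOf (QuotientGroup.mk' N Xk) ∣ 2 ^ i := by
      rw [← hi, ← Subgroup.orderOf_mk x (CharP.opIn_le K hx)]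
      exact orderOf_map_dvd _ Xk
    have h3 := Nat.eq_one_of_dvd_coprimes ((by norm_num : Nat.Coprime 2 3).pow_left i) h2 h1
    rw [orderOf_eq_one_iff, QuotientGroup.mk'_apply, QuotientGroup.eq_one_iff] at h3
    exact hxP h3.2
  have hpre : Pre T K := by
    refine ⟨le_antisymm ((Subgroup.closure_le _).2 fun g hg => hg.1) ((Subgroup.closure_le _).2
      fun g hg => Subgroup.subset_closure ⟨Subgroup.subset_closure hg, hg.2⟩), ?_, ?_, ?_, X.hT.2.1⟩
    · rw [← hJ]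
      have hle : ⁅K, J⁆ ≤ K := Subgroup.le_normalizer_iff_commutator_le_left.1 hJK
      refine le_antisymm hle ?_
      have hy2 : y * y ∈ ⁅K, J⁆ := by
        have h := Subgroup.commutator_mem_commutator hyK htJ
        rwa [commutatorElement_def, show y * t * y⁻¹ * t⁻¹ = y * (t * y⁻¹ * t⁻¹) by group,
          ← conj_inv, hty, inv_inv] at h
      have hyK1 : y ∈ ⁅K, J⁆ := by
        obtain ⟨i, hi⟩ := exists_pow_eq_self_of_coprime (n := 2) (x := y) (Nat.coprime_two_left.2 hyo)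
        rw [← hi, pow_two]
        exact pow_mem hy2 i
      rw [hK, Subgroup.closure_le]
      intro g hg
      have hgK : g ∈ K := Subgroup.subset_closure hg
      obtain ⟨i, p, hp, hgip⟩ := hdec _ hg.1
      have hpK : p ∈ K := by
        rw [show p = (y ^ i)⁻¹ * g by rw [hgip]; group]
        exact mul_mem (inv_mem (zpow_mem hyK i)) hgK
      refine odd_mem_of_sup (X.hP.to_le (inf_le_right : K ⊓ P ≤ P))
        (inf_le_left.trans (Subgroup.normalizer_commutator_ge_left K J)) ?_ hg.2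
      rw [hgip]
      exact mul_mem (Subgroup.mem_sup_left (zpow_mem hyK1 i)) (Subgroup.mem_sup_right ⟨hpK, hp⟩)
    · rw [hcore]
      exact hindex
    · intro S hS hJS
      exact thompson_eq X.hT (hS.1.trans (sup_le (hKL'.trans hL'L) X.J_le)) hS.2.1 hJS
  have hW : Cfsg.wOf K ≠ ⊥ := by
    obtain ⟨v, hv, hv1⟩ : ∃ v ∈ V, y * v * y⁻¹ * v⁻¹ ≠ 1 := by
      by_contra hcon
      push Not at hcon
      apply hyC
      rw [X.hC]
      exact ⟨hyL, Subgroup.mem_centralizer_iff.2 fun v hv =>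
        (mul_inv_eq_iff_eq_mul.1 (mul_inv_eq_one.1 (hcon v hv))).symm⟩
    set x := y * v * y⁻¹ * v⁻¹ with hx
    have hxV : x ∈ V := mul_mem ((Subgroup.mem_normalizer_iff.1 (X.hVn hyL) v).1 hv) (inv_mem hv)
    have hxK : x ∈ K := by
      rw [hx, mul_assoc, mul_assoc, ← mul_assoc v]
      exact mul_mem hyK ((Subgroup.mem_normalizer_iff.1 (hPK (X.hVP hv)) _).1 (inv_mem hyK))
    have hxQ : x ∈ Cfsg.omegaCenterOf (Cfsg.pCoreOf 2 K) := by
      rw [hcore]
      refine OmegaOne.mem ⟨⟨hxK, X.hVP hxV⟩, Subgroup.mem_centralizer_iff.2 fun q hq => ?_⟩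
        (X.hV.2 x hxV)
      have hqC := X.hPC hq.2
      rw [X.hC] at hqC
      exact (Subgroup.mem_centralizer_iff.1 hqC.2 x hxV).symm
    intro hbot
    apply hv1
    have h1 : ⁅x, y⁆ = 1 := by
      have := Subgroup.commutator_mem_commutator hxQ hyK
      rwa [← Cfsg.wOf, hbot, Subgroup.mem_bot] at this
    rw [commutatorElement_eq_one_iff_mul_comm] at h1
    have hfix : y * x * y⁻¹ = x := by rw [← h1, mul_inv_cancel_right]
    have key := conj_pow_of_fix (g := y) (y := v) (c := x) (by rw [hx]; group) hfix (orderOf y)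
    rw [pow_orderOf_eq_one, inv_one, one_mul, mul_one, eq_comm, mul_eq_right] at key
    obtain ⟨n, hn⟩ := hyo
    rwa [hn, pow_succ, pow_mul, X.hV.2 x hxV, one_pow, one_mul] at key
  obtain ⟨hW4, hW2⟩ := hpre.card_wOf hW
  refine ⟨K, ⟨hpre.hgen, hpre.hKJ, hpre.hidx, hpre.hS, hW4, hW2⟩, hKL'.trans hL'L,
    fun M' hCM hKM => ?_⟩
  have hu3 : u ^ 3 ∈ M' := hCM (X.cube_mem u huA)
  have huM : u ∈ M' :=
    mem_of_coprime_pow ((by norm_num : Nat.Coprime 3 2).pow_right k) hu3 (hKM hyK)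
  have h2 : (y0 * y0)⁻¹ * u ∈ C := by
    refine hof ((Y0 * Y0)⁻¹ * ⁅Y0, Te⁆) ?_
    rw [map_mul, hU, map_inv, map_mul, inv_mul_cancel]
  have h4 : y0 * y0 ∈ M' := by
    have := mul_mem huM (inv_mem (hCM h2))
    rwa [mul_inv_rev, inv_inv, mul_inv_cancel_left] at this
  have h5 : y0 ^ 3 ∈ M' := hCM (X.cube_mem y0 hy0A)
  exact mem_of_coprime_pow (by norm_num : Nat.Coprime 3 2) h5 (by rwa [pow_two])

/-- A member of `ℒ(T)` contains a `J(T)`-component. -/
theorem exists_component (hJO : ¬ Cfsg.thompsonSubgroupOf 2 T ≤ P) :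
    ∃ K : Subgroup G, Cfsg.IsJComponent T K ∧ K ≤ L := by
  haveI : Fact (Nat.Prime 2) := ⟨Nat.prime_two⟩
  have hne : ¬ Cfsg.thompsonSubgroupOf 2 T ≤ C := by
    intro h
    apply hJO
    intro j hj
    obtain ⟨k, hk⟩ := IsPGroup.iff_orderOf.1 X.hT.2.1 ⟨j, Thompson.thompsonSubgroupOf_le 2 T hj⟩
    exact X.two_mem j (h hj) ⟨k, by rwa [Subgroup.orderOf_mk] at hk⟩
  rw [Thompson.thompsonSubgroupOf_eq, sSup_le_iff] at hne
  push Not at hne
  obtain ⟨A, hA, hAC⟩ := hne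
  obtain ⟨t, ht, y0, hy0A, hy0J, hy0C, hty0, hj0⟩ :=
    X.exists_pair A (isMax_of_sylowTwoIn X.hT hA) hAC
  obtain ⟨K, hK, hKL, -⟩ := X.component_of_pair hA ht hy0A hy0J hy0C hty0
    (fun j hj => hj0 j (thompson_le_thompson X.hT hj))
  exact ⟨K, hK, hKL⟩

end Loc

theorem centralizer_pCoreOf_normalizer (Z : ZN G) {W : Subgroup G} (hW : IsPGroup 2 W) (hW1 : W ≠ ⊥) :
    Subgroup.centralizer (Cfsg.pCoreOf 2 (Subgroup.normalizer (W : Set G)) : Set G) ≤
      Cfsg.pCoreOf 2 (Subgroup.normalizer (W : Set G)) := by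
  intro g hg
  set N := Subgroup.normalizer (W : Set G) with hN
  have hWO : W ≤ Cfsg.pCoreOf 2 N := CharP.le_opIn Subgroup.le_normalizer le_rfl hW
  have hgN : g ∈ N := Subgroup.centralizer_le_normalizer _ (Subgroup.centralizer_le hWO hg)
  exact ⟨⟨g, hgN⟩, Z.hL.2 W hW hW1 (Subgroup.mem_centralizer_iff.2 fun x hx =>
    Subtype.ext (Subgroup.mem_centralizer_iff.1 hg x ⟨x, hx, rfl⟩)), rfl⟩

/-- `N(W_K)` is a member of `ℒ(S)` for a Sylow subgroup `S` containing `J(T)`. -/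
theorem exists_loc_normalizer (Z : ZN G) {T K : Subgroup G} (hT : IsPGroup 2 T)
    (hK : K ∈ Cfsg.jComponentsZero T) :
    ∃ S V C Aa P, Cfsg.thompsonSubgroupOf 2 S = Cfsg.thompsonSubgroupOf 2 T ∧
      Cfsg.thompsonSubgroupOf 2 T ≤ S ∧ S ≠ ⊥ ∧
      Loc (Subgroup.normalizer (Cfsg.wOf K : Set G)) S V C Aa P ∧ Cfsg.IsJComponent S K := by
  haveI : Fact (Nat.Prime 2) := ⟨Nat.prime_two⟩
  obtain ⟨hKc, hK0⟩ := hK
  obtain ⟨A, a, y, F⟩ := exists_frame (pre_of hT hKc)
  set N := Subgroup.normalizer (Cfsg.wOf K : Set G) with hN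
  have hW2 : IsPGroup 2 (Cfsg.wOf K) := FF.isPGroup_of_ea F.W_ea
  have hJN : Cfsg.thompsonSubgroupOf 2 T ≤ N := F.pre.le_normalizer.trans (normalizer_le_wOf K)
  obtain ⟨S, hS, hJS⟩ := exists_sylowTwoIn hJN (hT.to_le (Thompson.thompsonSubgroupOf_le 2 T))
  have hJeq := hK0 S hJS hS
  have hS1 : S ≠ ⊥ := by
    intro h
    apply wOf_ne_bot hKc
    obtain ⟨g, hg, hle⟩ := exists_conj_le hS Subgroup.le_normalizer hW2
    rw [h, le_bot_iff] at hle
    exact (Subgroup.map_eq_bot_iff_of_injective _ (MulAut.conj g).injective).1 hle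
  have hKN : K ≤ N := Subgroup.le_normalizer.trans (normalizer_le_wOf K)
  have hjo : N ∈ Cfsg.jOvergroups S := by
    refine ⟨hS, ?_, centralizer_pCoreOf_normalizer Z hW2 (wOf_ne_bot hKc)⟩
    rw [hJeq]
    intro hle
    have hKO : K ≤ Cfsg.pCoreOf 2 N := by
      rw [← hKc.2.1, Subgroup.commutator_le]
      intro k hk j hj
      rw [commutatorElement_def]
      exact mul_mem ((Subgroup.mem_normalizer_iff.1 (CharP.le_normalizer_opIn (p := 2) N (hKN hk)) j).1
        (hle hj)) (inv_mem (hle hj))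
    apply F.hyQ
    rw [eq_one_of_odd_two F.hyo (CharP.opIn_isPGroup N) (hKO F.hy)]
    exact one_mem _
  obtain ⟨V, C, Aa, P, X⟩ := exists_loc Z hS.2.1 hS1 hjo
  exact ⟨S, V, C, Aa, P, hJeq, hJS, hS1, X, isJComponent_congr hKc hJeq⟩

theorem normalizer_eq (Z : ZN G) {T K : Subgroup G} (hT : IsPGroup 2 T)
    (hK : K ∈ Cfsg.jComponentsZero T) :
    Subgroup.normalizer (K : Set G) = Subgroup.normalizer (Cfsg.wOf K : Set G) := by
  obtain ⟨S, V, C, Aa, P, -, -, hS1, X, hKS⟩ := exists_loc_normalizer Z hT hK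
  exact le_antisymm (normalizer_le_wOf K) fun g hg =>
    X.conj_le_of_W Z hS1 hKS (Subgroup.le_normalizer.trans (normalizer_le_wOf K)) hg
      (Subgroup.mem_normalizer_iff_map_conj_eq.1 hg)

theorem isJComponent_conj (Z : ZN G) {T K : Subgroup G} (hT : IsPGroup 2 T)
    (hK : K ∈ Cfsg.jComponentsZero T) (g : G)
    (hg : Cfsg.thompsonSubgroupOf 2 (T.map (MulAut.conj g).toMonoidHom) ≤
      Subgroup.normalizer (Cfsg.wOf K : Set G)) :
    Cfsg.IsJComponent (T.map (MulAut.conj g).toMonoidHom) K := by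
  haveI : Fact (Nat.Prime 2) := ⟨Nat.prime_two⟩
  obtain ⟨S, V, C, Aa, P, hJeq, hJS, -, X, hKS⟩ := exists_loc_normalizer Z hT hK
  set T' := T.map (MulAut.conj g).toMonoidHom with hT'
  set N := Subgroup.normalizer (Cfsg.wOf K : Set G) with hN
  have hT'2 : IsPGroup 2 T' := hT.map _
  obtain ⟨n, hn, hle⟩ := exists_conj_le X.hT hg (hT'2.to_le (Thompson.thompsonSubgroupOf_le 2 T'))
  set J := Cfsg.thompsonSubgroupOf 2 T with hJ
  have hJ' : Cfsg.thompsonSubgroupOf 2 T' = J.map (MulAut.conj g).toMonoidHom :=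
    Thompson.thompsonSubgroupOf_map_of_injective _ _ (MulAut.conj g).injective
  have hmax : (Cfsg.thompsonSubgroupOf 2 T').map (MulAut.conj n).toMonoidHom ≤ J := by
    rw [Thompson.thompsonSubgroupOf_eq 2 T', sSup_eq_iSup', Subgroup.map_iSup]
    refine iSup_le fun B => ?_
    refine le_trans ?_ (hJeq ▸ le_rfl : Cfsg.thompsonSubgroupOf 2 S ≤ J)
    refine Thompson.le_thompsonSubgroupOf ⟨(Subgroup.map_mono
      (Thompson.le_thompsonSubgroupOf B.2)).trans hle, Thompson.isElementaryAbelian_map _ B.2.2.1,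
      fun D hD hDe => ?_⟩
    obtain ⟨A, hA⟩ := Thompson.exists_isMaxEAIn 2 T
    have hAS := isMax_of_thompson_eq hA hJS hJeq
    refine (hAS.2.2 D hD hDe).trans ?_
    rw [Subgroup.card_map_of_injective (K := (B : Subgroup G)) (f := (MulAut.conj n).toMonoidHom)
      (MulAut.conj n).injective, ← Subgroup.card_map_of_injective (K := A)
      (f := (MulAut.conj g).toMonoidHom) (MulAut.conj g).injective]
    exact B.2.2.2 _ (Subgroup.map_mono hA.1) (Thompson.isElementaryAbelian_map _ hA.2.1)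
  have heq : (Cfsg.thompsonSubgroupOf 2 T').map (MulAut.conj n).toMonoidHom = J := by
    refine Subgroup.eq_of_le_of_card_ge hmax ?_
    rw [Subgroup.card_map_of_injective (K := Cfsg.thompsonSubgroupOf 2 T')
      (f := (MulAut.conj n).toMonoidHom) (MulAut.conj n).injective, hJ',
      Subgroup.card_map_of_injective (MulAut.conj g).injective]
  have hnK : K.map (MulAut.conj n⁻¹).toMonoidHom = K :=
    Subgroup.mem_normalizer_iff_map_conj_eq.1
      ((normalizer_eq Z hT hK).ge (inv_mem hn))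
  have h2 := isJComponent_map n⁻¹ hK.1
  rw [hnK] at h2
  refine isJComponent_congr h2 ?_
  rw [Thompson.thompsonSubgroupOf_map_of_injective T (MulAut.conj n⁻¹).toMonoidHom
    (MulAut.conj n⁻¹).injective, ← hJ, ← heq,
    Subgroup.map_map]
  conv_lhs => rw [← Subgroup.map_id (Cfsg.thompsonSubgroupOf 2 T')]
  congr 1
  ext x
  simp [mul_assoc]

theorem normalizes_component (Z : ZN G) {T L K : Subgroup G} (hT : IsPGroup 2 T) (hT1 : T ≠ ⊥)
    (hLT : L ∈ Cfsg.jOvergroups T) (hK : Cfsg.IsJComponent T K) (hKL : K ≤ L)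
    (hZW : T ⊓ Subgroup.centralizer (T : Set G) ⊓ Cfsg.wOf K ≠ ⊥) :
    T ≤ Subgroup.normalizer (K : Set G) := by
  obtain ⟨V, C, Aa, P, X⟩ := exists_loc Z hT hT1 hLT
  obtain ⟨z, ⟨⟨hzT, hzc⟩, hzW⟩, hz1⟩ := SetLike.exists_of_lt (bot_lt_iff_ne_bot.2 hZW)
  intro t ht
  have htL : t ∈ L := X.hT.1 ht
  refine X.conj_le_of_W Z hT1 hK hKL htL ?_
  rw [← wOf_map]
  refine X.W_eq_of_inf Z hT1 (T' := T.map (MulAut.conj t).toMonoidHom)
    (isSylowTwoIn_map t X.hT (Subgroup.le_normalizer htL)) (map_ne_bot t hT1) hK (isJComponent_map t hK)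
    hKL ?_ ?_
  · rintro _ ⟨k, hk, rfl⟩
    exact mul_mem (mul_mem htL (hKL hk)) (inv_mem (s := L) htL)
  · intro hbot
    apply hz1
    rw [← hbot]
    refine ⟨hzW, ?_⟩
    rw [wOf_map]
    refine ⟨z, hzW, ?_⟩
    rw [MulEquiv.coe_toMonoidHom, MulAut.conj_apply, Subgroup.mem_centralizer_iff.1 hzc t ht,
      mul_inv_cancel_right]

end Cfsg.Agent.JComp
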