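import Cfsg.Agent.Lib.JComp.Orbit

/-!
Two minimal parabolics `P t`, `P f` over a common 2-group `T`, each inducing `S₃` on a normal
fours-group `W b`: conjugation bookkeeping, walks, and the existence of a critical pair.
-/

set_option autoImplicit false
set_option linter.style.haveILetI false
set_option linter.unusedSectionVars false
open scoped commutatorElement Pointwise

namespace Cfsg.Agent.JComp.Amalgam

open Cfsg.Agent

universe u

variable {G : Type u} [Group G]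

/-- The conjugate of `H` by `x`. -/
def cj (x : G) (H : Subgroup G) : Subgroup G := H.map (MulAut.conj x).toMonoidHom

theorem mem_cj {x g : G} {H : Subgroup G} : g ∈ cj x H ↔ x⁻¹ * g * x ∈ H := by
  constructor
  · rintro ⟨h, hh, rfl⟩
    simpa [mul_assoc] using hh
  · intro h
    exact ⟨_, h, by simp [mul_assoc]⟩

theorem conj_mem_cj {x g : G} {H : Subgroup G} (h : g ∈ H) : x * g * x⁻¹ ∈ cj x H := ⟨g, h, rfl⟩

theorem cj_one (H : Subgroup G) : cj 1 H = H := by ext g; simp [mem_cj]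

theorem cj_mul (x y : G) (H : Subgroup G) : cj (x * y) H = cj x (cj y H) := by
  ext g; simp [mem_cj, mul_assoc]

theorem cj_mono {x : G} {H K : Subgroup G} (h : H ≤ K) : cj x H ≤ cj x K := Subgroup.map_mono h

theorem cj_eq_self {x : G} {H : Subgroup G} (h : x ∈ Subgroup.normalizer (H : Set G)) : cj x H = H :=
  Subgroup.mem_normalizer_iff_map_conj_eq.1 h

theorem mem_normalizer_of_cj {x : G} {H : Subgroup G} (h : cj x H = H) :
    x ∈ Subgroup.normalizer (H : Set G) := Subgroup.mem_normalizer_iff_map_conj_eq.2 h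

theorem cj_le_iff {x : G} {H K : Subgroup G} : cj x H ≤ K ↔ H ≤ cj x⁻¹ K := by
  constructor
  · intro h g hg
    rw [mem_cj, inv_inv]
    exact h (conj_mem_cj hg)
  · intro h g hg
    have := h (mem_cj.1 hg)
    simpa [mem_cj, mul_assoc] using this

theorem cj_le_cj_iff {x : G} {H K : Subgroup G} : cj x H ≤ cj x K ↔ H ≤ K := by
  rw [cj_le_iff, ← cj_mul, inv_mul_cancel, cj_one]

/-- One side of the configuration. -/
structure Side (T P W : Subgroup G) (w : G) : Prop where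
  hW : Cfsg.IsElementaryAbelian 2 W
  hW4 : Nat.card W = 4
  hWT : W ≤ T
  hTP : T ≤ P
  hidx : T.relIndex P = 3
  hWn : P ≤ Subgroup.normalizer (W : Set G)
  hQn : P ≤ Subgroup.normalizer ((T ⊓ Subgroup.centralizer (W : Set G) : Subgroup G) : Set G)
  hfix : ∀ x ∈ W, (∀ p ∈ P, p * x = x * p) → x = 1
  hne : ¬ T ≤ Subgroup.centralizer (W : Set G)
  hw : w ∈ W
  hw1 : w ≠ 1
  hwT : ∀ t ∈ T, t * w = w * t
  hwu : ∀ x ∈ W, (∀ t ∈ T, t * x = x * t) → x = 1 ∨ x = w

namespace Side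

variable {T P W : Subgroup G} {w : G} (S : Side T P W w)
include S

theorem comm {a b : G} (ha : a ∈ W) (hb : b ∈ W) : a * b = b * a :=
  Thompson.commute_of_isElementaryAbelian S.hW ha hb

theorem sq {a : G} (ha : a ∈ W) : a * a = 1 := by rw [← pow_two]; exact S.hW.2 a ha

theorem finiteW : Finite W := Nat.finite_of_card_ne_zero (by rw [S.hW4]; omega)

theorem W_le_Q : W ≤ T ⊓ Subgroup.centralizer (W : Set G) :=
  le_inf S.hWT fun x hx => Subgroup.mem_centralizer_iff.2 fun y hy => S.comm hy hx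

theorem conjW {p x : G} (hp : p ∈ P) (hx : x ∈ W) : p * x * p⁻¹ ∈ W :=
  (Subgroup.mem_normalizer_iff.1 (S.hWn hp) x).1 hx

/-- Any four elements list `W`. -/
theorem eq_of_mem {u x : G} (hu : u ∈ W) (huw : u ≠ w) (hu1 : u ≠ 1) (hx : x ∈ W) :
    x = 1 ∨ x = w ∨ x = u ∨ x = w * u := by
  by_contra hcon
  push Not at hcon
  haveI := S.finiteW
  have h1 : w * u ≠ 1 := fun h => huw (mul_left_cancel (h.trans (S.sq S.hw).symm))
  have h2 : w * u ≠ w := fun h => hu1 (mul_eq_left.1 h)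
  have h3 : w * u ≠ u := fun h => S.hw1 (mul_eq_right.1 h)
  have hfin : (W : Set G).Finite := Set.toFinite _
  have h5 : ({(1 : G), w, u, w * u, x} : Set G).ncard = 5 := by
    rw [Set.ncard_insert_of_notMem (by simp [Ne.symm S.hw1, Ne.symm hu1, Ne.symm h1, Ne.symm hcon.1]),
      Set.ncard_insert_of_notMem (by simp [Ne.symm huw, Ne.symm h2, Ne.symm hcon.2.1]),
      Set.ncard_insert_of_notMem (by simp [Ne.symm h3, Ne.symm hcon.2.2.1]),
      Set.ncard_insert_of_notMem (by simp [Ne.symm hcon.2.2.2]), Set.ncard_singleton]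
  have h4 : ({(1 : G), w, u, w * u, x} : Set G).ncard ≤ (W : Set G).ncard := by
    refine Set.ncard_le_ncard ?_ hfin
    rintro z (rfl | rfl | rfl | rfl | rfl)
    · exact one_mem W
    · exact S.hw
    · exact hu
    · exact mul_mem S.hw hu
    · exact hx
  rw [h5, ← Nat.card_coe_set_eq] at h4
  simp only [SetLike.coe_sort_coe, S.hW4] at h4
  omega

theorem exists_other : ∃ u ∈ W, u ≠ w ∧ u ≠ 1 := by
  by_contra hcon
  push Not at hcon
  haveI := S.finiteW
  have h : (W : Set G) ⊆ ({1, w} : Set G) := fun x hx => by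
    by_cases h : x = w
    · exact Or.inr h
    · exact Or.inl (hcon x hx h)
  have h2 : (W : Set G).ncard ≤ 2 :=
    (Set.ncard_le_ncard h (Set.toFinite _)).trans ((Set.ncard_insert_le _ _).trans (by simp))
  rw [← Nat.card_coe_set_eq] at h2
  simp only [SetLike.coe_sort_coe, S.hW4] at h2
  omega

/-- `T` moves `u ≠ w` to `u` or `w u`. -/
theorem conj_cases {t u : G} (ht : t ∈ T) (hu : u ∈ W) (huw : u ≠ w) (hu1 : u ≠ 1) :
    t * u * t⁻¹ = u ∨ t * u * t⁻¹ = w * u := by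
  rcases S.eq_of_mem hu huw hu1 (S.conjW (S.hTP ht) hu) with h | h | h | h
  · exact absurd (conj_eq_one_iff.1 h) hu1
  · exfalso
    apply huw
    have h2 : t * u * t⁻¹ = t * w * t⁻¹ := by
      rw [h, S.hwT t ht, mul_inv_cancel_right]
    exact mul_left_cancel (mul_right_cancel h2)
  · exact Or.inl h
  · exact Or.inr h

theorem fixes_imp {t u : G} (ht : t ∈ T) (hu : u ∈ W) (huw : u ≠ w) (hu1 : u ≠ 1)
    (h : t * u = u * t) : t ∈ Subgroup.centralizer (W : Set G) := by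
  refine Subgroup.mem_centralizer_iff.2 fun x hx => ?_
  rcases S.eq_of_mem hu huw hu1 hx with rfl | rfl | rfl | rfl
  · simp
  · exact (S.hwT t ht).symm
  · exact h.symm
  · exact (Commute.mul_right (show Commute t w from S.hwT t ht) (show Commute t u from h)).eq.symm

/-- `T/Q` has order 2. -/
theorem mul_mem_Q {s t : G} (hs : s ∈ T) (ht : t ∈ T) (hs' : s ∉ Subgroup.centralizer (W : Set G))
    (ht' : t ∉ Subgroup.centralizer (W : Set G)) : s * t ∈ T ⊓ Subgroup.centralizer (W : Set G) := by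
  obtain ⟨u, hu, huw, hu1⟩ := S.exists_other
  have hm : ∀ r ∈ T, r ∉ Subgroup.centralizer (W : Set G) → r * u * r⁻¹ = w * u := fun r hr hr' =>
    (S.conj_cases hr hu huw hu1).resolve_left fun h =>
      hr' (S.fixes_imp hr hu huw hu1 (mul_inv_eq_iff_eq_mul.1 h))
  refine ⟨mul_mem hs ht, S.fixes_imp (mul_mem hs ht) hu huw hu1 (mul_inv_eq_iff_eq_mul.1 ?_)⟩
  calc s * t * u * (s * t)⁻¹ = s * (t * u * t⁻¹) * s⁻¹ := by group
    _ = (s * w * s⁻¹) * (s * u * s⁻¹) := by rw [hm t ht ht']; group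
    _ = u := by
      rw [S.hwT s hs, mul_inv_cancel_right, hm s hs hs', ← mul_assoc, S.sq S.hw, one_mul]

/-- Commutators of `T` with `W` are `1` or `w`. -/
theorem comm_cases {t x : G} (ht : t ∈ T) (hx : x ∈ W) : ⁅t, x⁆ = 1 ∨ ⁅t, x⁆ = w := by
  by_cases hxw : x = w
  · left; rw [hxw, commutatorElement_eq_one_iff_mul_comm]; exact S.hwT t ht
  by_cases hx1 : x = 1
  · left; rw [hx1]; exact commutatorElement_one_right t
  rcases S.conj_cases ht hx hxw hx1 with h | h
  · left; rw [commutatorElement_def, h, mul_inv_cancel]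
  · right; rw [commutatorElement_def, h, mul_inv_cancel_right]

/-- Commutators of `W` with `T` are `1` or `w`. -/
theorem comm_cases' {t x : G} (ht : t ∈ T) (hx : x ∈ W) : ⁅x, t⁆ = 1 ∨ ⁅x, t⁆ = w := by
  rw [← commutatorElement_inv]
  rcases S.comm_cases ht hx with h | h
  · exact Or.inl (by rw [h, inv_one])
  · exact Or.inr (by rw [h, inv_eq_of_mul_eq_one_right (S.sq S.hw)])

variable [Finite G]

/-- `T` is maximal in `P`. -/
theorem eq_of_between {H : Subgroup G} (hTH : T ≤ H) (hHP : H ≤ P) {k : G} (hk : k ∈ H) (hkT : k ∉ T) :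
    H = P := by
  have hmul := Subgroup.relIndex_mul_relIndex T H P hTH hHP
  rw [S.hidx] at hmul
  have h1 : T.relIndex H ≠ 1 := fun h => hkT (Subgroup.relIndex_eq_one.1 h hk)
  have h3 : T.relIndex H = 3 :=
    (Nat.prime_three.eq_one_or_self_of_dvd _ ⟨_, hmul.symm⟩).resolve_left h1
  rw [h3] at hmul
  exact le_antisymm hHP (Subgroup.relIndex_eq_one.1 (by omega))

/-- The stabilizer of `w` in `P` is `T`. -/
theorem mem_T_of_fix {k : G} (hk : k ∈ P) (h : k * w * k⁻¹ = w) : k ∈ T := by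
  by_contra hkT
  set H := P ⊓ Subgroup.centralizer ({w} : Set G) with hH
  have hTH : T ≤ H := le_inf S.hTP fun t ht => Subgroup.mem_centralizer_singleton_iff.2 (S.hwT t ht)
  have hkH : k ∈ H := ⟨hk, Subgroup.mem_centralizer_singleton_iff.2 (mul_inv_eq_iff_eq_mul.1 h)⟩
  have hHP := S.eq_of_between hTH inf_le_left hkH hkT
  exact S.hw1 (S.hfix w S.hw fun p hp => Subgroup.mem_centralizer_singleton_iff.1 (hHP.ge hp).2)

theorem cent_le {p : G} (hp : p ∈ P) (h : p ∈ Subgroup.centralizer (W : Set G)) :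
    p ∈ T ⊓ Subgroup.centralizer (W : Set G) :=
  ⟨S.mem_T_of_fix hp (mul_inv_eq_iff_eq_mul.2 (Subgroup.mem_centralizer_iff.1 h w S.hw).symm), h⟩

theorem exists_notMem : ∃ k ∈ P, k ∉ T := by
  refine SetLike.not_le_iff_exists.1 fun h => ?_
  have := Subgroup.relIndex_eq_one.2 h
  rw [S.hidx] at this
  omega

/-- Two Sylow subgroups of `P` meet in `Q`. -/
theorem inf_cj {k : G} (hk : k ∈ P) (hkT : k ∉ T) :
    T ⊓ cj k T ≤ Subgroup.centralizer (W : Set G) := by
  intro t ht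
  obtain ⟨u, hu, huw, hu1⟩ : ∃ u, u = k * w * k⁻¹ ∧ u ≠ w ∧ u ≠ 1 :=
    ⟨_, rfl, fun h => hkT (S.mem_T_of_fix hk h), fun h => S.hw1 (conj_eq_one_iff.1 h)⟩
  have huW : u ∈ W := hu ▸ S.conjW hk S.hw
  refine S.fixes_imp ht.1 huW huw hu1 ?_
  have h := S.hwT _ (mem_cj.1 ht.2)
  rw [hu]
  calc t * (k * w * k⁻¹) = k * (k⁻¹ * t * k * w) * k⁻¹ := by group
    _ = k * w * k⁻¹ * t := by rw [h]; group

/-- `P ∖ T` is a single double coset. -/
theorem double_coset {k k' : G} (hk : k ∈ P) (hkT : k ∉ T) (hk' : k' ∈ P) (hk'T : k' ∉ T) :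
    ∃ t ∈ T, (t * k)⁻¹ * k' ∈ T := by
  have hu : ∀ r, r ∈ P → r ∉ T → r * w * r⁻¹ ∈ W ∧ r * w * r⁻¹ ≠ w ∧ r * w * r⁻¹ ≠ 1 := fun r h1 h2 =>
    ⟨S.conjW h1 S.hw, fun h => h2 (S.mem_T_of_fix h1 h), fun h => S.hw1 (conj_eq_one_iff.1 h)⟩
  obtain ⟨h1, h2, h3⟩ := hu k hk hkT
  obtain ⟨h1', h2', h3'⟩ := hu k' hk' hk'T
  obtain ⟨a, haT, ha⟩ := SetLike.not_le_iff_exists.1 S.hne
  have hmove : a * (k * w * k⁻¹) * a⁻¹ = w * (k * w * k⁻¹) :=
    (S.conj_cases haT h1 h2 h3).resolve_left fun h =>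
      ha (S.fixes_imp haT h1 h2 h3 (mul_inv_eq_iff_eq_mul.1 h))
  rcases S.eq_of_mem h1 h2 h3 h1' with h | h | h | h
  · exact absurd h h3'
  · exact absurd h h2'
  · refine ⟨1, one_mem T, S.mem_T_of_fix (mul_mem (inv_mem (by simpa using hk)) hk') ?_⟩
    calc (1 * k)⁻¹ * k' * w * ((1 * k)⁻¹ * k')⁻¹ = k⁻¹ * (k' * w * k'⁻¹) * k := by group
      _ = w := by rw [h]; group
  · refine ⟨a, haT, S.mem_T_of_fix (mul_mem (inv_mem (mul_mem (S.hTP haT) hk)) hk') ?_⟩
    calc (a * k)⁻¹ * k' * w * ((a * k)⁻¹ * k')⁻¹ = k⁻¹ * (a⁻¹ * (k' * w * k'⁻¹) * a) * k := by group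
      _ = w := by rw [h, ← hmove]; group

/-- Every element of `W` other than `1` is conjugate to `w`. -/
theorem exists_conj {x : G} (hx : x ∈ W) (hx1 : x ≠ 1) : ∃ k ∈ P, k * w * k⁻¹ = x := by
  by_cases hxw : x = w
  · exact ⟨1, one_mem P, by simp [hxw]⟩
  obtain ⟨k, hk, hkT⟩ := S.exists_notMem
  obtain ⟨a, haT, ha⟩ := SetLike.not_le_iff_exists.1 S.hne
  have h1 := S.conjW hk S.hw
  have h2 : k * w * k⁻¹ ≠ w := fun h => hkT (S.mem_T_of_fix hk h)
  have h3 : k * w * k⁻¹ ≠ 1 := fun h => S.hw1 (conj_eq_one_iff.1 h)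
  rcases S.eq_of_mem h1 h2 h3 hx with h | h | h | h
  · exact absurd h hx1
  · exact absurd h hxw
  · exact ⟨k, hk, h.symm⟩
  · refine ⟨a * k, mul_mem (S.hTP haT) hk, ?_⟩
    have hmove : a * (k * w * k⁻¹) * a⁻¹ = w * (k * w * k⁻¹) :=
      (S.conj_cases haT h1 h2 h3).resolve_left fun h =>
        ha (S.fixes_imp haT h1 h2 h3 (mul_inv_eq_iff_eq_mul.1 h))
    rw [h, ← hmove]; group

end Side

/-- The configuration. -/
structure Amal (T : Subgroup G) (P W : Bool → Subgroup G) (w : Bool → G) : Prop where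
  side : ∀ b, Side T (P b) (W b) (w b)
  free : ∀ Y : Subgroup G, Y ≤ T → (∀ b, P b ≤ Subgroup.normalizer (Y : Set G)) → Y = ⊥

/-- `Q b`. -/
def Qb (T : Subgroup G) (W : Bool → Subgroup G) (b : Bool) : Subgroup G :=
  T ⊓ Subgroup.centralizer (W b : Set G)

/-- Walks: `(b, 1)` to `(b', x)` in `n` steps. -/
def Walk (P : Bool → Subgroup G) : ℕ → Bool → Bool → G → Prop
  | 0, b, b', x => b = b' ∧ x ∈ P b
  | n + 1, b, b', x => ∃ p ∈ P b, Walk P n (!b) b' (p⁻¹ * x)

namespace Amal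

variable {T : Subgroup G} {P W : Bool → Subgroup G} {w : Bool → G} (M : Amal T P W w)

theorem walk_right : ∀ {n : ℕ} {b b' : Bool} {x p : G},
    Walk P n b b' x → p ∈ P b' → Walk P n b b' (x * p)
  | 0, b, b', x, p, h, hp => ⟨h.1, mul_mem h.2 (h.1 ▸ hp)⟩
  | n + 1, b, b', x, p, ⟨q, hq, h⟩, hp => ⟨q, hq, by rw [← mul_assoc]; exact walk_right h hp⟩

theorem walk_left {n : ℕ} {b b' : Bool} {x p : G} (h : Walk P n b b' x) (hp : p ∈ P b) :
    Walk P n b b' (p * x) := by
  cases n with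
  | zero => exact ⟨h.1, mul_mem hp h.2⟩
  | succ n =>
    obtain ⟨q, hq, h⟩ := h
    exact ⟨p * q, mul_mem hp hq, by rwa [mul_inv_rev, mul_assoc, inv_mul_cancel_left]⟩

theorem walk_trans : ∀ {m n : ℕ} {a b c : Bool} {x y : G},
    Walk P m a b x → Walk P n b c y → Walk P (m + n) a c (x * y)
  | 0, n, a, b, c, x, y, h, h' => by
    rw [Nat.zero_add, h.1]
    exact walk_left h' (h.1 ▸ h.2)
  | m + 1, n, a, b, c, x, y, ⟨q, hq, h⟩, h' => by
    rw [Nat.succ_add]
    exact ⟨q, hq, by rw [← mul_assoc]; exact walk_trans h h'⟩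

theorem walk_step {b b' : Bool} {p : G} (hb : b' = !b) (hp : p ∈ P b ∨ p ∈ P b') :
    Walk P 1 b b' p := by
  subst hb
  rcases hp with hp | hp
  · exact ⟨p, hp, rfl, by rw [inv_mul_cancel]; exact one_mem _⟩
  · exact ⟨1, one_mem _, rfl, by rwa [inv_one, one_mul]⟩

theorem walk_symm : ∀ {n : ℕ} {b b' : Bool} {x : G}, Walk P n b b' x → Walk P n b' b x⁻¹
  | 0, b, b', x, h => ⟨h.1.symm, h.1 ▸ inv_mem h.2⟩
  | n + 1, b, b', x, ⟨p, hp, h⟩ => by
    have h1 := walk_trans (walk_symm h) (walk_step (b := !b) (b' := b) (Bool.not_not b).symm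
      (Or.inr (inv_mem hp)))
    rwa [show (p⁻¹ * x)⁻¹ * p⁻¹ = x⁻¹ by group] at h1

theorem walk_last : ∀ {n : ℕ} {b b' : Bool} {x : G}, Walk P (n + 1) b b' x →
    ∃ y, Walk P n b (!b') y ∧ ∃ q ∈ P (!b'), ∃ q' ∈ P b', x = y * q * q'
  | 0, b, b', x, ⟨p, hp, h1, h2⟩ => by
    subst h1
    rw [Bool.not_not]
    exact ⟨1, ⟨rfl, one_mem _⟩, p, hp, p⁻¹ * x, h2, by group⟩
  | n + 1, b, b', x, ⟨p, hp, h⟩ => by
    obtain ⟨y, hy, q, hq, q', hq', e⟩ := walk_last h
    exact ⟨p * y, ⟨p, hp, by rwa [inv_mul_cancel_left]⟩, q, hq, q', hq', by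
      rw [← mul_inv_cancel_left p x, e]; group⟩

include M

theorem cjW {b : Bool} {p : G} (hp : p ∈ P b) : cj p (W b) = W b :=
  cj_eq_self ((M.side b).hWn hp)

theorem cjQ {b : Bool} {p : G} (hp : p ∈ P b) : cj p (Qb T W b) = Qb T W b :=
  cj_eq_self ((M.side b).hQn hp)

theorem W_le_Qb (b : Bool) : W b ≤ Qb T W b := (M.side b).W_le_Q

theorem Qb_le_T (b : Bool) : Qb T W b ≤ T := inf_le_left

theorem Qb_ne (b : Bool) : Qb T W b ≠ Qb T W (!b) := by
  intro h
  have hY := M.free (Qb T W b) inf_le_left (fun c => by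
    rcases eq_or_ne c b with rfl | hc
    · exact (M.side c).hQn
    · have : c = !b := by cases b <;> cases c <;> simp_all
      subst this
      rw [h]
      exact (M.side _).hQn)
  have h1 := M.W_le_Qb b
  rw [hY, le_bot_iff] at h1
  have h4 := (M.side b).hW4
  rw [h1, Subgroup.card_bot] at h4
  omega

variable [Finite G]

theorem Qb_not_le (b : Bool) : ¬ Qb T W b ≤ Qb T W (!b) := by
  intro h
  apply M.Qb_ne b
  refine le_antisymm h ?_
  intro s hs
  refine ⟨hs.1, ?_⟩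
  by_contra hsc
  obtain ⟨a, haT, ha⟩ := SetLike.not_le_iff_exists.1 (M.side (!b)).hne
  have haQ : a ∉ Subgroup.centralizer (W b : Set G) := fun h' => ha (h ⟨haT, h'⟩).2
  have h1 := h ((M.side b).mul_mem_Q hs.1 haT hsc haQ)
  apply ha
  have := Subgroup.mul_mem _ (Subgroup.inv_mem _ hs.2) h1.2
  rwa [inv_mul_cancel_left] at this

/-- A critical pair exists. -/
theorem exists_crit : ∃ n b b' x, Walk P n b b' x ∧ ¬ W b ≤ cj x (Qb T W b') := by
  classical
  by_contra hcon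
  push Not at hcon
  set X := P true ⊔ P false with hX
  have hreach : ∀ g ∈ X, ∀ b, ∃ n, Walk P n true b g := by
    intro g hg
    have hext : ∀ {h : G} {b : Bool}, (∃ n, Walk P n true b h) → ∀ c, ∃ n, Walk P n true c h := by
      rintro h b ⟨n, hn⟩ c
      rcases eq_or_ne c b with rfl | hc
      · exact ⟨n, hn⟩
      · refine ⟨n + 1, ?_⟩
        have := walk_trans hn (walk_step (P := P) (b := b) (b' := c)
          (by cases b <;> cases c <;> simp_all) (Or.inl (one_mem _)))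
        rwa [mul_one] at this
    rw [hX, Subgroup.sup_eq_closure] at hg
    induction hg using Subgroup.closure_induction_right with
    | one => exact hext ⟨0, rfl, one_mem _⟩
    | mul_right h _ s hs ih =>
      intro c
      rcases hs with hs | hs
      · obtain ⟨n, hn⟩ := ih true
        exact hext ⟨n, walk_right hn hs⟩ c
      · obtain ⟨n, hn⟩ := ih false
        exact hext ⟨n, walk_right hn hs⟩ c
    | mul_inv_cancel h _ s hs ih =>
      intro c
      rcases hs with hs | hs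
      · obtain ⟨n, hn⟩ := ih true
        exact hext ⟨n, walk_right hn (inv_mem hs)⟩ c
      · obtain ⟨n, hn⟩ := ih false
        exact hext ⟨n, walk_right hn (inv_mem hs)⟩ c
  set Y := ⨆ g : X, cj (g : G) (W true) with hY
  have hYT : Y ≤ T := by
    refine iSup_le fun g => ?_
    obtain ⟨n, hn⟩ := hreach _ (inv_mem g.2) true
    have h1 := hcon n true true _ hn
    rw [cj_le_iff]
    exact h1.trans (cj_mono (M.Qb_le_T true))
  have hXY : X ≤ Subgroup.normalizer (Y : Set G) := by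
    intro g hg
    rw [Subgroup.mem_normalizer_iff_map_conj_eq]
    refine Subgroup.eq_of_le_of_card_ge ?_ (Subgroup.card_map_of_injective (MulAut.conj g).injective).ge
    rw [hY, Subgroup.map_iSup]
    refine iSup_le fun h => ?_
    refine le_trans ?_ (le_iSup (fun k : X => cj (k : G) (W true)) ⟨g * h, mul_mem hg h.2⟩)
    exact le_of_eq (cj_mul g (h : G) (W true)).symm
  have hb := M.free Y hYT (fun b => by
    cases b
    · exact le_sup_right.trans hXY
    · exact le_sup_left.trans hXY)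
  have hW : W true ≤ Y := by
    have := le_iSup (fun k : X => cj (k : G) (W true)) 1
    rwa [Subgroup.coe_one, cj_one] at this
  rw [hb, le_bot_iff] at hW
  have h4 := (M.side true).hW4
  rw [hW, Subgroup.card_bot] at h4
  omega

end Amal

end Cfsg.Agent.JComp.Amalgam
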