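import Cfsg.Agent.Lib.JComp.AmalgamBasic

/-!
Critical pairs, and the case in which the two parabolics have the same central involution in
`W true` and `W false`.
-/

set_option autoImplicit false
set_option linter.style.haveILetI false
set_option linter.unusedSectionVars false
open scoped commutatorElement Pointwise

namespace Cfsg.Agent.JComp.Amalgam

open Cfsg.Agent

universe u

variable {G : Type u} [Group G] [Finite G]

/-- Data of a critical pair at distance `n`: `α = (b,1)`, `β = (!b,1)`, `δ = (!b',x)`, `α' = (b',x)`. -/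
structure Crit (T : Subgroup G) (P W : Bool → Subgroup G) (n : ℕ) (b b' : Bool) (x : G) : Prop where
  two_le : 2 ≤ n
  hmin : ∀ m, m < n → ∀ a a' y, Walk P m a a' y → W a ≤ cj y (Qb T W a')
  hcrit : ¬ W b ≤ cj x (Qb T W b')
  wβα' : Walk P (n - 1) (!b) b' x
  wαδ : Walk P (n - 1) b (!b') x
  wβδ : Walk P (n - 2) (!b) (!b') x

namespace Amal

variable {T : Subgroup G} {P W : Bool → Subgroup G} {w : Bool → G} (M : Amal T P W w)
include M

theorem le_of_walk_one (h : ∀ b, W b ≤ Qb T W (!b)) {b b' : Bool} {x : G} (hx : Walk P 1 b b' x) :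
    W b ≤ cj x (Qb T W b') := by
  obtain ⟨p, hp, hb, hq⟩ := hx
  subst hb
  have hxe : x = p * (p⁻¹ * x) := by group
  rw [hxe, cj_mul, M.cjQ hq]
  rw [← inv_inv p, ← cj_le_iff]
  rw [M.cjW (inv_mem hp)]
  exact h b

/-- Normalize the end of a critical walk of minimal length. -/
theorem crit_of {n : ℕ} (hn : 2 ≤ n) (hmin : ∀ m, m < n → ∀ a a' y, Walk P m a a' y → W a ≤ cj y (Qb T W a'))
    {b b' : Bool} {x : G} (hx : Walk P (n - 1) (!b) b' x) (hc : ¬ W b ≤ cj x (Qb T W b')) :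
    ∃ q ∈ P b', Crit T P W n b b' (x * q) := by
  obtain ⟨m, rfl⟩ : ∃ m, n = m + 2 := ⟨n - 2, by omega⟩
  rw [show m + 2 - 1 = m + 1 from rfl] at hx
  obtain ⟨y, hy, q, hq, q', hq', rfl⟩ := walk_last (n := m) hx
  refine ⟨q'⁻¹, inv_mem hq', ?_⟩
  rw [show y * q * q' * q'⁻¹ = y * q by group]
  have h2 : Walk P m (!b) (!b') (y * q) := walk_right hy hq
  have h1 : Walk P (m + 1) (!b) b' (y * q) := by
    have := walk_trans h2 (walk_step (P := P) (b := !b') (b' := b') (Bool.not_not b').symm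
      (Or.inl (one_mem _)))
    rwa [mul_one] at this
  have h3 : Walk P (m + 1) b (!b') (y * q) := by
    refine ⟨1, one_mem _, ?_⟩
    rwa [inv_one, one_mul]
  exact ⟨hn, hmin, fun h => hc (by rw [cj_mul, M.cjQ hq']; exact h), h1, h3, h2⟩

theorem exists_crit_data (h : ∀ b, W b ≤ Qb T W (!b)) :
    ∃ n b b' x, Crit T P W n b b' x := by
  classical
  have hex : ∃ n, ∃ b b' x, Walk P n b b' x ∧ ¬ W b ≤ cj x (Qb T W b') := M.exists_crit
  obtain ⟨b, b', x, hx, hc⟩ := Nat.find_spec hex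
  set n := Nat.find hex with hn
  have hmin : ∀ m, m < n → ∀ a a' y, Walk P m a a' y → W a ≤ cj y (Qb T W a') := fun m hm a a' y hy => by
    by_contra hcon
    exact Nat.find_min hex hm ⟨a, a', y, hy, hcon⟩
  have hn2 : 2 ≤ n := by
    rcases (show n = 0 ∨ n = 1 ∨ 2 ≤ n by omega) with h0 | h1 | h2
    · exfalso
      rw [h0] at hx
      obtain ⟨rfl, hxP⟩ := hx
      exact hc (by rw [M.cjQ hxP]; exact M.W_le_Qb b)
    · exfalso
      rw [h1] at hx
      exact hc (M.le_of_walk_one h hx)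
    · exact h2
  obtain ⟨m, hm⟩ : ∃ m, n = m + 1 := ⟨n - 1, by omega⟩
  rw [hm] at hx
  obtain ⟨p, hp, hrest⟩ := hx
  have hc' : ¬ W b ≤ cj (p⁻¹ * x) (Qb T W b') := fun h' => hc (by
    have := cj_mono (x := p) h'
    rwa [M.cjW hp, ← cj_mul, mul_inv_cancel_left] at this)
  obtain ⟨q, -, hC⟩ := M.crit_of hn2 hmin (b := b) (by rw [hm]; exact hrest) hc'
  exact ⟨n, b, b', _, hC⟩

end Amal

namespace Crit

variable {T : Subgroup G} {P W : Bool → Subgroup G} {w : Bool → G} {n : ℕ} {b b' : Bool} {x : G}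
  (C : Crit T P W n b b' x) (M : Amal T P W w)
include C M

theorem le_T' : W b ≤ cj x T :=
  (C.hmin _ (by have := C.two_le; omega) _ _ _ C.wαδ).trans (cj_mono (M.Qb_le_T _))

theorem le_Qβ : cj x (W b') ≤ Qb T W (!b) := by
  rw [cj_le_iff]
  exact C.hmin _ (by have := C.two_le; omega) _ _ _ (Amal.walk_symm C.wβα')

/-- A noncommuting pair, and the common commutator. -/
theorem exists_pair : ∃ a ∈ cj x (W b'), a ∈ T ∧ a ∉ Subgroup.centralizer (W b : Set G) ∧
    w b = x * w b' * x⁻¹ := by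
  obtain ⟨u, hu, hu'⟩ := SetLike.not_le_iff_exists.1 C.hcrit
  have huT : x⁻¹ * u * x ∈ T := mem_cj.1 (C.le_T' M hu)
  have huC : x⁻¹ * u * x ∉ Subgroup.centralizer (W b' : Set G) :=
    fun h => hu' (mem_cj.2 ⟨huT, h⟩)
  rw [Subgroup.mem_centralizer_iff] at huC
  push Not at huC
  obtain ⟨e, he, hne⟩ := huC
  set a := x * e * x⁻¹ with ha
  have haW : a ∈ cj x (W b') := conj_mem_cj he
  have haT : a ∈ T := (M.Qb_le_T _) (C.le_Qβ M haW)
  have hne' : ⁅a, u⁆ ≠ 1 := by
    rw [Ne, commutatorElement_eq_one_iff_mul_comm]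
    intro h
    apply hne
    calc e * (x⁻¹ * u * x) = x⁻¹ * (a * u) * x := by rw [ha]; group
      _ = x⁻¹ * u * x * e := by rw [h, ha]; group
  refine ⟨a, haW, haT, fun h => hne' (commutatorElement_eq_one_iff_mul_comm.2
    (Subgroup.mem_centralizer_iff.1 h u hu).symm), ?_⟩
  have h1 : ⁅a, u⁆ = w b := ((M.side b).comm_cases haT hu).resolve_left hne'
  have h2 : ⁅a, u⁆ = x * ⁅e, x⁻¹ * u * x⁆ * x⁻¹ := by
    rw [ha]; simp only [commutatorElement_def]; group
  rcases (M.side b').comm_cases' huT he with h | h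
  · exact absurd (by rw [h2, h, mul_one, mul_inv_cancel]) hne'
  · rw [← h1, h2, h]

/-- Either the pair `(β⁻, δ)` is critical for some `k ∈ P b ∖ T`, or `W b ⊔ W (!b)` is normal in `P b`. -/
theorem normal_or_crit {k : G} (hk : k ∈ P b) (hkT : k ∉ T) :
    P b ≤ Subgroup.normalizer ((W b ⊔ W (!b) : Subgroup G) : Set G) ∨
      ∃ q ∈ P (!b'), Crit T P W n (!b) (!b') (k⁻¹ * x * q) := by
  by_cases hcr : cj k (W (!b)) ≤ cj x (Qb T W (!b'))
  swap
  · right
    refine M.crit_of C.two_le C.hmin ?_ ?_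
    · rw [Bool.not_not]
      exact Amal.walk_left C.wαδ (inv_mem hk)
    · intro h
      apply hcr
      have := cj_mono (x := k) h
      rwa [← cj_mul, mul_inv_cancel_left] at this
  left
  obtain ⟨a, haW, haT, haC, hR⟩ := C.exists_pair M
  set X := W b ⊔ W (!b) with hX
  set H := P b ⊓ Subgroup.normalizer (X : Set G) with hH
  have hTX : T ≤ Subgroup.normalizer (X : Set G) := by
    intro t ht
    refine mem_normalizer_of_cj ?_
    rw [hX, cj, Subgroup.map_sup]
    congr 1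
    · exact M.cjW ((M.side b).hTP ht)
    · exact M.cjW ((M.side (!b)).hTP ht)
  -- `a` normalizes the conjugate of `X` by `k`
  have haX : a ∈ Subgroup.normalizer ((cj k X : Subgroup G) : Set G) := by
    have hgen : cj k X = W b ⊔ cj k (W (!b)) := by
      rw [hX, cj, Subgroup.map_sup]
      congr 1
      exact M.cjW hk
    refine mem_normalizer_of_cj (Subgroup.eq_of_le_of_card_ge ?_
      (Subgroup.card_map_of_injective (MulAut.conj a).injective).ge)
    rw [hgen, cj, Subgroup.map_sup]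
    refine sup_le ((M.cjW ((M.side b).hTP haT)).le.trans le_sup_left) ?_
    rintro _ ⟨v, hv, rfl⟩
    show a * v * a⁻¹ ∈ _
    have hvT : x⁻¹ * v * x ∈ T := (M.Qb_le_T _) (mem_cj.1 (hcr hv))
    have h : ⁅a, v⁆ = 1 ∨ ⁅a, v⁆ = w b := by
      have e : ⁅a, v⁆ = x * ⁅x⁻¹ * a * x, x⁻¹ * v * x⁆ * x⁻¹ := by
        simp only [commutatorElement_def]; group
      rcases (M.side b').comm_cases' hvT (mem_cj.1 haW) with h | h
      · left; rw [e, h, mul_one, mul_inv_cancel]
      · right; rw [e, h, hR]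
    rw [show a * v * a⁻¹ = ⁅a, v⁆ * v by rw [commutatorElement_def, inv_mul_cancel_right]]
    refine mul_mem ?_ (Subgroup.mem_sup_right hv)
    rcases h with h | h
    · rw [h]; exact one_mem _
    · rw [h]; exact Subgroup.mem_sup_left (M.side b).hw
  have hka : k⁻¹ * a * k ∈ H := by
    refine ⟨Subgroup.mul_mem _ (Subgroup.mul_mem _ (Subgroup.inv_mem _ hk) ((M.side b).hTP haT)) hk, ?_⟩
    refine mem_normalizer_of_cj ?_
    rw [cj_mul, cj_mul, cj_eq_self haX, ← cj_mul, inv_mul_cancel, cj_one]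
  have hkaT : k⁻¹ * a * k ∉ T := fun h => haC ((M.side b).inf_cj hk hkT ⟨haT, mem_cj.2 h⟩)
  exact ((M.side b).eq_of_between (le_inf (M.side b).hTP hTX) inf_le_left hka hkaT).ge.trans inf_le_right

end Crit

namespace Amal

variable {T : Subgroup G} {P W : Bool → Subgroup G} {w : Bool → G} (M : Amal T P W w)
include M

/-- With equal involutions, `W b ⊔ W (!b)` is not normal in `P b`. -/
theorem not_normal_of_eq {b : Bool} (hcomm : W (!b) ≤ Qb T W b) (he : w (!b) = w b) :
    ¬ P b ≤ Subgroup.normalizer ((W b ⊔ W (!b) : Subgroup G) : Set G) := by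
  intro hN
  set S := M.side b
  set S' := M.side (!b)
  obtain ⟨q, hq, hq'⟩ := SetLike.not_le_iff_exists.1 (M.Qb_not_le b)
  have hqC : q ∉ Subgroup.centralizer (W (!b) : Set G) := fun h => hq' ⟨hq.1, h⟩
  obtain ⟨k, hk, hkT⟩ := S.exists_notMem
  set q1 := k * q * k⁻¹ with hq1
  have hq1Q : q1 ∈ Qb T W b := (Subgroup.mem_normalizer_iff.1 (S.hQn hk) q).1 hq
  have hXC : ∀ r, r ∈ Subgroup.centralizer (W b : Set G) → r ∈ Subgroup.centralizer (W (!b) : Set G) →
      W b ⊔ W (!b) ≤ Subgroup.centralizer ({r} : Set G) := by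
    intro r h1 h2
    refine sup_le ?_ ?_ <;> intro z hz <;> rw [Subgroup.mem_centralizer_singleton_iff]
    · exact Subgroup.mem_centralizer_iff.1 h1 z hz
    · exact Subgroup.mem_centralizer_iff.1 h2 z hz
  have hq1C : q1 ∉ Subgroup.centralizer (W (!b) : Set G) := by
    intro h
    apply hqC
    refine Subgroup.mem_centralizer_iff.2 fun z hz => ?_
    have hz' : k * z * k⁻¹ ∈ W b ⊔ W (!b) :=
      (Subgroup.mem_normalizer_iff.1 (hN hk) z).1 (Subgroup.mem_sup_right hz)
    have := Subgroup.mem_centralizer_singleton_iff.1 (hXC q1 hq1Q.2 h hz')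
    calc z * q = k⁻¹ * ((k * z * k⁻¹) * q1) * k := by rw [hq1]; group
      _ = q * z := by rw [this, hq1]; group
  have hqq : q * q1 ∈ Qb T W (!b) := S'.mul_mem_Q hq.1 hq1Q.1 hqC hq1C
  have hqqb : q * q1 ∈ Qb T W b := Subgroup.mul_mem _ hq hq1Q
  obtain ⟨v, hv, hqv⟩ : ∃ v ∈ W (!b), ⁅q, v⁆ = w (!b) := by
    rw [Subgroup.mem_centralizer_iff] at hqC
    push Not at hqC
    obtain ⟨v, hv, hne⟩ := hqC
    exact ⟨v, hv, (S'.comm_cases hq.1 hv).resolve_left fun h =>
      hne (commutatorElement_eq_one_iff_mul_comm.1 h).symm⟩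
  set v1 := k * v * k⁻¹ with hv1
  have hv1X : v1 ∈ W b ⊔ W (!b) :=
    (Subgroup.mem_normalizer_iff.1 (hN hk) v).1 (Subgroup.mem_sup_right hv)
  have hcomm' : W (!b) ≤ Subgroup.normalizer (W b : Set G) :=
    (hcomm.trans (inf_le_right (a := T))).trans (Subgroup.centralizer_le_normalizer _)
  have hmul : v1 ∈ ((W b : Set G) * (W (!b) : Set G)) := by
    rw [← Subgroup.coe_mul_of_right_le_normalizer_left (W b) (W (!b)) hcomm']; exact hv1X
  obtain ⟨u, hu, v0, hv0, e⟩ := Set.mem_mul.1 hmul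
  have h1 : ⁅q1, v1⁆ = ⁅q⁻¹, v1⁆ := by
    have hc := Subgroup.mem_centralizer_singleton_iff.1 (hXC (q * q1) hqqb.2 hqq.2 hv1X)
    have e2 : q1 * v1 * q1⁻¹ = q⁻¹ * v1 * q := by
      calc q1 * v1 * q1⁻¹ = q⁻¹ * ((q * q1) * v1) * (q * q1)⁻¹ * q := by group
        _ = q⁻¹ * v1 * q := by rw [← hc]; group
    rw [commutatorElement_def, commutatorElement_def, e2, inv_inv]
  have h2 : ⁅q1, v1⁆ = k * w b * k⁻¹ := by
    rw [← he, ← hqv, hq1, hv1]; simp only [commutatorElement_def]; group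
  have h3 : ⁅q⁻¹, v1⁆ = 1 ∨ ⁅q⁻¹, v1⁆ = w (!b) := by
    have hqu : Commute q⁻¹ u :=
      (show Commute q u from (Subgroup.mem_centralizer_iff.1 hq.2 u hu).symm).inv_left
    have huv : Commute u v0 := Subgroup.mem_centralizer_iff.1 (hcomm hv0).2 u hu
    have e3 : ⁅q⁻¹, v1⁆ = u * ⁅q⁻¹, v0⁆ * u⁻¹ := by
      rw [← e]
      calc ⁅q⁻¹, u * v0⁆ = ⁅q⁻¹, u⁆ * (u * ⁅q⁻¹, v0⁆ * u⁻¹) := by
            simp only [commutatorElement_def]; group
        _ = _ := by rw [commutatorElement_eq_one_iff_mul_comm.2 hqu.eq, one_mul]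
    rw [e3]
    rcases S'.comm_cases (inv_mem hq.1) hv0 with h | h <;> rw [h]
    · left; group
    · right
      rw [he, (show Commute u (w b) from S.comm hu S.hw).eq, mul_inv_cancel_right]
  rw [← h1, h2, he] at h3
  rcases h3 with h | h
  · exact S.hw1 (conj_eq_one_iff.1 h)
  · exact hkT (S.mem_T_of_fix hk h)

/-- **Equal involutions: the two fours-groups do not commute.** -/
theorem not_le_of_eq (he : w false = w true) :
    ¬ W true ≤ Qb T W false ∧ ¬ W false ≤ Qb T W true := by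
  have hsymm : ∀ b, W b ≤ Qb T W (!b) → W (!b) ≤ Qb T W b := fun b h =>
    le_inf (M.side (!b)).hWT (Subgroup.le_centralizer_iff.1 (h.trans inf_le_right))
  have heq : ∀ b c : Bool, w b = w c := by
    intro b c; cases b <;> cases c <;> first | rfl | exact he | exact he.symm
  suffices h : ¬ (∀ b, W b ≤ Qb T W (!b)) by
    constructor <;> intro h' <;> apply h <;> intro b <;> cases b
    · exact hsymm true h'
    · exact h'
    · exact h'
    · exact hsymm false h'
  intro h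
  obtain ⟨n, b, b', x, C⟩ := M.exists_crit_data h
  obtain ⟨k, hk, hkT⟩ := (M.side b).exists_notMem
  have hn1 : W (!b) ≤ Qb T W b := hsymm b (h b)
  rcases C.normal_or_crit M hk hkT with hN | ⟨q, hq, C'⟩
  · exact M.not_normal_of_eq hn1 (heq _ _) hN
  obtain ⟨-, -, -, -, hR⟩ := C.exists_pair M
  obtain ⟨-, -, -, -, hR'⟩ := C'.exists_pair M
  have h1 : w b ∈ cj x (W (!b')) := by
    rw [hR, heq b' (!b')]; exact conj_mem_cj (M.side (!b')).hw
  have h2 : k * w b * k⁻¹ ∈ cj x (W (!b')) := by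
    rw [heq b (!b), hR', show k * (k⁻¹ * x * q * w (!b') * (k⁻¹ * x * q)⁻¹) * k⁻¹ =
      x * (q * w (!b') * q⁻¹) * x⁻¹ by group]
    exact conj_mem_cj ((M.side (!b')).conjW hq (M.side (!b')).hw)
  have hle : W b ≤ cj x (W (!b')) := by
    intro z hz
    have hu := (M.side b).conjW hk (M.side b).hw
    rcases (M.side b).eq_of_mem hu (fun e => hkT ((M.side b).mem_T_of_fix hk e))
      (fun e => (M.side b).hw1 (conj_eq_one_iff.1 e)) hz with rfl | rfl | rfl | rfl
    · exact one_mem _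
    · exact h1
    · exact h2
    · exact mul_mem h1 h2
  refine C.hcrit (hle.trans (cj_mono ?_))
  have := h (!b')
  rwa [Bool.not_not] at this

end Amal

end Cfsg.Agent.JComp.Amalgam
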