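import Cfsg.Agent.Lib.JComp.AmalgamUnequal

/-!
The remaining configuration, and the conclusion: the involutions in the two fours-groups agree.
-/

set_option autoImplicit false
set_option linter.style.haveILetI false
set_option linter.unusedSectionVars false
open scoped commutatorElement Pointwise

namespace Cfsg.Agent.JComp.Amalgam

open Cfsg.Agent

universe u

variable {G : Type u} [Group G]

theorem pow_conj_of_fix {g f c : G} (h : g * f * g⁻¹ = f * c) (hc : g * c * g⁻¹ = c) (n : ℕ) :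
    g ^ n * f * (g ^ n)⁻¹ = f * c ^ n := by
  induction n with
  | zero => simp
  | succ n ih =>
    calc g ^ (n + 1) * f * (g ^ (n + 1))⁻¹ = g * (g ^ n * f * (g ^ n)⁻¹) * g⁻¹ := by
          rw [pow_succ']; group
      _ = (g * f * g⁻¹) * (g * c * g⁻¹) ^ n := by rw [ih, conj_pow]; group
      _ = f * c ^ (n + 1) := by rw [h, hc, pow_succ']; group

theorem fix_of_odd {g f c : G} (ho : Odd (orderOf g)) (hc2 : c * c = 1) (hc : g * c * g⁻¹ = c)
    (h : g * f * g⁻¹ = f * c) : g * f * g⁻¹ = f := by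
  have key := pow_conj_of_fix h hc (orderOf g)
  rw [pow_orderOf_eq_one, inv_one, one_mul, mul_one] at key
  obtain ⟨m, hm⟩ := ho
  rw [hm, pow_succ, pow_mul, pow_two, hc2, one_pow, one_mul] at key
  rwa [← key] at h

theorem triple (f a b c : G) (ha : Commute f a) (hb : Commute f b) :
    f * a * (f * b) * (f * c) = f * f * f * (a * b * c) := by
  calc f * a * (f * b) * (f * c) = f * (a * f) * b * f * c := by group
    _ = f * (f * a) * b * f * c := by rw [ha.eq]
    _ = f * f * (a * b * f) * c := by group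
    _ = f * f * (f * (a * b)) * c := by rw [(ha.mul_right hb).eq]
    _ = _ := by group

theorem mem_sup_of_comm [Finite G] {A B : Subgroup G} (h : B ≤ Subgroup.centralizer (A : Set G)) {x : G}
    (hx : x ∈ A ⊔ B) : ∃ a ∈ A, ∃ b ∈ B, x = a * b := by
  have hx' : x ∈ ((A : Set G) * (B : Set G)) := by
    rw [← Subgroup.coe_mul_of_right_le_normalizer_left A B (h.trans (Subgroup.centralizer_le_normalizer _))]
    exact hx
  obtain ⟨a, ha, b, hb, e⟩ := Set.mem_mul.1 hx'
  exact ⟨a, ha, b, hb, e.symm⟩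

namespace CData

variable [Finite G] {T J : Subgroup G} {P W : Bool → Subgroup G} {w c : Bool → G}
  (D : CData T J P W w c) (M : Amal T P W w)
include D M

/-- An element of odd order outside `T` fixes nothing in `W`. -/
theorem fpf {b : Bool} {y x : G} (hy : y ∈ P b) (hyT : y ∉ T) (ho : Odd (orderOf y)) (hx : x ∈ W b)
    (h : y * x * y⁻¹ = x) : x = 1 := by
  by_contra hx1
  obtain ⟨k, hk, rfl⟩ := (M.side b).exists_conj hx hx1
  have hT : k⁻¹ * y * k ∈ T := (M.side b).mem_T_of_fix (mul_mem (mul_mem (inv_mem hk) hy) hk) (by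
    calc k⁻¹ * y * k * w b * (k⁻¹ * y * k)⁻¹ = k⁻¹ * (y * (k * w b * k⁻¹) * y⁻¹) * k := by group
      _ = w b := by rw [h]; group)
  haveI : Fact (Nat.Prime 2) := ⟨Nat.prime_two⟩
  have ho' : Odd (orderOf (k⁻¹ * y * k)) := by
    rwa [show k⁻¹ * y * k = MulAut.conj k⁻¹ y by simp, MulEquiv.orderOf_eq]
  have h1 := eq_one_of_odd_two ho' D.hT2 hT
  apply hyT
  have : y = 1 := by
    calc y = k * (k⁻¹ * y * k) * k⁻¹ := by group
      _ = 1 := by rw [h1]; group
  rw [this]
  exact one_mem T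

theorem third_normal {b : Bool} (hb : w b = c b * c (!b)) (hb' : w (!b) = c b)
    (hadj : ∀ d, W d ≤ Qb T W (!d))
    (hN : P b ≤ Subgroup.normalizer ((W b ⊔ W (!b) : Subgroup G) : Set G)) : False := by
  obtain ⟨u, hu, huw, hu1⟩ := (M.side (!b)).exists_other
  obtain ⟨y, hy, hyT, ho⟩ := D.hodd b
  have hWc : W (!b) ≤ Subgroup.centralizer (W b : Set G) := by
    have := hadj (!b)
    rw [Bool.not_not] at this
    exact this.trans inf_le_right
  have hcy : y * c b * y⁻¹ = c b := by rw [D.hcP b y hy, mul_inv_cancel_right]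
  have hcu : ∀ d, Commute (c d) u := fun d =>
    (D.c_comm M d ((M.side (!b)).hWT hu)).symm
  -- `y u y⁻¹ = x₀ u c^i`
  obtain ⟨x0, hx0, e, he, hye⟩ := mem_sup_of_comm hWc
    ((Subgroup.mem_normalizer_iff.1 (hN hy) u).1 (Subgroup.mem_sup_right hu))
  set U := W b ⊔ Subgroup.zpowers (c b) with hU
  have hWU : W b ≤ U := le_sup_left
  have hcU : c b ∈ U := Subgroup.mem_sup_right (Subgroup.mem_zpowers _)
  have hyU : y ∈ Subgroup.normalizer (U : Set G) := by
    refine mem_normalizer_of_cj (Subgroup.eq_of_le_of_card_ge ?_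
      (Subgroup.card_map_of_injective (MulAut.conj y).injective).ge)
    rw [hU, cj, Subgroup.map_sup, MonoidHom.map_zpowers]
    refine sup_le ((M.cjW hy).le.trans le_sup_left) (Subgroup.zpowers_le.2 ?_)
    show y * c b * y⁻¹ ∈ U
    rw [hcy]; exact hcU
  have huU : u ∉ U := by
    intro h
    apply M.Qb_not_le b
    intro q hq
    refine ⟨hq.1, (M.side (!b)).fixes_imp hq.1 hu huw hu1 ?_⟩
    have hle : U ≤ Subgroup.centralizer ({q} : Set G) := by
      refine sup_le ?_ (Subgroup.zpowers_le.2 ?_)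
      · intro z hz
        exact Subgroup.mem_centralizer_singleton_iff.2 (Subgroup.mem_centralizer_iff.1 hq.2 z hz)
      · exact Subgroup.mem_centralizer_singleton_iff.2 (D.c_comm M b hq.1).symm
    exact (Subgroup.mem_centralizer_singleton_iff.1 (hle h)).symm
  have heU : e ∉ U := fun h => huU ((Subgroup.mem_normalizer_iff.1 hyU u).2
    (hye ▸ mul_mem (hWU hx0) h))
  obtain ⟨ci, hci, hce⟩ : ∃ ci, (ci = 1 ∨ ci = c b) ∧ e = u * ci := by
    rcases (M.side (!b)).eq_of_mem hu huw hu1 he with h | h | h | h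
    · exact absurd (h ▸ one_mem U) heU
    · exact absurd (h ▸ hb' ▸ hcU) heU
    · exact ⟨1, Or.inl rfl, by rw [h, mul_one]⟩
    · exact ⟨c b, Or.inr rfl, by rw [h, hb', (hcu b).eq]⟩
  -- correct `u` by an element of `W b`
  haveI := (M.side b).finiteW
  have hf : Function.Injective fun s : W b => (⟨(s : G)⁻¹ * (y * s * y⁻¹),
      mul_mem (inv_mem s.2) ((M.side b).conjW hy s.2)⟩ : W b) := by
    intro s s' h
    have h' : (s : G)⁻¹ * (y * s * y⁻¹) = (s' : G)⁻¹ * (y * s' * y⁻¹) := congrArg Subtype.val h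
    have hss : (s' : G) * (s : G)⁻¹ = 1 := by
      refine D.fpf M hy hyT ho (mul_mem s'.2 (inv_mem s.2)) ?_
      calc y * ((s' : G) * (s : G)⁻¹) * y⁻¹ = (y * s' * y⁻¹) * (y * s * y⁻¹)⁻¹ := by group
        _ = (s' : G) * ((s' : G)⁻¹ * (y * s' * y⁻¹)) * ((s : G)⁻¹ * (y * s * y⁻¹))⁻¹ * (s : G)⁻¹ := by
            group
        _ = _ := by rw [h']; group
    exact Subtype.ext (mul_inv_eq_one.1 hss).symm
  obtain ⟨s, hs⟩ := Finite.surjective_of_injective hf ⟨x0⁻¹, inv_mem hx0⟩
  have hs' : y * (s : G) * y⁻¹ * x0 = (s : G) := by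
    have h' : (s : G)⁻¹ * (y * s * y⁻¹) = x0⁻¹ := congrArg Subtype.val hs
    calc y * (s : G) * y⁻¹ * x0 = s * ((s : G)⁻¹ * (y * s * y⁻¹)) * x0 := by group
      _ = (s : G) := by rw [h']; group
  set f := (s : G) * u with hf'
  have hci2 : ci * ci = 1 := by
    rcases hci with h | h <;> rw [h]
    · exact mul_one 1
    · exact D.hc2 b
  have hyci : y * ci * y⁻¹ = ci := by
    rcases hci with h | h <;> rw [h]
    · group
    · exact hcy
  have hyf : y * f * y⁻¹ = f := by
    refine fix_of_odd ho hci2 hyci ?_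
    calc y * f * y⁻¹ = (y * s * y⁻¹) * (y * u * y⁻¹) := by rw [hf']; group
      _ = (y * s * y⁻¹ * x0) * u * ci := by rw [hye, hce]; group
      _ = f * ci := by rw [hs', hf']
  have hfX : f ∈ W b ⊔ W (!b) :=
    mul_mem (Subgroup.mem_sup_left s.2) (Subgroup.mem_sup_right hu)
  -- an element of `Qb (!b) ∖ Qb b` fixes `s`
  obtain ⟨a, ha, ha'⟩ := SetLike.not_le_iff_exists.1 (M.Qb_not_le (!b))
  rw [Bool.not_not] at ha'
  have haC : a ∉ Subgroup.centralizer (W b : Set G) := fun h => ha' ⟨ha.1, h⟩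
  have hfixF : ∀ g, g ∈ W b ⊔ W (!b) → ∀ q ∈ Qb T W b,
      ∃ c0, (c0 = 1 ∨ c0 = c b) ∧ q * g * q⁻¹ = g * c0 := by
    intro g hg q hq
    obtain ⟨g1, hg1, g2, hg2, rfl⟩ := mem_sup_of_comm hWc hg
    refine ⟨g2⁻¹ * (q * g2 * q⁻¹), ?_, ?_⟩
    · rcases (M.side (!b)).comm_cases' hq.1 (inv_mem hg2) with h | h
      · left; rw [← h, commutatorElement_def]; group
      · right; rw [← hb', ← h, commutatorElement_def]; group
    · have := Subgroup.mem_centralizer_iff.1 hq.2 g1 hg1
      calc q * (g1 * g2) * q⁻¹ = (q * g1) * g2 * q⁻¹ := by group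
        _ = g1 * g2 * (g2⁻¹ * (q * g2 * q⁻¹)) := by rw [← this]; group
  set g := a⁻¹ * y * a with hg
  have hgP : g ∈ P b := mul_mem (mul_mem (inv_mem ((M.side b).hTP ha.1)) hy) ((M.side b).hTP ha.1)
  have hgT : g ∉ T := fun h => hyT (by
    have := Subgroup.mul_mem _ (Subgroup.mul_mem _ ha.1 h) (Subgroup.inv_mem _ ha.1)
    rwa [show a * g * a⁻¹ = y by rw [hg]; group] at this)
  -- `g` agrees with `y` or `y⁻¹` up to `Qb b`
  obtain ⟨y', hy'f, hy'P, hy'T, hrel⟩ : ∃ y', y' * f * y'⁻¹ = f ∧ y' ∈ P b ∧ y' ∉ T ∧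
      y'⁻¹ * g ∈ Qb T W b := by
    have hy2T : y * y ∉ T := sq_not_mem_of_odd ho hyT
    have hfix' : y⁻¹ * f * (y⁻¹)⁻¹ = f := by
      conv_lhs => rw [← hyf]
      group
    have hw1 := (M.side b).conjW hy (M.side b).hw
    have hw1n : y * w b * y⁻¹ ≠ w b := fun h => hyT ((M.side b).mem_T_of_fix hy h)
    have hw11 : y * w b * y⁻¹ ≠ 1 := fun h => (M.side b).hw1 (conj_eq_one_iff.1 h)
    have hwm : y⁻¹ * w b * y = w b * (y * w b * y⁻¹) := by
      have h2 := (M.side b).conjW (inv_mem hy) (M.side b).hw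
      rw [inv_inv] at h2
      rcases (M.side b).eq_of_mem hw1 hw1n hw11 h2 with h | h | h | h
      · exfalso; apply (M.side b).hw1
        calc w b = y * (y⁻¹ * w b * y) * y⁻¹ := by group
          _ = 1 := by rw [h]; group
      · exfalso; apply hw1n
        calc y * w b * y⁻¹ = y * (y⁻¹ * w b * y) * y⁻¹ := by rw [h]
          _ = w b := by group
      · exfalso; apply hy2T
        refine (M.side b).mem_T_of_fix (mul_mem hy hy) ?_
        calc y * y * w b * (y * y)⁻¹ = y * (y * w b * y⁻¹) * y⁻¹ := by group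
          _ = w b := by rw [← h]; group
      · exact h
    have hgw := (M.side b).conjW hgP (M.side b).hw
    have hcase : g * w b * g⁻¹ = y * w b * y⁻¹ ∨ g * w b * g⁻¹ = y⁻¹ * w b * y := by
      rcases (M.side b).eq_of_mem hw1 hw1n hw11 hgw with h | h | h | h
      · exact absurd (conj_eq_one_iff.1 h) (M.side b).hw1
      · exact absurd ((M.side b).mem_T_of_fix hgP h) hgT
      · exact Or.inl h
      · exact Or.inr (h.trans hwm.symm)
    have hgo : Odd (orderOf g) := by
      rwa [hg, show a⁻¹ * y * a = MulAut.conj a⁻¹ y by simp, MulEquiv.orderOf_eq]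
    -- choose `y'`
    obtain ⟨y', hy'f, hy'P, hy'T, ho', hy'w, hrt⟩ : ∃ y', y' * f * y'⁻¹ = f ∧ y' ∈ P b ∧ y' ∉ T ∧
        Odd (orderOf y') ∧ g * w b * g⁻¹ = y' * w b * y'⁻¹ ∧
        y'⁻¹ * w b * y' = w b * (y' * w b * y'⁻¹) := by
      rcases hcase with h | h
      · exact ⟨y, hyf, hy, hyT, ho, h, hwm⟩
      · refine ⟨y⁻¹, hfix', inv_mem hy, fun h' => hyT (by simpa using inv_mem h'),
          by rwa [orderOf_inv], by rw [inv_inv]; exact h, ?_⟩
        rw [inv_inv, hwm, ← mul_assoc, (M.side b).sq (M.side b).hw, one_mul]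
    refine ⟨y', hy'f, hy'P, hy'T, ?_⟩
    set t := y'⁻¹ * g with ht
    have htT : t ∈ T := (M.side b).mem_T_of_fix (mul_mem (inv_mem hy'P) hgP) (by
      calc t * w b * t⁻¹ = y'⁻¹ * (g * w b * g⁻¹) * y' := by rw [ht]; group
        _ = w b := by rw [hy'w]; group)
    refine ⟨htT, ?_⟩
    by_contra htC
    apply sq_not_mem_of_odd hgo hgT
    refine (M.side b).mem_T_of_fix (mul_mem hgP hgP) ?_
    have hu' := (M.side b).conjW hy'P (M.side b).hw
    have hu'n : y' * w b * y'⁻¹ ≠ w b := fun h => hy'T ((M.side b).mem_T_of_fix hy'P h)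
    have hu'1 : y' * w b * y'⁻¹ ≠ 1 := fun h => (M.side b).hw1 (conj_eq_one_iff.1 h)
    have hmove : t * (y' * w b * y'⁻¹) * t⁻¹ = w b * (y' * w b * y'⁻¹) :=
      ((M.side b).conj_cases htT hu' hu'n hu'1).resolve_left fun h =>
        htC ((M.side b).fixes_imp htT hu' hu'n hu'1 (mul_inv_eq_iff_eq_mul.1 h))
    calc g * g * w b * (g * g)⁻¹ = g * (g * w b * g⁻¹) * g⁻¹ := by group
      _ = y' * (t * (y' * w b * y'⁻¹) * t⁻¹) * y'⁻¹ := by rw [hy'w, ht]; group
      _ = y' * (y'⁻¹ * w b * y') * y'⁻¹ := by rw [hmove, hrt]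
      _ = w b := by group
  have hsa : a * (s : G) = s * a := by
    have hgf : g * f * g⁻¹ = f := by
      obtain ⟨c0, hc0, hq⟩ := hfixF f hfX _ hrel
      have hc02 : c0 * c0 = 1 := by
        rcases hc0 with h | h <;> rw [h]
        · exact mul_one 1
        · exact D.hc2 b
      have hgo : Odd (orderOf g) := by
        rwa [hg, show a⁻¹ * y * a = MulAut.conj a⁻¹ y by simp, MulEquiv.orderOf_eq]
      have hg0 : g * c0 * g⁻¹ = c0 := by
        rcases hc0 with h | h <;> rw [h]
        · group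
        · rw [D.hcP b g hgP, mul_inv_cancel_right]
      refine fix_of_odd hgo hc02 hg0 ?_
      have hy0 : y' * c0 * y'⁻¹ = c0 := by
        rcases hc0 with h | h <;> rw [h]
        · group
        · rw [D.hcP b y' hy'P, mul_inv_cancel_right]
      calc g * f * g⁻¹ = y' * ((y'⁻¹ * g) * f * (y'⁻¹ * g)⁻¹) * y'⁻¹ := by group
        _ = (y' * f * y'⁻¹) * (y' * c0 * y'⁻¹) := by rw [hq]; group
        _ = f * c0 := by rw [hy'f, hy0]
    have hau : a * u * a⁻¹ = u := mul_inv_eq_iff_eq_mul.2 (Subgroup.mem_centralizer_iff.1 ha.2 u hu).symm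
    have hd : a * (s : G) * a⁻¹ * (s : G)⁻¹ = 1 := by
      refine D.fpf M hy hyT ho (mul_mem ((M.side b).conjW ((M.side b).hTP ha.1) s.2) (inv_mem s.2)) ?_
      have h1 : a * (s : G) * a⁻¹ * (s : G)⁻¹ = (a * f * a⁻¹) * f⁻¹ := by
        calc a * (s : G) * a⁻¹ * (s : G)⁻¹ = (a * s * a⁻¹) * (a * u * a⁻¹) * u⁻¹ * (s : G)⁻¹ := by
              rw [hau]; group
          _ = (a * f * a⁻¹) * f⁻¹ := by rw [hf']; group
      rw [h1]
      calc y * ((a * f * a⁻¹) * f⁻¹) * y⁻¹ = a * (g * f * g⁻¹) * a⁻¹ * (y * f * y⁻¹)⁻¹ := by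
            rw [hg]; group
        _ = _ := by rw [hgf, hyf]
    exact mul_inv_eq_iff_eq_mul.1 (mul_inv_eq_one.1 hd)
  have hsw : (s : G) = w b := by
    by_cases hs1 : (s : G) = 1
    · exfalso
      -- `y` would normalize `W (!b)`
      have hyN : y ∈ Subgroup.normalizer (W (!b) : Set G) := by
        refine mem_normalizer_of_cj (Subgroup.eq_of_le_of_card_ge ?_
          (Subgroup.card_map_of_injective (MulAut.conj y).injective).ge)
        rintro _ ⟨z, hz, rfl⟩
        show y * z * y⁻¹ ∈ W (!b)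
        have hyu : y * u * y⁻¹ = u := by
          have := hyf
          rwa [hf', hs1, one_mul] at this
        rcases (M.side (!b)).eq_of_mem hu huw hu1 hz with rfl | rfl | rfl | rfl
        · simp
        · rw [hb', hcy]; exact hb' ▸ (M.side (!b)).hw
        · rw [hyu]; exact hz
        · rw [← conj_mul, hyu, hb', hcy]; rwa [hb'] at hz
      have hH := (M.side b).eq_of_between (H := P b ⊓ Subgroup.normalizer (W (!b) : Set G))
        (le_inf (M.side b).hTP ((M.side (!b)).hTP.trans (M.side (!b)).hWn)) inf_le_left ⟨hy, hyN⟩ hyT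
      have hY := M.free (W (!b)) (M.side (!b)).hWT (fun d => by
        have hd : d = b ∨ d = !b := by cases b <;> cases d <;> simp
        rcases hd with rfl | rfl
        · exact hH.ge.trans inf_le_right
        · exact (M.side (!b)).hWn)
      have h4 := (M.side (!b)).hW4
      rw [hY, Subgroup.card_bot] at h4
      omega
    · by_contra hsw
      exact haC ((M.side b).fixes_imp ha.1 s.2 hsw hs1 hsa)
  -- `f` is conjugate to `w b` under `P (!b)`
  have hcu1 : c b * u ∈ W (!b) := mul_mem (hb' ▸ (M.side (!b)).hw) hu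
  have hcu0 : c b * u ≠ 1 := fun h => huw (by
    rw [hb']; exact mul_left_cancel (h.trans (D.hc2 b).symm))
  obtain ⟨k, hk, hkw⟩ := (M.side (!b)).exists_conj hcu1 hcu0
  rw [hb'] at hkw
  have hkc : k * c (!b) * k⁻¹ = c (!b) := by rw [D.hcP _ k hk, mul_inv_cancel_right]
  have hkf : k * w b * k⁻¹ = f := by
    calc k * w b * k⁻¹ = (k * c b * k⁻¹) * (k * c (!b) * k⁻¹) := by rw [hb]; group
      _ = c b * (u * c (!b)) := by rw [hkw, hkc]; group
      _ = f := by rw [← (hcu (!b)).eq, hf', hsw, hb, mul_assoc]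
  have hC : k⁻¹ * y * k ∈ Subgroup.centralizer ({w b} : Set G) := by
    refine Subgroup.mem_centralizer_singleton_iff.2 (mul_inv_eq_iff_eq_mul.1 ?_)
    calc k⁻¹ * y * k * w b * (k⁻¹ * y * k)⁻¹ = k⁻¹ * (y * (k * w b * k⁻¹) * y⁻¹) * k := by group
      _ = w b := by rw [hkf, hyf, ← hkf]; group
  -- the orbit of `c (!b)`
  have hcb : c (!b) = w b * c b := by
    rw [hb, D.cc M b (!b), mul_assoc, D.hc2, mul_one]
  set z1 := y * w b * y⁻¹ with hz1
  set z2 := y * z1 * y⁻¹ with hz2
  have hz1W : z1 ∈ W b := (M.side b).conjW hy (M.side b).hw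
  have hz2W : z2 ∈ W b := (M.side b).conjW hy hz1W
  have hy2T : y * y ∉ T := sq_not_mem_of_odd ho hyT
  have hzprod : w b * z1 * z2 = 1 := by
    refine four_product (M.side b).hW (M.side b).hW4 (M.side b).hw hz1W hz2W (M.side b).hw1
      (fun h => (M.side b).hw1 (conj_eq_one_iff.1 h))
      (fun h => (M.side b).hw1 (conj_eq_one_iff.1 (conj_eq_one_iff.1 h)))
      (fun h => hyT ((M.side b).mem_T_of_fix hy h.symm)) ?_ ?_
    · intro h
      exact hy2T ((M.side b).mem_T_of_fix (mul_mem hy hy) (by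
        calc y * y * w b * (y * y)⁻¹ = z2 := by rw [hz2, hz1]; group
          _ = w b := h.symm))
    · intro h
      exact hyT ((M.side b).mem_T_of_fix hy (mul_left_cancel (mul_right_cancel h)).symm)
  have hcz : ∀ z ∈ W b, Commute (c b) z := fun z hz => (D.c_comm M b ((M.side b).hWT hz)).symm
  have horb : c (!b) * (y * c (!b) * y⁻¹) * (y * (y * c (!b) * y⁻¹) * y⁻¹) = c b := by
    have e1 : y * c (!b) * y⁻¹ = z1 * c b := by
      rw [hcb, ← conj_mul, hcy]
    have e2 : y * (y * c (!b) * y⁻¹) * y⁻¹ = z2 * c b := by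
      rw [e1, ← conj_mul, hcy]
    rw [e2, e1, hcb]
    calc w b * c b * (z1 * c b) * (z2 * c b) = w b * (c b * z1) * c b * z2 * c b := by group
      _ = w b * z1 * (c b * c b) * z2 * c b := by rw [(hcz z1 hz1W).eq]; group
      _ = c b := by rw [D.hc2, mul_one, hzprod, one_mul]
  by_cases hJN : Subgroup.centralizer ({w b} : Set G) ≤ Subgroup.normalizer (J : Set G)
  · apply D.hJ (!b)
    intro j hj
    set j' := k * j * k⁻¹ with hj'
    have hjJ : ∀ j ∈ J, ∀ d, Commute (k * j * k⁻¹) (k * c d * k⁻¹) := fun j hj d => by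
      rw [Commute, SemiconjBy, conj_mul, conj_mul, D.c_comm M d (D.hJT hj)]
    have hyJ : ∀ j ∈ J, ∃ j2 ∈ J, y⁻¹ * (k * j * k⁻¹) * y = k * j2 * k⁻¹ := by
      intro j hj
      refine ⟨_, (Subgroup.mem_normalizer_iff.1 (hJN (inv_mem hC)) j).1 hj, ?_⟩
      group
    have h0 : ∀ j ∈ J, Commute (k * j * k⁻¹) (c (!b)) := fun j hj => by
      have := hjJ j hj (!b)
      rwa [hkc] at this
    have h1 : ∀ j ∈ J, Commute (k * j * k⁻¹) (y * c (!b) * y⁻¹) := fun j hj => by
      obtain ⟨j2, hj2, e⟩ := hyJ j hj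
      have := h0 j2 hj2
      rw [← e] at this
      show _ = _
      calc k * j * k⁻¹ * (y * c (!b) * y⁻¹) = y * ((y⁻¹ * (k * j * k⁻¹) * y) * c (!b)) * y⁻¹ := by group
        _ = _ := by rw [this.eq]; group
    have h2 : ∀ j ∈ J, Commute (k * j * k⁻¹) (y * (y * c (!b) * y⁻¹) * y⁻¹) := fun j hj => by
      obtain ⟨j2, hj2, e⟩ := hyJ j hj
      have := h1 j2 hj2
      rw [← e] at this
      show _ = _
      calc k * j * k⁻¹ * (y * (y * c (!b) * y⁻¹) * y⁻¹)
          = y * ((y⁻¹ * (k * j * k⁻¹) * y) * (y * c (!b) * y⁻¹)) * y⁻¹ := by group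
        _ = _ := by rw [this.eq]; group
    have hjcb : Commute j' (c b) := horb ▸ ((h0 j hj).mul_right (h1 j hj)).mul_right (h2 j hj)
    have hjcu : Commute j' (c b * u) := hkw ▸ hjJ j hj b
    have hju : Commute j' u := by
      have := hjcb.mul_right hjcu
      rwa [← mul_assoc, D.hc2, one_mul] at this
    refine Subgroup.mem_centralizer_iff.2 fun g0 hg0 => ?_
    have hg0' := (M.side (!b)).conjW hk hg0
    have hcomm : Commute j' (k * g0 * k⁻¹) := by
      rcases (M.side (!b)).eq_of_mem hu huw hu1 hg0' with h | h | h | h <;> rw [h]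
      · exact Commute.one_right _
      · rw [hb']; exact hjcb
      · exact hju
      · rw [hb']; exact hjcu
    calc g0 * j = k⁻¹ * ((k * g0 * k⁻¹) * j') * k := by rw [hj']; group
      _ = j * g0 := by rw [hcomm.symm.eq, hj']; group
  obtain ⟨W3, hW3, hW34, hW3N, x, hx, hxc⟩ := D.hthird b hb hJN
  obtain ⟨d, hxd⟩ : ∃ d, x = c d := by
    rcases hxc with h | h
    · exact ⟨true, h⟩
    · exact ⟨false, h⟩
  subst hxd
  set x' := k * c d * k⁻¹ with hx'
  have hyW : ∀ g ∈ cj k W3, y * g * y⁻¹ ∈ cj k W3 := by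
    intro g hg
    rw [mem_cj] at hg ⊢
    have h1 := (Subgroup.mem_normalizer_iff.1 (hW3N hC) _).1 hg
    rwa [show k⁻¹ * y * k * (k⁻¹ * g * k) * (k⁻¹ * y * k)⁻¹ = k⁻¹ * (y * g * y⁻¹) * k by group] at h1
  have hx'0 : x' ∈ cj k W3 := conj_mem_cj hx
  have hyx : y * (y * x' * y⁻¹) * y⁻¹ ∈ cj k W3 := hyW _ (hyW _ hx'0)
  have hcase : ∃ f0, (f0 = 1 ∨ f0 = f) ∧ x' = f0 * c (!b) := by
    have hd : d = b ∨ d = !b := by cases b <;> cases d <;> simp
    rcases hd with rfl | rfl
    · refine ⟨f, Or.inr rfl, ?_⟩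
      rw [hx', hkw, hf', hsw, hb, mul_assoc (c _ * c _), ← (hcu _).eq, ← mul_assoc,
        mul_assoc (c _) (c _) (c _), D.hc2, mul_one]
    · exact ⟨1, Or.inl rfl, by rw [hx', hkc, one_mul]⟩
  obtain ⟨f0, hf0, hx'e⟩ := hcase
  have hyf0 : y * f0 * y⁻¹ = f0 := by
    rcases hf0 with h | h <;> rw [h]
    · group
    · exact hyf
  have hy1 : y * x' * y⁻¹ = f0 * (y * c (!b) * y⁻¹) := by rw [hx'e, ← conj_mul, hyf0]
  have hy2 : y * (y * x' * y⁻¹) * y⁻¹ = f0 * (y * (y * c (!b) * y⁻¹) * y⁻¹) := by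
    rw [hy1, ← conj_mul, hyf0]
  have hne01 : c (!b) ≠ y * c (!b) * y⁻¹ := by
    intro h
    rw [hcb, ← conj_mul, hcy] at h
    exact hyT ((M.side b).mem_T_of_fix hy (mul_right_cancel h).symm)
  have hne12 : y * c (!b) * y⁻¹ ≠ y * (y * c (!b) * y⁻¹) * y⁻¹ := fun h =>
    hne01 (mul_left_cancel (mul_right_cancel h))
  have hne02 : c (!b) ≠ y * (y * c (!b) * y⁻¹) * y⁻¹ := by
    intro h
    rw [show y * c (!b) * y⁻¹ = z1 * c b by rw [hcb, ← conj_mul, hcy], ← conj_mul, hcy, hcb] at h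
    refine hy2T ((M.side b).mem_T_of_fix (mul_mem hy hy) ?_)
    calc y * y * w b * (y * y)⁻¹ = y * (y * w b * y⁻¹) * y⁻¹ := by group
      _ = w b := (mul_right_cancel h).symm
  have hx1 : x' ≠ 1 := fun h => D.hc1 d (conj_eq_one_iff.1 h)
  have hW3' : Cfsg.IsElementaryAbelian 2 (cj k W3) := Thompson.isElementaryAbelian_map _ hW3
  have hW34' : Nat.card (cj k W3) = 4 := by
    rw [cj, Subgroup.card_map_of_injective (MulAut.conj k).injective, hW34]
  have hprod := four_product hW3' hW34' hx'0 (hyW _ hx'0) hyx hx1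
    (fun h => hx1 (conj_eq_one_iff.1 h)) (fun h => hx1 (conj_eq_one_iff.1 (conj_eq_one_iff.1 h)))
    (fun h => hne01 (mul_left_cancel (a := f0) (by rw [← hy1, ← hx'e]; exact h)))
    (fun h => hne02 (mul_left_cancel (a := f0) (by rw [← hy2, ← hx'e]; exact h)))
    (fun h => hne12 (mul_left_cancel (a := f0) (by rw [← hy1, ← hy2]; exact h)))
  rw [hy2, hy1, hx'e] at hprod
  rcases hf0 with rfl | rfl
  · rw [one_mul, one_mul, one_mul, horb] at hprod
    exact D.hc1 b hprod
  · have hfT : f ∈ T := mul_mem ((M.side b).hWT s.2) ((M.side (!b)).hWT hu)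
    have hcf : ∀ d, Commute f (c d) := fun d => D.c_comm M d hfT
    have hyc : ∀ g : G, Commute f g → Commute f (y * g * y⁻¹) := fun g hg => by
      have h1 : Commute (y * f * y⁻¹) (y * g * y⁻¹) := by
        rw [Commute, SemiconjBy, conj_mul, conj_mul, hg.eq]
      rwa [hyf] at h1
    have h3 : f * f * f * c b = 1 := by
      rw [← horb]
      have a0 := hcf (!b)
      have a1 := hyc _ a0
      rw [← triple f _ _ _ a0 a1]
      exact hprod
    have hf2 : f * f = 1 := by
      rw [← hkf, conj_mul, (M.side b).sq (M.side b).hw]; group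
    rw [hf2, one_mul] at h3
    have hfc : f = c b := by
      calc f = f * (c b * c b) := by rw [D.hc2, mul_one]
        _ = c b := by rw [← mul_assoc, h3, one_mul]
    apply D.c_notMem M (!b)
    have hcn : c (!b) * u = 1 := by
      rw [hf', hsw, hb, mul_assoc] at hfc
      exact mul_eq_left.1 hfc
    rw [eq_inv_of_mul_eq_one_left hcn]
    exact inv_mem hu

/-- **The two central involutions agree.** -/
theorem w_eq : w true = w false := by
  by_contra hne
  have hadj := D.adj M hne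
  obtain ⟨n, b, b', x, C⟩ := M.exists_crit_data hadj
  -- critical pairs never start at a crossed vertex
  have hA : ∀ b b' x, Crit T P W n b b' x → w b = c (!b) → False := by
    intro b b' x C hb
    rcases Nat.lt_or_ge n 3 with h3 | h3
    swap
    · exact D.far_case M hb h3 C
    have hn : n = 2 := by have := C.two_le; omega
    subst hn
    obtain ⟨hbb, hxP⟩ := C.wβδ
    have hbb' : b' = b := (Bool.not_inj hbb).symm
    subst hbb'
    have hxT : x ∉ T := fun h => C.hcrit (by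
      rw [M.cjQ ((M.side b').hTP h)]; exact M.W_le_Qb _)
    obtain ⟨k', hk', hk'T⟩ := (M.side b').exists_notMem
    rcases C.normal_or_crit M hk' hk'T with hN | ⟨q, hq, C'⟩
    · exact D.two_case_normal M hb hadj hxP hxT C.hcrit hN
    obtain ⟨hbb2, hx'P⟩ := C'.wβδ
    rw [Bool.not_not] at hx'P
    obtain ⟨-, -, -, -, hR'⟩ := C'.exists_pair M
    have hx'T : k'⁻¹ * x * q ∉ T := fun h => C'.hcrit (by
      rw [M.cjQ ((M.side (!b')).hTP h)]; exact M.W_le_Qb _)
    rcases D.w_cases M (!b') with h | h <;> rw [Bool.not_not] at h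
    · exact D.two_case_crit M hb h hadj hxP hxT C.hcrit hx'P hx'T C'.hcrit
    · refine hx'T ((M.side b').mem_T_of_fix hx'P ?_)
      rw [h, ← conj_mul, D.hcP b' _ hx'P, mul_inv_cancel_right] at hR'
      have h5 := mul_right_cancel hR'
      rw [hb]
      exact h5.symm
  have hb : w b = c b * c (!b) := (D.w_cases M b).resolve_left fun h => hA b b' x C h
  have hb' : w (!b) = c b := by
    rcases D.w_cases M (!b) with h | h <;> rw [Bool.not_not] at h
    · exact h
    · exfalso
      apply hne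
      have e : w (!b) = w b := by rw [h, hb, D.cc M]
      cases b
      · exact e
      · exact e.symm
  obtain ⟨k, hk, hkT⟩ := (M.side b).exists_notMem
  rcases C.normal_or_crit M hk hkT with hN | ⟨q, hq, C'⟩
  · exact D.third_normal M hb hb' hadj hN
  · exact hA _ _ _ C' (by rw [Bool.not_not]; exact hb')

end CData

end Cfsg.Agent.JComp.Amalgam
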