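import Cfsg.Agent.Lib.JComp.AmalgamEqual

/-!
The two parabolics have the same central involution in their fours-groups.
-/

set_option autoImplicit false
set_option linter.style.haveILetI false
set_option linter.unusedSectionVars false
open scoped commutatorElement Pointwise

namespace Cfsg.Agent.JComp.Amalgam

open Cfsg.Agent

universe u

variable {G : Type u} [Group G]

/-- The closure of the squares of `H`. -/
def sqClosure (H : Subgroup G) : Subgroup G := Subgroup.closure ((fun g => g * g) '' (H : Set G))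

theorem sqClosure_mono {H K : Subgroup G} (h : H ≤ K) : sqClosure H ≤ sqClosure K :=
  Subgroup.closure_mono (Set.image_mono h)

theorem normalizer_le_sqClosure [Finite G] (H : Subgroup G) :
    Subgroup.normalizer (H : Set G) ≤ Subgroup.normalizer (sqClosure H : Set G) := by
  intro g hg
  rw [Subgroup.mem_normalizer_iff_map_conj_eq]
  refine Subgroup.eq_of_le_of_card_ge ?_ (Subgroup.card_map_of_injective (MulAut.conj g).injective).ge
  rw [sqClosure, MonoidHom.map_closure, Subgroup.closure_le]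
  rintro _ ⟨_, ⟨h, hh, rfl⟩, rfl⟩
  refine Subgroup.subset_closure ⟨g * h * g⁻¹, (Subgroup.mem_normalizer_iff.1 hg h).1 hh, ?_⟩
  simp [mul_assoc]

/-- In a fours-group the product of three different elements other than `1` is `1`. -/
theorem four_product {V : Subgroup G} (hV : Cfsg.IsElementaryAbelian 2 V) (h4 : Nat.card V = 4)
    {a b c : G} (ha : a ∈ V) (hb : b ∈ V) (hc : c ∈ V) (ha1 : a ≠ 1) (hb1 : b ≠ 1) (hc1 : c ≠ 1)
    (hab : a ≠ b) (hac : a ≠ c) (hbc : b ≠ c) : a * b * c = 1 := by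
  have hsq : ∀ v ∈ V, v * v = 1 := fun v hv => by rw [← pow_two]; exact hV.2 v hv
  have h : c = a * b := by
    by_contra hcon
    haveI : Finite V := Nat.finite_of_card_ne_zero (by omega)
    have hfin : (V : Set G).Finite := Set.toFinite _
    have h1 : a * b ≠ 1 := fun h => hab (mul_left_cancel ((hsq a ha).trans h.symm))
    have h2 : a * b ≠ a := fun h => hb1 (mul_eq_left.1 h)
    have h3 : a * b ≠ b := fun h => ha1 (mul_eq_right.1 h)
    have h5 : ({(1 : G), a, b, a * b, c} : Set G).ncard = 5 := by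
      rw [Set.ncard_insert_of_notMem (by simp [Ne.symm ha1, Ne.symm hb1, Ne.symm h1, Ne.symm hc1]),
        Set.ncard_insert_of_notMem (by simp [hab, Ne.symm h2, hac]),
        Set.ncard_insert_of_notMem (by simp [Ne.symm h3, hbc]),
        Set.ncard_insert_of_notMem (by simp [Ne.symm hcon]), Set.ncard_singleton]
    have h4' : ({(1 : G), a, b, a * b, c} : Set G).ncard ≤ (V : Set G).ncard := by
      refine Set.ncard_le_ncard ?_ hfin
      rintro z (rfl | rfl | rfl | rfl | rfl)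
      · exact one_mem V
      · exact ha
      · exact hb
      · exact mul_mem ha hb
      · exact hc
    rw [h5, ← Nat.card_coe_set_eq] at h4'
    simp only [SetLike.coe_sort_coe, h4] at h4'
    omega
  rw [h, hsq _ (mul_mem ha hb)]

theorem sq_not_mem_of_odd {H : Subgroup G} {g : G} (ho : Odd (orderOf g)) (hg : g ∉ H) : g * g ∉ H := by
  intro h
  obtain ⟨i, hi⟩ := exists_pow_eq_self_of_coprime (n := 2) (x := g) (Nat.coprime_two_left.2 ho)
  apply hg
  rw [← hi, pow_two]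
  exact pow_mem h i

/-- Centres and further hypotheses. -/
structure CData (T J : Subgroup G) (P W : Bool → Subgroup G) (w c : Bool → G) : Prop where
  hT2 : IsPGroup 2 T
  hcT : ∀ b, c b ∈ T
  hcP : ∀ b, ∀ p ∈ P b, p * c b = c b * p
  hc1 : ∀ b, c b ≠ 1
  hc2 : ∀ b, c b * c b = 1
  hne : c true ≠ c false
  hZ : ∀ b, ∀ x ∈ T, (∀ t ∈ T, t * x = x * t) → x * x = 1 →
    x = 1 ∨ x = c b ∨ x = c (!b) ∨ x = c b * c (!b)
  hcW : ∀ b b' g, g * c b' * g⁻¹ = c b → cj g (W b') = W b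
  hcent : ∀ b g, g * c b = c b * g → g ∈ Subgroup.normalizer (W b : Set G)
  hJT : J ≤ T
  hJ : ∀ b, ¬ J ≤ Subgroup.centralizer (W b : Set G)
  hodd : ∀ b, ∃ y ∈ P b, y ∉ T ∧ Odd (orderOf y)
  hthird : ∀ b, w b = c b * c (!b) →
    ¬ Subgroup.centralizer ({w b} : Set G) ≤ Subgroup.normalizer (J : Set G) →
    ∃ W3 : Subgroup G, Cfsg.IsElementaryAbelian 2 W3 ∧ Nat.card W3 = 4 ∧
      Subgroup.centralizer ({w b} : Set G) ≤ Subgroup.normalizer (W3 : Set G) ∧
      ∃ x ∈ W3, x = c true ∨ x = c false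

namespace CData

variable {T J : Subgroup G} {P W : Bool → Subgroup G} {w c : Bool → G}
  (D : CData T J P W w c) (M : Amal T P W w)
include D M

theorem c_comm (b : Bool) {t : G} (ht : t ∈ T) : t * c b = c b * t := D.hcP b t ((M.side b).hTP ht)

theorem cc (b b' : Bool) : c b * c b' = c b' * c b := D.c_comm M b' (D.hcT b)

theorem hne' (b : Bool) : c b ≠ c (!b) := by cases b <;> [exact D.hne.symm; exact D.hne]

theorem w_ne (b : Bool) : w b ≠ c b := fun h =>
  (M.side b).hw1 ((M.side b).hfix _ (M.side b).hw fun p hp => by rw [h]; exact D.hcP b p hp)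

theorem w_cases (b : Bool) : w b = c (!b) ∨ w b = c b * c (!b) := by
  have S := M.side b
  rcases D.hZ b (w b) (S.hWT S.hw) S.hwT (S.sq S.hw) with h | h | h | h
  · exact absurd h S.hw1
  · exact absurd h (D.w_ne M b)
  · exact Or.inl h
  · exact Or.inr h

theorem c_notMem (b : Bool) : c b ∉ W b := fun h =>
  D.hc1 b ((M.side b).hfix _ h fun p hp => D.hcP b p hp)

theorem third_ne_right (b : Bool) : c b * c (!b) ≠ c (!b) := fun h => D.hc1 b (mul_eq_right.1 h)

variable [Finite G]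

theorem adj (hne : w true ≠ w false) (b : Bool) : W b ≤ Qb T W (!b) := by
  intro u hu
  refine ⟨(M.side b).hWT hu, Subgroup.mem_centralizer_iff.2 fun e he => ?_⟩
  by_contra hcon
  have hne' : ⁅u, e⁆ ≠ 1 := fun h => hcon (commutatorElement_eq_one_iff_mul_comm.1 h).symm
  have h1 := ((M.side (!b)).comm_cases ((M.side b).hWT hu) he).resolve_left hne'
  have h2 := ((M.side b).comm_cases' ((M.side (!b)).hWT he) hu).resolve_left hne'
  apply hne
  cases b
  · exact h1.symm.trans h2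
  · exact h2.symm.trans h1

/-- Conjugates of `W b` by `P (!b) ∖ T` do not commute with `W b`, if one does not. -/
theorem noncomm_all {b : Bool} {x k : G} (hx : x ∈ P (!b)) (hxT : x ∉ T)
    (h : ¬ W b ≤ cj x (Qb T W b)) (hk : k ∈ P (!b)) (hkT : k ∉ T) : ¬ W b ≤ cj k (Qb T W b) := by
  intro hc
  apply h
  obtain ⟨t, ht, hr⟩ := (M.side (!b)).double_coset hx hxT hk hkT
  have e : cj k (Qb T W b) = cj t (cj x (Qb T W b)) := by
    rw [← cj_mul, show k = (t * x) * ((t * x)⁻¹ * k) by group, cj_mul,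
      M.cjQ ((M.side b).hTP hr)]
  rw [e] at hc
  have := cj_mono (x := t⁻¹) hc
  rwa [← cj_mul t⁻¹ t, inv_mul_cancel, cj_one, M.cjW (inv_mem ((M.side b).hTP ht))] at this

/-- For crossed involutions, `e` and `m e m⁻¹` have commutator `w b`. -/
theorem comm_conj {b : Bool} (hb : w b = c (!b)) (hadj : W b ≤ Qb T W (!b)) {m e : G}
    (hm : m ∈ P (!b)) (hnc : ¬ W b ≤ cj m (Qb T W b)) (he : e ∈ W b) (hew : e ≠ w b) (he1 : e ≠ 1) :
    ⁅e, m * e * m⁻¹⁆ = w b := by
  have hQ : ∀ z ∈ W b, m * z * m⁻¹ ∈ T := fun z hz => (M.Qb_le_T _)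
    ((Subgroup.mem_normalizer_iff.1 ((M.side (!b)).hQn hm) z).1 (hadj hz))
  refine ((M.side b).comm_cases' (hQ e he) he).resolve_left fun h0 => hnc ?_
  intro z hz
  have hmw : m * w b * m⁻¹ = w b := by rw [hb, D.hcP _ m hm, mul_inv_cancel_right]
  have hzT : m⁻¹ * z * m ∈ T := by
    have := (Subgroup.mem_normalizer_iff.1 ((M.side (!b)).hQn (inv_mem hm)) z).1 (hadj hz)
    rw [inv_inv] at this
    exact this.1
  refine mem_cj.2 ⟨hzT, Subgroup.mem_centralizer_iff.2 fun g hg => ?_⟩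
  have key : ∀ g ∈ W b, (m * g * m⁻¹) * z = z * (m * g * m⁻¹) := by
    intro g hg
    have h1 : Commute e (m * e * m⁻¹) := commutatorElement_eq_one_iff_mul_comm.1 h0
    have hwz : ∀ r ∈ T, Commute r (w b) := fun r hr => (M.side b).hwT r hr
    have h2 : Commute z (m * g * m⁻¹) := by
      rcases (M.side b).eq_of_mem he hew he1 hg with rfl | rfl | rfl | rfl
      · simp
      · rw [hmw]; exact hwz z ((M.side b).hWT hz)
      · rcases (M.side b).eq_of_mem he hew he1 hz with rfl | rfl | rfl | rfl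
        · exact Commute.one_left _
        · exact (hwz _ (hQ _ he)).symm
        · exact h1
        · exact (hwz _ (hQ _ he)).symm.mul_left h1
      · have e2 : m * (w b * e) * m⁻¹ = w b * (m * e * m⁻¹) := by
          rw [← conj_mul, hmw]
        rw [e2]
        refine (hwz z ((M.side b).hWT hz)).mul_right ?_
        rcases (M.side b).eq_of_mem he hew he1 hz with rfl | rfl | rfl | rfl
        · exact Commute.one_left _
        · exact (hwz _ (hQ _ he)).symm
        · exact h1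
        · exact (hwz _ (hQ _ he)).symm.mul_left h1
    exact h2.eq.symm
  calc g * (m⁻¹ * z * m) = m⁻¹ * ((m * g * m⁻¹) * z) * m := by group
    _ = m⁻¹ * z * m * g := by rw [key g hg]; group

/-- An element of a conjugate of `W b` moving `W b`. -/
theorem exists_moving {b : Bool} (hb : w b = c (!b)) (hadj : W b ≤ Qb T W (!b)) {k : G}
    (hk : k ∈ P (!b)) (hnc : ¬ W b ≤ cj k (Qb T W b)) :
    ∃ e ∈ W b, e ≠ w b ∧ e ≠ 1 ∧ k * e * k⁻¹ ∈ Qb T W (!b) ∧
      k * e * k⁻¹ ∉ Subgroup.centralizer (W b : Set G) := by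
  obtain ⟨e, he, hew, he1⟩ := (M.side b).exists_other
  refine ⟨e, he, hew, he1, (Subgroup.mem_normalizer_iff.1 ((M.side (!b)).hQn hk) e).1 (hadj he), ?_⟩
  intro h
  have h0 := D.comm_conj M hb hadj hk hnc he hew he1
  rw [commutatorElement_eq_one_iff_mul_comm.2 (Subgroup.mem_centralizer_iff.1 h e he)] at h0
  exact (M.side b).hw1 h0.symm

theorem two_case_crit {b : Bool} (hb : w b = c (!b)) (hb' : w (!b) = c b)
    (hadj : ∀ d, W d ≤ Qb T W (!d)) {k k' : G} (hk : k ∈ P (!b)) (hkT : k ∉ T)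
    (hnc : ¬ W b ≤ cj k (Qb T W b)) (hk' : k' ∈ P b) (hk'T : k' ∉ T)
    (hnc' : ¬ W (!b) ≤ cj k' (Qb T W (!b))) : False := by
  have hb'' : w (!b) = c (!!b) := by rw [Bool.not_not]; exact hb'
  have hk'' : k' ∈ P (!!b) := by rw [Bool.not_not]; exact hk'
  obtain ⟨e, he, hew, he1, hu, hu'⟩ := D.exists_moving M hb (hadj b) hk hnc
  obtain ⟨f, hf, hfw, hf1, hv, hv'⟩ := D.exists_moving M hb'' (hadj (!b)) hk'' hnc'
  rw [Bool.not_not] at hv
  set u2 := k * e * k⁻¹ with hu2
  set v2 := k' * f * k'⁻¹ with hv2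
  have hu2i : u2⁻¹ = u2 := inv_eq_of_mul_eq_one_right (by
    rw [hu2, conj_mul, (M.side b).sq he]; group)
  have hv2i : v2⁻¹ = v2 := inv_eq_of_mul_eq_one_right (by
    rw [hv2, conj_mul, (M.side (!b)).sq hf]; group)
  -- the two expressions for `⁅v2, u2⁆`
  have hmf : k'⁻¹ * u2 * k' ∈ P b ∧ k'⁻¹ * u2 * k' ∉ T :=
    ⟨mul_mem (mul_mem (inv_mem hk') ((M.side b).hTP hu.1)) hk',
      fun h => hu' ((M.side b).inf_cj hk' hk'T ⟨hu.1, mem_cj.2 h⟩)⟩
  have hme : k⁻¹ * v2 * k ∈ P (!b) ∧ k⁻¹ * v2 * k ∉ T :=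
    ⟨mul_mem (mul_mem (inv_mem hk) ((M.side (!b)).hTP hv.1)) hk,
      fun h => hv' ((M.side (!b)).inf_cj hk hkT ⟨hv.1, mem_cj.2 h⟩)⟩
  have hncf : ¬ W (!b) ≤ cj (k'⁻¹ * u2 * k') (Qb T W (!b)) :=
    D.noncomm_all M (b := !b) hk'' hk'T hnc' (by rw [Bool.not_not]; exact hmf.1) hmf.2
  have hnce : ¬ W b ≤ cj (k⁻¹ * v2 * k) (Qb T W b) :=
    D.noncomm_all M (b := b) hk hkT hnc hme.1 hme.2
  have h1 := D.comm_conj M hb'' (hadj (!b)) (by rw [Bool.not_not]; exact hmf.1) hncf hf hfw hf1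
  have h2 := D.comm_conj M hb (hadj b) hme.1 hnce he hew he1
  have h1' : ⁅v2, u2 * v2 * u2⁻¹⁆ = c b := by
    calc ⁅v2, u2 * v2 * u2⁻¹⁆ = k' * ⁅f, k'⁻¹ * u2 * k' * f * (k'⁻¹ * u2 * k')⁻¹⁆ * k'⁻¹ := by
          rw [hv2]; simp only [commutatorElement_def]; group
      _ = c b := by rw [h1, hb', D.hcP b k' hk', mul_inv_cancel_right]
  have h2' : ⁅u2, v2 * u2 * v2⁻¹⁆ = c (!b) := by
    calc ⁅u2, v2 * u2 * v2⁻¹⁆ = k * ⁅e, k⁻¹ * v2 * k * e * (k⁻¹ * v2 * k)⁻¹⁆ * k⁻¹ := by
          rw [hu2]; simp only [commutatorElement_def]; group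
      _ = c (!b) := by rw [h2, hb, D.hcP _ k hk, mul_inv_cancel_right]
  have e1 : ⁅v2, u2 * v2 * u2⁻¹⁆ = (v2 * u2 * v2 * u2) * (v2 * u2 * v2 * u2) := by
    simp only [commutatorElement_def, mul_inv_rev, inv_inv, hu2i, hv2i]; group
  have e2 : ⁅u2, v2 * u2 * v2⁻¹⁆ = ((v2 * u2 * v2 * u2) * (v2 * u2 * v2 * u2))⁻¹ := by
    simp only [commutatorElement_def, mul_inv_rev, inv_inv, hu2i, hv2i]; group
  rw [h1'] at e1
  rw [h2', ← e1, inv_eq_of_mul_eq_one_right (D.hc2 b)] at e2
  exact D.hne' M b e2.symm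

theorem two_case_normal {b : Bool} (hb : w b = c (!b)) (hadj : ∀ d, W d ≤ Qb T W (!d)) {k : G}
    (hk : k ∈ P (!b)) (hkT : k ∉ T) (hnc : ¬ W b ≤ cj k (Qb T W b))
    (hN : P b ≤ Subgroup.normalizer ((W b ⊔ W (!b) : Subgroup G) : Set G)) : False := by
  obtain ⟨e, he, hew, he1, hu, hu'⟩ := D.exists_moving M hb (hadj b) hk hnc
  set u2 := k * e * k⁻¹ with hu2
  obtain ⟨t, ht, htC⟩ := SetLike.not_le_iff_exists.1 (M.side (!b)).hne
  set u3 := t * u2 * t⁻¹ with hu3
  have htP : t ∈ P (!b) := (M.side (!b)).hTP ht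
  have hu3Q : u3 ∈ Qb T W (!b) := (Subgroup.mem_normalizer_iff.1 ((M.side (!b)).hQn htP) u2).1 hu
  have hm : k⁻¹ * t * k ∈ P (!b) ∧ k⁻¹ * t * k ∉ T :=
    ⟨mul_mem (mul_mem (inv_mem hk) htP) hk,
      fun h => htC ((M.side (!b)).inf_cj hk hkT ⟨ht, mem_cj.2 h⟩)⟩
  have h2 := D.comm_conj M hb (hadj b) hm.1 (D.noncomm_all M hk hkT hnc hm.1 hm.2) he hew he1
  have h2' : ⁅u2, u3⁆ = w b := by
    calc ⁅u2, u3⁆ = k * ⁅e, k⁻¹ * t * k * e * (k⁻¹ * t * k)⁻¹⁆ * k⁻¹ := by
          rw [hu3, hu2]; simp only [commutatorElement_def]; group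
      _ = w b := by rw [h2, hb, D.hcP _ k hk, mul_inv_cancel_right]
  have hu3C : u3 ∉ Subgroup.centralizer (W b : Set G) := by
    intro h
    apply hu'
    refine Subgroup.mem_centralizer_iff.2 fun z hz => ?_
    have hz' := (M.side b).conjW ((M.side b).hTP ht) hz
    have := Subgroup.mem_centralizer_iff.1 h _ hz'
    calc z * u2 = t⁻¹ * ((t * z * t⁻¹) * u3) * t := by rw [hu3]; group
      _ = u2 * z := by rw [this, hu3]; group
  set D0 := Qb T W b ⊓ Qb T W (!b) with hD0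
  have hi : u2 * u3 ∈ D0 :=
    ⟨(M.side b).mul_mem_Q hu.1 hu3Q.1 hu' hu3C, Subgroup.mul_mem _ hu hu3Q⟩
  have hu2i : u2⁻¹ = u2 := inv_eq_of_mul_eq_one_right (by
    rw [hu2, conj_mul, (M.side b).sq he]; group)
  have hu3i : u3⁻¹ = u3 := by
    calc u3⁻¹ = t * u2⁻¹ * t⁻¹ := by rw [hu3]; group
      _ = u3 := by rw [hu2i]
  have hwb : w b ∈ sqClosure D0 := by
    refine Subgroup.subset_closure ⟨_, hi, ?_⟩
    rw [← h2', commutatorElement_def, hu2i, hu3i]
    group
  have hD0n : P b ≤ Subgroup.normalizer (D0 : Set G) := by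
    intro p hp
    refine mem_normalizer_of_cj (Subgroup.eq_of_le_of_card_ge ?_
      (Subgroup.card_map_of_injective (MulAut.conj p).injective).ge)
    rintro _ ⟨d, hd, rfl⟩
    show p * d * p⁻¹ ∈ D0
    have h1 : p * d * p⁻¹ ∈ Qb T W b := (Subgroup.mem_normalizer_iff.1 ((M.side b).hQn hp) d).1 hd.1
    refine ⟨h1, h1.1, Subgroup.mem_centralizer_iff.2 fun z hz => ?_⟩
    have hz' : p⁻¹ * z * p ∈ W b ⊔ W (!b) := by
      have := (Subgroup.mem_normalizer_iff.1 (hN (inv_mem hp)) z).1 (Subgroup.mem_sup_right hz)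
      rwa [inv_inv] at this
    have hdX : W b ⊔ W (!b) ≤ Subgroup.centralizer ({d} : Set G) := by
      refine sup_le ?_ ?_ <;> intro r hr <;> rw [Subgroup.mem_centralizer_singleton_iff]
      · exact Subgroup.mem_centralizer_iff.1 hd.1.2 r hr
      · exact Subgroup.mem_centralizer_iff.1 hd.2.2 r hr
    have := Subgroup.mem_centralizer_singleton_iff.1 (hdX hz')
    calc z * (p * d * p⁻¹) = p * ((p⁻¹ * z * p) * d) * p⁻¹ := by group
      _ = p * d * p⁻¹ * z := by rw [this]; group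
  have hWsq : W b ≤ sqClosure (Qb T W (!b)) := by
    intro z hz
    by_cases hz1 : z = 1
    · rw [hz1]; exact one_mem _
    obtain ⟨p, hp, rfl⟩ := (M.side b).exists_conj hz hz1
    exact sqClosure_mono inf_le_right ((Subgroup.mem_normalizer_iff.1
      ((hD0n.trans (normalizer_le_sqClosure _)) hp) _).1 hwb)
  have hsq : sqClosure (Qb T W (!b)) ≤ Qb T W b := by
    rw [sqClosure, Subgroup.closure_le]
    rintro _ ⟨q, hq, rfl⟩
    by_cases hqC : q ∈ Subgroup.centralizer (W b : Set G)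
    · exact mul_mem (s := Qb T W b) ⟨hq.1, hqC⟩ ⟨hq.1, hqC⟩
    · exact (M.side b).mul_mem_Q hq.1 hq.1 hqC hqC
  exact hu' (hsq ((Subgroup.mem_normalizer_iff.1
    (((M.side (!b)).hQn.trans (normalizer_le_sqClosure _)) hk) e).1 (hWsq he))).2

theorem far_case {b b' : Bool} {n : ℕ} {x : G} (hb : w b = c (!b)) (hn : 3 ≤ n)
    (C : Crit T P W n b b' x) : False := by
  haveI : Fact (Nat.Prime 2) := ⟨Nat.prime_two⟩
  obtain ⟨-, -, -, -, hR⟩ := C.exists_pair M
  have hWxT : W (!b) ≤ cj x T :=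
    (C.hmin _ (by have := C.two_le; omega) _ _ _ C.wβδ).trans (cj_mono (M.Qb_le_T _))
  have hTN : cj x T ≤ Subgroup.normalizer (W (!b) : Set G) := by
    intro g hg
    refine D.hcent _ g ?_
    have h := (M.side b').hwT _ (mem_cj.1 hg)
    rw [← hb, hR]
    calc g * (x * w b' * x⁻¹) = x * (x⁻¹ * g * x * w b') * x⁻¹ := by group
      _ = x * w b' * x⁻¹ * g := by rw [h]; group
  have hne : W (!b) ⊓ Subgroup.centralizer (cj x T : Set G) ≠ ⊥ :=
    inf_centralizer_ne_bot (D.hT2.map _) (FF.isPGroup_of_ea (M.side (!b)).hW) hTN fun h => by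
      have := (M.side (!b)).hW4
      rw [h, Subgroup.card_bot] at this
      omega
  obtain ⟨xx, ⟨hxxW, hxxC⟩, hxx1⟩ := SetLike.exists_of_lt (bot_lt_iff_ne_bot.2 hne)
  rw [Subgroup.mem_bot] at hxx1
  obtain ⟨q, hq, rfl⟩ := (M.side (!b)).exists_conj hxxW hxx1
  have hqR : q * c (!b) * q⁻¹ = c (!b) := by rw [D.hcP _ q hq, mul_inv_cancel_right]
  set z := x⁻¹ * (q * w (!b) * q⁻¹) * x with hz
  have hzT : z ∈ T := mem_cj.1 (hWxT hxxW)
  have hzc : ∀ t ∈ T, t * z = z * t := by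
    intro t ht
    have := Subgroup.mem_centralizer_iff.1 hxxC (x * t * x⁻¹) (conj_mem_cj ht)
    calc t * z = x⁻¹ * ((x * t * x⁻¹) * (q * w (!b) * q⁻¹)) * x := by rw [hz]; group
      _ = z * t := by rw [this, hz]; group
  have hz2 : z * z = 1 := by
    calc z * z = x⁻¹ * q * (w (!b) * w (!b)) * q⁻¹ * x := by rw [hz]; group
      _ = 1 := by rw [(M.side (!b)).sq (M.side (!b)).hw]; group
  have hxR : x⁻¹ * c (!b) * x = w b' := by rw [← hb, hR]; group
  -- `D' = c b'` is impossible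
  have hD : x⁻¹ * (q * c b * q⁻¹) * x ≠ c b' := by
    intro h
    have h1 : (q⁻¹ * x) * c b' * (q⁻¹ * x)⁻¹ = c b := by rw [← h]; group
    have h2 : cj x (W b') = cj q (W b) := by
      rw [← D.hcW b b' _ h1, ← cj_mul, mul_inv_cancel_left]
    have hw2 : Walk P 2 b b q := ⟨1, one_mem _, q, by simpa using hq, Bool.not_not b, by
      simpa using one_mem (P (!!b))⟩
    have h3 := C.hmin 2 (by omega) _ _ _ hw2
    apply C.hcrit
    intro u hu
    refine mem_cj.2 ⟨mem_cj.1 (C.le_T' M hu), Subgroup.mem_centralizer_iff.2 fun g hg => ?_⟩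
    obtain ⟨g', hg', e⟩ : ∃ g' ∈ W b, q * g' * q⁻¹ = x * g * x⁻¹ := by
      have := mem_cj.1 (h2 ▸ conj_mem_cj (x := x) hg : x * g * x⁻¹ ∈ cj q (W b))
      exact ⟨_, this, by group⟩
    have hu' := Subgroup.mem_centralizer_iff.1 (mem_cj.1 (h3 hu)).2 g' hg'
    have e2 : (x * g * x⁻¹) * u = u * (x * g * x⁻¹) := by
      rw [← e]
      calc q * g' * q⁻¹ * u = q * (g' * (q⁻¹ * u * q)) * q⁻¹ := by group
        _ = u * (q * g' * q⁻¹) := by rw [hu']; group
    calc g * (x⁻¹ * u * x) = x⁻¹ * ((x * g * x⁻¹) * u) * x := by group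
      _ = x⁻¹ * u * x * g := by rw [e2]; group
  -- the common case `w b' = c (!b')`
  have hcross : w b' = c (!b') → z = w (!b') := by
    intro hr
    have h1 : x * c (!b') * x⁻¹ = c (!b) := by rw [← hr, ← hR, hb]
    have h2 := D.hcW (!b) (!b') x h1
    have hzW : z ∈ W (!b') := mem_cj.1 (h2 ▸ hxxW : q * w (!b) * q⁻¹ ∈ cj x (W (!b')))
    rcases (M.side (!b')).hwu z hzW hzc with h | h
    · exfalso
      apply hxx1
      calc q * w (!b) * q⁻¹ = x * z * x⁻¹ := by rw [hz]; group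
        _ = 1 := by rw [h]; group
    · exact h
  -- express `x⁻¹ (q c_b q⁻¹) x`
  have hexp : w (!b) = c b * c (!b) → x⁻¹ * (q * c b * q⁻¹) * x = z * w b' := by
    intro h
    rw [← hxR, hz, h]
    calc x⁻¹ * (q * c b * q⁻¹) * x = x⁻¹ * (q * (c b * (c (!b) * c (!b))) * q⁻¹) * x := by
          rw [D.hc2, mul_one]
      _ = x⁻¹ * (q * (c b * c (!b)) * q⁻¹ * (q * c (!b) * q⁻¹)) * x := by group
      _ = _ := by rw [hqR]; group
  have hnb : b' = b ∨ b' = !b := by cases b <;> cases b' <;> simp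
  rcases D.w_cases M b' with hr | hr
  · have hzw := hcross hr
    rcases D.w_cases M (!b) with h | h <;> rw [Bool.not_not] at h
    · -- crossed
      have hD' : x⁻¹ * (q * c b * q⁻¹) * x = w (!b') := by rw [← hzw, hz, h]
      rcases hnb with rfl | rfl
      · exact hD (by rw [hD', h])
      · rw [Bool.not_not] at hD'
        exact hD (by rw [hD', hb])
    · -- third
      rw [D.cc M] at h
      rcases hnb with rfl | rfl
      · exact hD (by rw [hexp h, hzw, h, hb, mul_assoc, D.hc2, mul_one])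
      · rw [Bool.not_not] at hr
        exact D.third_ne_right M (!b) (by
          rw [Bool.not_not, D.cc M (!b) b, ← h, hr])
  · rcases hnb with rfl | rfl
    · rw [hb] at hr
      exact D.third_ne_right M b' hr.symm
    · rw [Bool.not_not] at hr
      have h : w (!b) = c b * c (!b) := by rw [hr, D.cc M]
      have hDT : z * w (!b) ∈ T := mul_mem hzT ((M.side (!b)).hWT (M.side (!b)).hw)
      have hD2 : (z * w (!b)) * (z * w (!b)) = 1 := by
        have hcm : w (!b) * z = z * w (!b) := hzc _ ((M.side (!b)).hWT (M.side (!b)).hw)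
        calc (z * w (!b)) * (z * w (!b)) = z * (w (!b) * z) * w (!b) := by group
          _ = (z * z) * (w (!b) * w (!b)) := by rw [hcm]; group
          _ = 1 := by rw [hz2, (M.side (!b)).sq (M.side (!b)).hw, one_mul]
      have hDc : ∀ t ∈ T, t * (z * w (!b)) = z * w (!b) * t := fun t ht =>
        (Commute.mul_right (show Commute t z from hzc t ht)
          (show Commute t (w (!b)) from (M.side (!b)).hwT t ht)).eq
      have hexp' := hexp h
      have hDne1 : z * w (!b) ≠ 1 := fun e => by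
        rw [e] at hexp'
        apply D.hc1 b
        calc c b = q⁻¹ * x * (x⁻¹ * (q * c b * q⁻¹) * x) * x⁻¹ * q := by group
          _ = 1 := by rw [hexp']; group
      rcases D.hZ b _ hDT hDc hD2 with e | e | e | e
      · exact hDne1 e
      · -- `c b`
        have h1 : (q⁻¹ * x) * c b * (q⁻¹ * x)⁻¹ = c b := by
          calc (q⁻¹ * x) * c b * (q⁻¹ * x)⁻¹ = q⁻¹ * (x * (z * w (!b)) * x⁻¹) * q := by
                rw [e]; group
            _ = c b := by rw [← hexp']; group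
        have h2 := D.hcW b b _ h1
        have hmem : w b ∈ cj (q⁻¹ * x) (W b) := by rw [h2]; exact (M.side b).hw
        have hr' : w (!b) ∈ W b := by
          have h3 := mem_cj.1 hmem
          rwa [hb, show (q⁻¹ * x)⁻¹ * c (!b) * (q⁻¹ * x) = x⁻¹ * (q * c (!b) * q⁻¹) * x by group,
            hqR, hxR] at h3
        rcases (M.side b).hwu _ hr' (M.side (!b)).hwT with e1 | e1
        · exact (M.side (!b)).hw1 e1
        · rw [h, hb] at e1
          exact D.third_ne_right M b e1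
      · exact hD (by rw [hexp', e])
      · rw [e, ← h, ← hxR] at hexp'
        have h1 : q * c b * q⁻¹ = q * c (!b) * q⁻¹ := by
          rw [hqR]
          exact mul_left_cancel (mul_right_cancel hexp')
        exact D.hne' M b (mul_left_cancel (mul_right_cancel h1))

end CData

end Cfsg.Agent.JComp.Amalgam
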