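import Mathlib.GroupTheory.FiniteAbelian.Duality
import Mathlib.RingTheory.RootsOfUnity.AlgebraicallyClosed
import Mathlib.Analysis.Complex.Polynomial.Basic
import Mathlib.GroupTheory.PGroup
import Mathlib.GroupTheory.Sylow
import Cfsg.Prelude.Def_Transfer
import Cfsg.Agent.Lib.PLocal.Thompson
import Cfsg.Agent.Lib.PLocal.FF.Basic

/-!
An elementary abelian 2-group acting on an elementary abelian 2-group with just one fixed
involution: its faithful image has at most half the order of the module.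
-/

set_option autoImplicit false
set_option linter.style.haveILetI false

namespace Cfsg.Agent.JComp

open Cfsg.Agent

variable {G : Type*} [Group G]

/-- A 2-group normalizing a nontrivial 2-subgroup fixes a nontrivial element of it. -/
theorem inf_centralizer_ne_bot [Finite G] {A C : Subgroup G} (hA : IsPGroup 2 A) (hC : IsPGroup 2 C)
    (hn : A ≤ Subgroup.normalizer (C : Set G)) (hC1 : C ≠ ⊥) :
    C ⊓ Subgroup.centralizer (A : Set G) ≠ ⊥ := by
  haveI : Fact (Nat.Prime 2) := ⟨Nat.prime_two⟩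
  letI : MulAction A C :=
    { smul := fun a c => ⟨(a : G) * c * (a : G)⁻¹, (Subgroup.mem_normalizer_iff.1 (hn a.2) c).1 c.2⟩
      one_smul := fun c => Subtype.ext (show ((1 : A) : G) * c * ((1 : A) : G)⁻¹ = c by simp)
      mul_smul := fun a b c => Subtype.ext (show ((a * b : A) : G) * c * ((a * b : A) : G)⁻¹ =
        (a : G) * ((b : G) * c * (b : G)⁻¹) * (a : G)⁻¹ by simp [mul_assoc]) }
  haveI : Nontrivial C := (Subgroup.nontrivial_iff_ne_bot C).2 hC1
  obtain ⟨n, hn0, hcard⟩ := hC.nontrivial_iff_card.1 ‹_›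
  have h1 : (1 : C) ∈ MulAction.fixedPoints A C := fun a => Subtype.ext (by
    show (a : G) * ((1 : C) : G) * (a : G)⁻¹ = 1
    simp)
  obtain ⟨c, hc, hc1⟩ := hA.exists_fixed_point_of_prime_dvd_card_of_fixed_point C
    (by rw [hcard]; exact dvd_pow_self 2 hn0.ne') h1
  intro hbot
  apply hc1
  have hmem : (c : G) ∈ C ⊓ Subgroup.centralizer (A : Set G) := by
    refine ⟨c.2, Subgroup.mem_centralizer_iff.2 fun a ha => ?_⟩
    have h2 : a * (c : G) * a⁻¹ = c := congrArg Subtype.val (hc ⟨a, ha⟩)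
    exact mul_inv_eq_iff_eq_mul.1 h2
  rw [hbot, Subgroup.mem_bot] at hmem
  exact (Subtype.ext hmem.symm : (1 : C) = c)

/-- `2 |A| ≤ |C| |C_A(C)|` when `A` fixes a single involution of `C`. -/
theorem two_mul_card_le [Finite G] {A C : Subgroup G} (hA : Cfsg.IsElementaryAbelian 2 A)
    (hC : Cfsg.IsElementaryAbelian 2 C) (hn : A ≤ Subgroup.normalizer (C : Set G))
    (h2 : Nat.card ↥(C ⊓ Subgroup.centralizer (A : Set G)) = 2) :
    2 * Nat.card A ≤ Nat.card ↥(A ⊓ Subgroup.centralizer (C : Set G)) * Nat.card C := by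
  classical
  haveI : Fact (Nat.Prime 2) := ⟨Nat.prime_two⟩
  haveI := hC.1
  letI : CommGroup C :=
    { (inferInstance : Group C) with
      mul_comm := fun a b => Subtype.ext (Thompson.commute_of_isElementaryAbelian hC a.2 b.2) }
  have hfix2 : C ⊓ Subgroup.centralizer (A : Set G) ≠ ⊥ := fun h => by
    rw [h, Subgroup.card_bot] at h2; omega
  obtain ⟨z, hz, hz1⟩ := SetLike.exists_of_lt (bot_lt_iff_ne_bot.2 hfix2)
  have hzuniq : ∀ w ∈ C ⊓ Subgroup.centralizer (A : Set G), w ≠ 1 → w = z := by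
    intro w hw hw1
    have e : Subgroup.zpowers z = C ⊓ Subgroup.centralizer (A : Set G) := by
      refine Subgroup.eq_of_le_of_card_ge (Subgroup.zpowers_le.2 hz) ?_
      rw [h2, Nat.card_zpowers, orderOf_eq_prime (hC.2 z hz.1) (fun h => hz1 (h ▸ one_mem _))]
    rw [← e] at hw
    obtain ⟨k, rfl⟩ := Subgroup.mem_zpowers_iff.1 hw
    rcases Int.even_or_odd k with ⟨l, rfl⟩ | ⟨l, rfl⟩
    · exfalso
      apply hw1
      rw [← two_mul, zpow_mul, zpow_ofNat, hC.2 z hz.1, one_zpow]
    · rw [zpow_add_one, zpow_mul, zpow_ofNat, hC.2 z hz.1, one_zpow,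
        one_mul]
  obtain ⟨χ, hχ⟩ := CommGroup.exists_apply_ne_one_of_hasEnoughRootsOfUnity (G := C) ℂ
    (a := ⟨z, hz.1⟩) (fun h => hz1 (by
      have := congrArg Subtype.val h
      exact Subgroup.mem_bot.2 this))
  let cj : A → (C →* C) := fun e =>
    { toFun := fun c => ⟨(e : G) * c * (e : G)⁻¹, (Subgroup.mem_normalizer_iff.1 (hn e.2) c).1 c.2⟩
      map_one' := Subtype.ext (by simp)
      map_mul' := fun a b => Subtype.ext (by simp [mul_assoc]) }
  let Φ : A → (C →* ℂˣ) := fun e => χ.comp (cj e)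
  have hab : ∀ a ∈ A, ∀ b ∈ A, a * b = b * a := fun a ha b hb =>
    Thompson.commute_of_isElementaryAbelian hA ha hb
  have hΦz : ∀ e, Φ e ⟨z, hz.1⟩ = χ ⟨z, hz.1⟩ := fun e => by
    show χ _ = _
    congr 1
    refine Subtype.ext ?_
    show (e : G) * z * (e : G)⁻¹ = z
    rw [Subgroup.mem_centralizer_iff.1 hz.2 e e.2, mul_inv_cancel_right]
  -- equal images differ by an element centralizing `C`
  have hker : ∀ e f : A, Φ e = Φ f → (f : G)⁻¹ * e ∈ A ⊓ Subgroup.centralizer (C : Set G) := by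
    intro e f hef
    set k := (f : G)⁻¹ * e with hk
    have hkA : k ∈ A := mul_mem (inv_mem f.2) e.2
    let U : Subgroup C := ⨅ a : A, (Φ a).ker
    have hUmem : ∀ c : C, ⟨k * c * k⁻¹, (Subgroup.mem_normalizer_iff.1 (hn hkA) c).1 c.2⟩ * c⁻¹ ∈ U := by
      intro c
      rw [Subgroup.mem_iInf]
      intro a
      rw [MonoidHom.mem_ker, map_mul, map_inv, mul_inv_eq_one]
      let b : A := a * f⁻¹
      have h1 : Φ e (cj b c) = Φ f (cj b c) := by rw [hef]
      show χ _ = χ _
      refine Eq.trans (congrArg χ ?_) (h1.trans (congrArg χ ?_))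
      · refine Subtype.ext ?_
        show (a : G) * (k * c * k⁻¹) * (a : G)⁻¹ =
          (e : G) * (((a : G) * (f : G)⁻¹) * c * ((a : G) * (f : G)⁻¹)⁻¹) * (e : G)⁻¹
        have h3 : (a : G) * k = (e : G) * ((a : G) * (f : G)⁻¹) := by
          rw [hk, ← mul_assoc]
          exact (hab e e.2 _ (mul_mem a.2 (inv_mem f.2))).symm
        calc (a : G) * (k * c * k⁻¹) * (a : G)⁻¹ = ((a : G) * k) * c * ((a : G) * k)⁻¹ := by group
          _ = _ := by rw [h3]; group
      · refine Subtype.ext ?_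
        show (f : G) * (((a : G) * (f : G)⁻¹) * c * ((a : G) * (f : G)⁻¹)⁻¹) * (f : G)⁻¹ =
          (a : G) * c * (a : G)⁻¹
        have h3 : (f : G) * ((a : G) * (f : G)⁻¹) = a := by
          rw [← mul_assoc, hab f f.2 a a.2, mul_inv_cancel_right]
        calc _ = ((f : G) * ((a : G) * (f : G)⁻¹)) * c * ((f : G) * ((a : G) * (f : G)⁻¹))⁻¹ := by group
          _ = _ := by rw [h3]
    have hUbot : U.map C.subtype = ⊥ := by
      by_contra hU
      have hUn : A ≤ Subgroup.normalizer ((U.map C.subtype : Subgroup G) : Set G) := by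
        intro b hb
        rw [Subgroup.mem_normalizer_iff_map_conj_eq]
        refine Subgroup.eq_of_le_of_card_ge ?_
          (Subgroup.card_map_of_injective (MulAut.conj b).injective).ge
        rintro _ ⟨_, ⟨c, hc, rfl⟩, rfl⟩
        refine ⟨cj ⟨b, hb⟩ c, ?_, rfl⟩
        rw [SetLike.mem_coe, Subgroup.mem_iInf] at hc ⊢
        intro a
        have h1 := hc (a * ⟨b, hb⟩)
        rw [MonoidHom.mem_ker] at h1 ⊢
        refine Eq.trans (congrArg χ (Subtype.ext ?_)) h1
        show (a : G) * (b * c * b⁻¹) * (a : G)⁻¹ = ((a : G) * b) * c * ((a : G) * b)⁻¹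
        group
      have hC2 : IsPGroup 2 C := FF.isPGroup_of_ea hC
      obtain ⟨w, hw, hw1⟩ := SetLike.exists_of_lt (bot_lt_iff_ne_bot.2
        (inf_centralizer_ne_bot (FF.isPGroup_of_ea hA)
          (hC2.to_le (Subgroup.map_subtype_le U)) hUn hU))
      obtain ⟨⟨c, hc, rfl⟩, hwc⟩ := hw
      have := hzuniq c ⟨c.2, hwc⟩ (fun h => hw1 (by rw [Subgroup.mem_bot]; exact h))
      rw [SetLike.mem_coe, Subgroup.mem_iInf] at hc
      have h1 := hc 1
      rw [MonoidHom.mem_ker, show c = ⟨z, hz.1⟩ from Subtype.ext this, hΦz] at h1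
      exact hχ h1
    refine ⟨hkA, Subgroup.mem_centralizer_iff.2 fun c hc => ?_⟩
    have h := Subgroup.mem_map_of_mem C.subtype (hUmem ⟨c, hc⟩)
    rw [hUbot, Subgroup.mem_bot] at h
    have h' : k * c * k⁻¹ * c⁻¹ = 1 := h
    exact (mul_inv_eq_iff_eq_mul.1 (mul_inv_eq_one.1 h')).symm
  -- counting
  have hD : Nat.card (C →* ℂˣ) = Nat.card C := CommGroup.card_monoidHom_of_hasEnoughRootsOfUnity C ℂ
  haveI : Finite (C →* ℂˣ) :=
    Nat.finite_of_card_ne_zero (by rw [hD]; exact Nat.card_pos.ne')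
  set R := Set.range Φ with hR
  have h2R : 2 * R.ncard ≤ Nat.card C := by
    have hdisj : Disjoint R ((fun ψ => ψ * χ) '' R) := by
      rw [Set.disjoint_left]
      rintro _ ⟨e, rfl⟩ ⟨_, ⟨f, rfl⟩, he⟩
      have := DFunLike.congr_fun he ⟨z, hz.1⟩
      rw [MonoidHom.mul_apply, hΦz, hΦz, mul_eq_left] at this
      exact hχ this
    have := Set.ncard_union_eq hdisj (Set.toFinite _) (Set.toFinite _)
    rw [Set.ncard_image_of_injective _ (mul_left_injective χ)] at this
    rw [← hD, ← Set.ncard_univ]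
    calc 2 * R.ncard = R.ncard + R.ncard := two_mul _
      _ = _ := this.symm
      _ ≤ _ := Set.ncard_le_ncard (Set.subset_univ _)
  have hcount : Nat.card A ≤ R.ncard * Nat.card ↥(A ⊓ Subgroup.centralizer (C : Set G)) := by
    have hs : ∀ r : R, ∃ e : A, Φ e = r := fun r => r.2
    choose s hs using hs
    rw [← Nat.card_coe_set_eq, ← Nat.card_prod]
    refine Nat.card_le_card_of_injective
      (fun e : A => ((⟨Φ e, e, rfl⟩ : R),
        (⟨((s ⟨Φ e, e, rfl⟩ : A) : G)⁻¹ * e, hker e _ (hs ⟨Φ e, e, rfl⟩).symm⟩ :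
          ↥(A ⊓ Subgroup.centralizer (C : Set G))))) ?_
    intro e f hef
    simp only [Prod.mk.injEq] at hef
    have h := congrArg Subtype.val hef.2
    simp only [hef.1] at h
    exact Subtype.ext (mul_left_cancel h)
  calc 2 * Nat.card A ≤ 2 * (R.ncard * Nat.card ↥(A ⊓ Subgroup.centralizer (C : Set G))) :=
        Nat.mul_le_mul_left 2 hcount
    _ = Nat.card ↥(A ⊓ Subgroup.centralizer (C : Set G)) * (2 * R.ncard) := by ring
    _ ≤ _ := Nat.mul_le_mul_left _ h2R

end Cfsg.Agent.JComp
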