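import Cfsg.Prelude.Def_JComponents
import Cfsg.Agent.Lib.JComp.Dual
import Cfsg.Agent.Lib.PLocal.Thompson
import Cfsg.Agent.Lib.PLocal.OmegaOne
import Cfsg.Agent.Lib.Techniques.CharP
import Mathlib.GroupTheory.QuotientGroup.Basic

/-!
`J(T)`-components on their own: the four-group `W_K` and the centre of `J(T)`.
-/

set_option autoImplicit false
set_option linter.style.haveILetI false
set_option linter.unusedSectionVars false
open scoped commutatorElement Pointwise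

namespace Cfsg.Agent.JComp

open Cfsg.Agent

variable {G : Type*} [Group G]

/-! ### generalities -/

theorem normalizer_le_omegaCenterOf (X : Subgroup G) :
    Subgroup.normalizer (X : Set G) ≤ Subgroup.normalizer (Cfsg.omegaCenterOf X : Set G) := by
  rw [Subgroup.le_normalizer_iff]
  intro g hg x hx
  have hle : (Cfsg.omegaCenterOf X).map (MulAut.conj g).toMonoidHom ≤ Cfsg.omegaCenterOf X := by
    rw [Cfsg.omegaCenterOf, Cfsg.omegaOne, MonoidHom.map_closure, Subgroup.closure_le]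
    rintro _ ⟨v, ⟨⟨hv, hvc⟩, hv2⟩, rfl⟩
    have hg' := Subgroup.mem_normalizer_iff.1 hg
    refine Subgroup.subset_closure ⟨⟨?_, Subgroup.mem_centralizer_iff.2 fun u hu => ?_⟩, ?_⟩
    · simpa using (hg' v).1 hv
    · have h1 : g⁻¹ * u * g ∈ X := (hg' _).2 (by simpa [mul_assoc] using hu)
      have h2 := Subgroup.mem_centralizer_iff.1 hvc _ h1
      rw [MulEquiv.coe_toMonoidHom, MulAut.conj_apply]
      calc u * (g * v * g⁻¹) = g * ((g⁻¹ * u * g) * v) * g⁻¹ := by group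
        _ = g * v * g⁻¹ * u := by rw [h2]; group
    · rw [MulEquiv.coe_toMonoidHom, MulAut.conj_apply, conj_pow, hv2, mul_one, mul_inv_cancel]
  exact hle ⟨x, hx, rfl⟩

theorem normalizer_le_wOf (K : Subgroup G) :
    Subgroup.normalizer (K : Set G) ≤ Subgroup.normalizer (Cfsg.wOf K : Set G) := by
  intro g hg
  rw [Subgroup.mem_normalizer_iff_map_conj_eq, Cfsg.wOf, Subgroup.map_commutator,
    Subgroup.mem_normalizer_iff_map_conj_eq.1
      ((normalizer_le_omegaCenterOf _ (CharP.normalizer_le_normalizer_opIn (p := 2) K hg)) :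
        g ∈ Subgroup.normalizer (Cfsg.omegaCenterOf (Cfsg.pCoreOf 2 K) : Set G)),
    Subgroup.mem_normalizer_iff_map_conj_eq.1 hg]

theorem omegaCenterOf_ea (X : Subgroup G) : Cfsg.IsElementaryAbelian 2 (Cfsg.omegaCenterOf X) :=
  OmegaOne.isElementaryAbelian_center 2 X

theorem omegaCenterOf_le (X : Subgroup G) : Cfsg.omegaCenterOf X ≤ X :=
  (OmegaOne.le 2 _).trans inf_le_left

theorem fix_omegaCenterOf {X : Subgroup G} {x v : G} (hx : x ∈ X) (hv : v ∈ Cfsg.omegaCenterOf X) :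
    x * v * x⁻¹ = v := by
  rw [Subgroup.mem_centralizer_iff.1 (OmegaOne.le_centralizer_center 2 X hv) x hx,
    mul_inv_cancel_right]

theorem sup_ea {A B : Subgroup G} (hA : Cfsg.IsElementaryAbelian 2 A)
    (hB : Cfsg.IsElementaryAbelian 2 B) (hAB : A ≤ Subgroup.centralizer (B : Set G)) :
    Cfsg.IsElementaryAbelian 2 (A ⊔ B) := by
  have h : IsMulCommutative (Subgroup.closure ((A : Set G) ∪ (B : Set G))) := by
    refine Subgroup.isMulCommutative_closure ?_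
    rintro a (ha | ha) b (hb | hb)
    · exact Thompson.commute_of_isElementaryAbelian hA ha hb
    · exact (Subgroup.mem_centralizer_iff.1 (hAB ha) b hb).symm
    · exact Subgroup.mem_centralizer_iff.1 (hAB hb) a ha
    · exact Thompson.commute_of_isElementaryAbelian hB ha hb
  rw [Subgroup.closure_union, Subgroup.closure_eq, Subgroup.closure_eq] at h
  have hc : ∀ a ∈ A ⊔ B, ∀ b ∈ A ⊔ B, a * b = b * a := fun a ha b hb =>
    congrArg Subtype.val (h.is_comm.comm ⟨a, ha⟩ ⟨b, hb⟩)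
  refine ⟨⟨⟨fun a b => Subtype.ext (hc a a.2 b b.2)⟩⟩, fun x hx => ?_⟩
  have hle : A ⊔ B ≤ Cfsg.omegaOne 2 (A ⊔ B) := sup_le
    (fun a ha => OmegaOne.mem (Subgroup.mem_sup_left ha) (hA.2 a ha))
    (fun a ha => OmegaOne.mem (Subgroup.mem_sup_right ha) (hB.2 a ha))
  exact OmegaOne.pow_eq_one hc (hle hx)

theorem card_sup_inf {E A B : Subgroup G} [Finite G] (hE : Cfsg.IsElementaryAbelian 2 E)
    (hA : A ≤ E) (hB : B ≤ E) :
    Nat.card (A ⊔ B : Subgroup G) * Nat.card (A ⊓ B : Subgroup G) = Nat.card A * Nat.card B := by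
  haveI : Fact (Nat.Prime 2) := ⟨Nat.prime_two⟩
  exact FF.card_sup_mul_inf hE hA hB

theorem exists_sylowTwoIn [Finite G] {P H : Subgroup G} (hPH : P ≤ H) (hP : IsPGroup 2 P) :
    ∃ S : Subgroup G, Cfsg.IsSylowTwoIn S H ∧ P ≤ S := by
  haveI : Fact (Nat.Prime 2) := ⟨Nat.prime_two⟩
  have h1 : IsPGroup 2 (P.subgroupOf H) := hP.of_equiv (Subgroup.subgroupOfEquivOfLe hPH).symm
  obtain ⟨S, hS⟩ := h1.exists_le_sylow
  refine ⟨(S : Subgroup H).map H.subtype, ⟨Subgroup.map_subtype_le _, S.isPGroup'.map _, ?_⟩, ?_⟩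
  · rw [Subgroup.relIndex, Subgroup.subgroupOf, Subgroup.comap_map_eq_self_of_injective
      H.subtype_injective]
    exact Nat.not_even_iff_odd.1 fun he => S.not_dvd_index (even_iff_two_dvd.1 he)
  · intro x hx
    exact ⟨⟨x, hPH hx⟩, hS hx, rfl⟩

/-- If `J(T) ≤ S` and `J(S) = J(T)` then the largest elementary abelian subgroups of `T` are those
of `S`. -/
theorem isMax_of_thompson_eq [Finite G] {T S A : Subgroup G}
    (hA : Thompson.IsMaxEAIn 2 T A) (hJS : Cfsg.thompsonSubgroupOf 2 T ≤ S)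
    (hS : Cfsg.thompsonSubgroupOf 2 S = Cfsg.thompsonSubgroupOf 2 T) :
    Thompson.IsMaxEAIn 2 S A := by
  refine ⟨(Thompson.le_thompsonSubgroupOf hA).trans hJS, hA.2.1, fun B hB hBe => ?_⟩
  obtain ⟨D, hD⟩ := Thompson.exists_isMaxEAIn 2 S
  refine (hD.2.2 B hB hBe).trans (hA.2.2 D ?_ hD.2.1)
  exact (Thompson.le_thompsonSubgroupOf hD).trans (hS.le.trans (Thompson.thompsonSubgroupOf_le 2 T))

theorem eq_one_of_odd_of_pow {x v : G} {n : ℕ} (hx : Odd (orderOf x))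
    (h : x ^ (2 ^ n) * v = v * x ^ (2 ^ n)) : x * v = v * x := by
  obtain ⟨m, hm⟩ := exists_pow_eq_self_of_coprime (n := 2 ^ n) (x := x)
    (Nat.Coprime.pow_left n (Nat.coprime_two_left.2 hx))
  have h2 := (show Commute (x ^ (2 ^ n)) v from h).pow_left m
  rw [hm] at h2
  exact h2

theorem eq_one_of_odd_two {x : G} (hx : Odd (orderOf x)) {P : Subgroup G} (hP : IsPGroup 2 P)
    (hxP : x ∈ P) : x = 1 := by
  haveI : Fact (Nat.Prime 2) := ⟨Nat.prime_two⟩
  exact PBasic.eq_one_of_isPGroup_of_coprime hP hxP (Nat.coprime_two_right.2 hx)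

/-! ### the set-up -/

/-- The part of the definition of a `J(T)`-component not concerning `W_K`. -/
structure Pre (T K : Subgroup G) : Prop where
  hgen : Subgroup.closure {g : G | g ∈ K ∧ Odd (orderOf g)} = K
  hKJ : ⁅K, Cfsg.thompsonSubgroupOf 2 T⁆ = K
  hidx : (Cfsg.pCoreOf 2 K).relIndex K = 3
  hS : ∀ S : Subgroup G, Cfsg.IsSylowTwoIn S (K ⊔ Cfsg.thompsonSubgroupOf 2 T) →
    Cfsg.thompsonSubgroupOf 2 T ≤ S →
    Cfsg.thompsonSubgroupOf 2 S = Cfsg.thompsonSubgroupOf 2 T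
  hT : IsPGroup 2 T

theorem pre_of {T K : Subgroup G} (hT : IsPGroup 2 T) (h : Cfsg.IsJComponent T K) : Pre T K :=
  ⟨h.1, h.2.1, h.2.2.1, h.2.2.2.1, hT⟩

variable {T K : Subgroup G}

theorem Pre.le_normalizer (P : Pre T K) :
    Cfsg.thompsonSubgroupOf 2 T ≤ Subgroup.normalizer (K : Set G) :=
  Subgroup.le_normalizer_iff_commutator_le_left.2 P.hKJ.le

theorem Pre.isPGroup_core (_P : Pre T K) : IsPGroup 2 (Cfsg.pCoreOf 2 K) := CharP.opIn_isPGroup K

theorem Pre.core_le (_P : Pre T K) : Cfsg.pCoreOf 2 K ≤ K := CharP.opIn_le K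

theorem Pre.normalizes_core (_P : Pre T K) :
    Subgroup.normalizer (K : Set G) ≤ Subgroup.normalizer (Cfsg.pCoreOf 2 K : Set G) :=
  CharP.normalizer_le_normalizer_opIn K

theorem Pre.conj_core (P : Pre T K) {g q : G} (hg : g ∈ Subgroup.normalizer (K : Set G))
    (hq : q ∈ Cfsg.pCoreOf 2 K) : g * q * g⁻¹ ∈ Cfsg.pCoreOf 2 K :=
  (Subgroup.mem_normalizer_iff.1 (P.normalizes_core hg) q).1 hq

/-- The elements of `N(K)` acting trivially on `K / O₂(K)`. -/
def Pre.modCent (P : Pre T K) : Subgroup G where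
  carrier := {j | j ∈ Subgroup.normalizer (K : Set G) ∧ ∀ g ∈ K, ⁅g, j⁆ ∈ Cfsg.pCoreOf 2 K}
  one_mem' := ⟨one_mem _, fun g _ => by rw [commutatorElement_one_right]; exact one_mem _⟩
  mul_mem' := by
    rintro a b ⟨ha, ha'⟩ ⟨hb, hb'⟩
    refine ⟨mul_mem ha hb, fun g hg => ?_⟩
    have e : ⁅g, a * b⁆ = ⁅g, a⁆ * (a * ⁅g, b⁆ * a⁻¹) := by
      simp only [commutatorElement_def]; group
    rw [e]
    exact mul_mem (ha' g hg) (P.conj_core ha (hb' g hg))
  inv_mem' := by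
    rintro a ⟨ha, ha'⟩
    refine ⟨inv_mem ha, fun g hg => ?_⟩
    have e : ⁅g, a⁻¹⁆ = a⁻¹ * ⁅g, a⁆⁻¹ * a⁻¹⁻¹ := by simp only [commutatorElement_def]; group
    rw [e]
    exact P.conj_core (inv_mem ha) (inv_mem (ha' g hg))

theorem Pre.mem_modCent (P : Pre T K) {j : G} : j ∈ P.modCent ↔
    j ∈ Subgroup.normalizer (K : Set G) ∧ ∀ g ∈ K, ⁅g, j⁆ ∈ Cfsg.pCoreOf 2 K := Iff.rfl

/-- `a ∈ A`, a largest elementary abelian subgroup of `T`, inverts `y ∈ K ∖ O₂(K)` of odd order. -/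
structure Frame (T K A : Subgroup G) (a y : G) : Prop where
  pre : Pre T K
  hA : Thompson.IsMaxEAIn 2 T A
  ha : a ∈ A
  hy : y ∈ K
  hyQ : y ∉ Cfsg.pCoreOf 2 K
  hyo : Odd (orderOf y)
  hay : a * y * a⁻¹ = y⁻¹

theorem exists_frame [Finite G] (P : Pre T K) : ∃ A a y, Frame T K A a y := by
  have hne : ¬ Cfsg.thompsonSubgroupOf 2 T ≤ P.modCent := by
    intro h
    have h1 : K ≤ Cfsg.pCoreOf 2 K := P.hKJ.ge.trans
      (Subgroup.commutator_le.2 fun g hg j hj => (P.mem_modCent.1 (h hj)).2 g hg)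
    have h2 := Subgroup.relIndex_eq_one.2 h1
    rw [P.hidx] at h2
    omega
  rw [Thompson.thompsonSubgroupOf_eq, sSup_le_iff] at hne
  push Not at hne
  obtain ⟨A, hA, hAm⟩ := hne
  obtain ⟨a, ha, ham⟩ := SetLike.not_le_iff_exists.1 hAm
  have haJ := Thompson.le_thompsonSubgroupOf hA ha
  have haN := P.le_normalizer haJ
  rw [P.mem_modCent] at ham
  push Not at ham
  obtain ⟨g, hg, hgQ⟩ := ham haN
  set u := ⁅g, a⁆ with hu
  have ha2 : a⁻¹ = a := inv_eq_of_mul_eq_one_right (by rw [← pow_two]; exact hA.2.1.2 a ha)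
  have huK : u ∈ K := by
    rw [← P.hKJ]; exact Subgroup.commutator_mem_commutator hg haJ
  have hau : a * u * a⁻¹ = u⁻¹ := by
    rw [hu, commutatorElement_inv, commutatorElement_def, commutatorElement_def]
    conv_rhs => rw [show a * g * a⁻¹ * g⁻¹ = a * g * a * g⁻¹ by rw [ha2]]
    rw [ha2]
    calc a * (g * a * g⁻¹ * a) * a = a * g * a * g⁻¹ * (a * a) := by group
      _ = a * g * a * g⁻¹ := by rw [← pow_two, hA.2.1.2 a ha, mul_one]
  obtain ⟨k, m, hm, hum⟩ :=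
    Nat.exists_eq_pow_mul_and_not_dvd (orderOf_pos u).ne' 2 (by norm_num)
  refine ⟨A, a, u ^ (2 ^ k), P, hA, ha, pow_mem huK _, fun hQ => ?_, ?_, ?_⟩
  · haveI hn : ((Cfsg.pCoreOf 2 K).subgroupOf K).Normal :=
      (Subgroup.normal_subgroupOf_iff_le_normalizer P.core_le).2 (CharP.le_normalizer_opIn K)
    set N := (Cfsg.pCoreOf 2 K).subgroupOf K with hN
    have h3 : Nat.card (K ⧸ N) = 3 := P.hidx
    have h4 : (QuotientGroup.mk' N ⟨u, huK⟩) ^ (2 ^ k) = 1 := by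
      rw [← map_pow, QuotientGroup.mk'_apply, QuotientGroup.eq_one_iff]
      exact hQ
    have h5 : orderOf (QuotientGroup.mk' N ⟨u, huK⟩) ∣ 3 := h3 ▸ orderOf_dvd_natCard _
    have h6 := orderOf_dvd_of_pow_eq_one h4
    have h7 : orderOf (QuotientGroup.mk' N ⟨u, huK⟩) = 1 :=
      Nat.eq_one_of_dvd_coprimes ((by norm_num : Nat.Coprime 2 3).pow_left k) h6 h5
    rw [orderOf_eq_one_iff, QuotientGroup.mk'_apply, QuotientGroup.eq_one_iff] at h7
    exact hgQ h7
  · rw [orderOf_pow' u (Nat.two_pow_pos k).ne', hum,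
      Nat.gcd_eq_right (dvd_mul_right _ _), Nat.mul_div_cancel_left _ (Nat.two_pow_pos k)]
    exact Nat.odd_iff.2 (by omega)
  · rw [← conj_pow, hau, inv_pow]

variable {A : Subgroup G} {a y : G}

namespace Frame

variable (F : Frame T K A a y)
include F

theorem haJ : a ∈ Cfsg.thompsonSubgroupOf 2 T := Thompson.le_thompsonSubgroupOf F.hA F.ha

theorem haN : a ∈ Subgroup.normalizer (K : Set G) := F.pre.le_normalizer F.haJ

theorem A_le_normalizer : A ≤ Subgroup.normalizer (K : Set G) :=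
  (Thompson.le_thompsonSubgroupOf F.hA).trans F.pre.le_normalizer

theorem a_inv : a⁻¹ = a :=
  inv_eq_of_mul_eq_one_right (by rw [← pow_two]; exact F.hA.2.1.2 a F.ha)

theorem inv_conj : a * y⁻¹ * a⁻¹ = y := by
  rw [← conj_inv, F.hay, inv_inv]

/-- `K = Q ∪ yQ ∪ y⁻¹Q`. -/
theorem dec {g : G} (hg : g ∈ K) : ∃ q ∈ Cfsg.pCoreOf 2 K, g = q ∨ g = y * q ∨ g = y⁻¹ * q := by
  haveI hn : ((Cfsg.pCoreOf 2 K).subgroupOf K).Normal :=
    (Subgroup.normal_subgroupOf_iff_le_normalizer F.pre.core_le).2 (CharP.le_normalizer_opIn K)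
  set N := (Cfsg.pCoreOf 2 K).subgroupOf K with hN
  haveI : Fact (Nat.Prime 3) := ⟨Nat.prime_three⟩
  have h3 : Nat.card (K ⧸ N) = 3 := F.pre.hidx
  haveI : Finite (K ⧸ N) := Nat.finite_of_card_ne_zero (by omega)
  set Y : K := ⟨y, F.hy⟩ with hY
  have hne : (QuotientGroup.mk' N Y) ≠ 1 := fun h => F.hyQ ((QuotientGroup.eq_one_iff Y).1 h)
  have hmem := mem_powers_of_prime_card (g' := QuotientGroup.mk' N ⟨g, hg⟩) h3 hne
  obtain ⟨i, hi⟩ := hmem
  have h1 : (QuotientGroup.mk' N Y) ^ 3 = 1 := by rw [← h3]; exact pow_card_eq_one'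
  have h2 : (QuotientGroup.mk' N Y) ^ i = (QuotientGroup.mk' N Y) ^ (i % 3) := pow_eq_pow_mod _ h1
  have hi' : (QuotientGroup.mk' N Y) ^ (i % 3) = QuotientGroup.mk' N ⟨g, hg⟩ := h2.symm.trans hi
  have conv : ∀ x : K, QuotientGroup.mk' N x = QuotientGroup.mk' N ⟨g, hg⟩ →
      (x : G)⁻¹ * g ∈ Cfsg.pCoreOf 2 K := fun x hx => (QuotientGroup.eq (s := N) (a := x) (b := (⟨g, hg⟩ : K))).1 hx
  rcases (show i % 3 = 0 ∨ i % 3 = 1 ∨ i % 3 = 2 by omega) with h | h | h
  · rw [h, pow_zero, ← map_one (QuotientGroup.mk' N)] at hi'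
    have := conv 1 hi'
    exact ⟨g, by simpa using this, Or.inl rfl⟩
  · rw [h, pow_one] at hi'
    exact ⟨y⁻¹ * g, conv Y hi', Or.inr (Or.inl (mul_inv_cancel_left y g).symm)⟩
  · rw [h] at hi'
    have h4 : QuotientGroup.mk' N Y⁻¹ = QuotientGroup.mk' N ⟨g, hg⟩ := by
      rw [← hi', map_inv]
      exact inv_eq_of_mul_eq_one_right (by rw [← pow_succ']; exact h1)
    have := conv Y⁻¹ h4
    rw [Subgroup.coe_inv, inv_inv] at this
    exact ⟨y * g, this, Or.inr (Or.inr (inv_mul_cancel_left y g).symm)⟩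

theorem sq_notMem : y * y ∉ Cfsg.pCoreOf 2 K := by
  intro h
  obtain ⟨m, hm⟩ := exists_pow_eq_self_of_coprime (n := 2) (x := y) (Nat.coprime_two_left.2 F.hyo)
  apply F.hyQ
  rw [← hm, pow_two]
  exact pow_mem h m

theorem a_notMem : a ∉ F.pre.modCent := by
  intro h
  apply F.sq_notMem
  have h1 := (F.pre.mem_modCent.1 h).2 y F.hy
  rw [commutatorElement_def] at h1
  rwa [show y * a * y⁻¹ * a⁻¹ = y * (a * y⁻¹ * a⁻¹) by group, F.inv_conj] at h1

theorem mem_modCent_of {e : G} (he : e ∈ Subgroup.normalizer (K : Set G))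
    (h : ⁅y, e⁆ ∈ Cfsg.pCoreOf 2 K) : e ∈ F.pre.modCent := by
  refine F.pre.mem_modCent.2 ⟨he, fun g hg => ?_⟩
  have hq : ∀ q ∈ Cfsg.pCoreOf 2 K, ⁅q, e⁆ ∈ Cfsg.pCoreOf 2 K := fun q hq => by
    rw [commutatorElement_def, mul_assoc, mul_assoc, ← mul_assoc e]
    exact mul_mem hq (F.pre.conj_core he (inv_mem hq))
  have hyN : y ∈ Subgroup.normalizer (K : Set G) := Subgroup.le_normalizer F.hy
  obtain ⟨q, hq', rfl | rfl | rfl⟩ := F.dec hg
  · exact hq _ hq'
  · rw [show ⁅y * q, e⁆ = y * ⁅q, e⁆ * y⁻¹ * ⁅y, e⁆ by simp only [commutatorElement_def]; group]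
    exact mul_mem (F.pre.conj_core hyN (hq _ hq')) h
  · rw [show ⁅y⁻¹ * q, e⁆ = y⁻¹ * ⁅q, e⁆ * y⁻¹⁻¹ * (y⁻¹ * ⁅y, e⁆⁻¹ * y⁻¹⁻¹) by
      simp only [commutatorElement_def]; group]
    exact mul_mem (F.pre.conj_core (inv_mem hyN) (hq _ hq'))
      (F.pre.conj_core (inv_mem hyN) (inv_mem h))

theorem mem_or {e : G} (he : e ∈ Subgroup.normalizer (K : Set G)) :
    e ∈ F.pre.modCent ∨ a * e ∈ F.pre.modCent := by
  have hyK : e * y * e⁻¹ ∈ K := (Subgroup.mem_normalizer_iff.1 he y).1 F.hy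
  obtain ⟨q, hq, h | h | h⟩ := F.dec hyK
  · exfalso
    apply F.hyQ
    have h2 := F.pre.conj_core (inv_mem he) hq
    rw [← h, inv_inv, show e⁻¹ * (e * y * e⁻¹) * e = y by group] at h2
    exact h2
  · left
    refine F.mem_modCent_of he ?_
    rw [show ⁅y, e⁆ = y * (e * y * e⁻¹)⁻¹ by simp only [commutatorElement_def]; group, h,
      mul_inv_rev, ← mul_assoc]
    exact F.pre.conj_core (Subgroup.le_normalizer F.hy) (inv_mem hq)
  · right
    refine F.mem_modCent_of (mul_mem F.haN he) ?_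
    rw [show ⁅y, a * e⁆ = y * (a * (e * y * e⁻¹) * a⁻¹)⁻¹ by simp only [commutatorElement_def]; group,
      h, show a * (y⁻¹ * q) * a⁻¹ = (a * y⁻¹ * a⁻¹) * (a * q * a⁻¹) by group, F.inv_conj,
      mul_inv_rev, ← mul_assoc]
    exact F.pre.conj_core (Subgroup.le_normalizer F.hy) (inv_mem (F.pre.conj_core F.haN hq))

theorem K_le : K ≤ Cfsg.pCoreOf 2 K ⊔ Subgroup.zpowers y := by
  intro g hg
  obtain ⟨q, hq, rfl | rfl | rfl⟩ := F.dec hg
  · exact Subgroup.mem_sup_left hq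
  · exact mul_mem (Subgroup.mem_sup_right (Subgroup.mem_zpowers y)) (Subgroup.mem_sup_left hq)
  · exact mul_mem (inv_mem (Subgroup.mem_sup_right (Subgroup.mem_zpowers y)))
      (Subgroup.mem_sup_left hq)

/-! ### the module `Ω₁(Z(O₂(K)))` and `W_K` -/

theorem conjV {g v : G} (hg : g ∈ Subgroup.normalizer (K : Set G))
    (hv : v ∈ Cfsg.omegaCenterOf (Cfsg.pCoreOf 2 K)) :
    g * v * g⁻¹ ∈ Cfsg.omegaCenterOf (Cfsg.pCoreOf 2 K) :=
  (Subgroup.mem_normalizer_iff.1 (normalizer_le_omegaCenterOf _ (F.pre.normalizes_core hg)) v).1 hv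

theorem commV {u v : G} (hu : u ∈ Cfsg.omegaCenterOf (Cfsg.pCoreOf 2 K))
    (hv : v ∈ Cfsg.omegaCenterOf (Cfsg.pCoreOf 2 K)) : u * v = v * u :=
  Thompson.commute_of_isElementaryAbelian (omegaCenterOf_ea _) hu hv

theorem W_exists {w : G} (hw : w ∈ Cfsg.wOf K) :
    ∃ v ∈ Cfsg.omegaCenterOf (Cfsg.pCoreOf 2 K), w = y * v * y⁻¹ * v⁻¹ := by
  set V := Cfsg.omegaCenterOf (Cfsg.pCoreOf 2 K) with hV
  have hyN : y ∈ Subgroup.normalizer (K : Set G) := Subgroup.le_normalizer F.hy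
  let R : Subgroup G :=
    { carrier := {w | ∃ v ∈ V, w = y * v * y⁻¹ * v⁻¹}
      one_mem' := ⟨1, one_mem _, by group⟩
      mul_mem' := by
        rintro _ _ ⟨u, hu, rfl⟩ ⟨v, hv, rfl⟩
        refine ⟨u * v, mul_mem hu hv, ?_⟩
        calc y * u * y⁻¹ * u⁻¹ * (y * v * y⁻¹ * v⁻¹)
            = y * u * y⁻¹ * (u⁻¹ * (y * v * y⁻¹)) * v⁻¹ := by group
          _ = y * u * y⁻¹ * ((y * v * y⁻¹) * u⁻¹) * v⁻¹ := by
              rw [F.commV (inv_mem hu) (F.conjV hyN hv)]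
          _ = y * (u * v) * y⁻¹ * (u⁻¹ * v⁻¹) := by group
          _ = _ := by rw [F.commV (inv_mem hu) (inv_mem hv)]; group
      inv_mem' := by
        rintro _ ⟨u, hu, rfl⟩
        refine ⟨u⁻¹, inv_mem hu, ?_⟩
        calc (y * u * y⁻¹ * u⁻¹)⁻¹ = u * (y * u⁻¹ * y⁻¹) := by group
          _ = _ := by rw [F.commV hu (F.conjV hyN (inv_mem hu)), inv_inv] }
  have hle : Cfsg.wOf K ≤ R := by
    rw [Cfsg.wOf, Subgroup.commutator_le]
    intro v hv g hg
    obtain ⟨q, hq, rfl | rfl | rfl⟩ := F.dec hg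
    · refine ⟨1, one_mem _, ?_⟩
      rw [show ⁅v, g⁆ = v * (g * v⁻¹ * g⁻¹) by rw [commutatorElement_def]; group,
        fix_omegaCenterOf hq (inv_mem hv)]
      group
    · refine ⟨v⁻¹, inv_mem hv, ?_⟩
      rw [show ⁅v, y * q⁆ = v * (y * (q * v⁻¹ * q⁻¹) * y⁻¹) by rw [commutatorElement_def]; group,
        fix_omegaCenterOf hq (inv_mem hv), inv_inv, F.commV hv (F.conjV hyN (inv_mem hv))]
    · refine ⟨y⁻¹ * v * y⁻¹⁻¹, F.conjV (inv_mem hyN) hv, ?_⟩
      rw [show ⁅v, y⁻¹ * q⁆ = v * (y⁻¹ * (q * v⁻¹ * q⁻¹) * y⁻¹⁻¹) by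
        rw [commutatorElement_def]; group, fix_omegaCenterOf hq (inv_mem hv)]
      group
  exact hle hw

theorem mem_W {v : G} (hv : v ∈ Cfsg.omegaCenterOf (Cfsg.pCoreOf 2 K)) :
    y * v * y⁻¹ * v⁻¹ ∈ Cfsg.wOf K := by
  rw [← commutatorElement_def, ← commutatorElement_inv]
  exact inv_mem (Subgroup.commutator_mem_commutator hv F.hy)

theorem W_le : Cfsg.wOf K ≤ Cfsg.omegaCenterOf (Cfsg.pCoreOf 2 K) := by
  intro w hw
  obtain ⟨v, hv, rfl⟩ := F.W_exists hw
  exact mul_mem (F.conjV (Subgroup.le_normalizer F.hy) hv) (inv_mem hv)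

theorem W_ea : Cfsg.IsElementaryAbelian 2 (Cfsg.wOf K) :=
  Thompson.isElementaryAbelian_mono F.W_le (omegaCenterOf_ea _)

theorem W_le_core : Cfsg.wOf K ≤ Cfsg.pCoreOf 2 K := F.W_le.trans (omegaCenterOf_le _)

theorem conjW {g w : G} (hg : g ∈ Subgroup.normalizer (K : Set G)) (hw : w ∈ Cfsg.wOf K) :
    g * w * g⁻¹ ∈ Cfsg.wOf K :=
  (Subgroup.mem_normalizer_iff.1 (normalizer_le_wOf K hg) w).1 hw

theorem fixW {q w : G} (hq : q ∈ Cfsg.pCoreOf 2 K) (hw : w ∈ Cfsg.wOf K) : q * w * q⁻¹ = w :=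
  fix_omegaCenterOf hq (F.W_le hw)

theorem fpf {w : G} (hw : w ∈ Cfsg.wOf K) (h : y * w = w * y) : w = 1 := by
  obtain ⟨v, hv, rfl⟩ := F.W_exists hw
  set c := y * v * y⁻¹ * v⁻¹ with hc
  have hyc : y * c * y⁻¹ = c := by rw [h, mul_inv_cancel_right]
  have key : ∀ n : ℕ, y ^ n * v * (y ^ n)⁻¹ = c ^ n * v := by
    intro n
    induction n with
    | zero => simp
    | succ n ih =>
      calc y ^ (n + 1) * v * (y ^ (n + 1))⁻¹ = y * (y ^ n * v * (y ^ n)⁻¹) * y⁻¹ := by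
            rw [pow_succ']; group
        _ = (y * c * y⁻¹) ^ n * (y * v * y⁻¹) := by rw [ih, conj_pow]; group
        _ = c ^ (n + 1) * v := by rw [hyc, pow_succ, hc]; group
  have h1 := key (orderOf y)
  rw [pow_orderOf_eq_one, inv_one, one_mul, mul_one, eq_comm, mul_eq_right] at h1
  obtain ⟨k, hk⟩ := F.hyo
  rw [hk, pow_succ, pow_mul, F.W_ea.2 c hw, one_pow, one_mul] at h1
  exact h1

theorem C_inf : (Cfsg.wOf K ⊓ Subgroup.centralizer ({a} : Set G)) ⊓
    (Cfsg.wOf K ⊓ Subgroup.centralizer ({a} : Set G)).map (MulAut.conj y).toMonoidHom = ⊥ := by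
  rw [eq_bot_iff]
  rintro _ ⟨⟨hwW, hwa⟩, ⟨u, ⟨huW, hua⟩, rfl⟩⟩
  rw [MulEquiv.coe_toMonoidHom, MulAut.conj_apply] at hwW hwa ⊢
  have hua' : a * u * a⁻¹ = u := by
    rw [← Subgroup.mem_centralizer_singleton_iff.1 hua, mul_inv_cancel_right]
  have hwa' : a * (y * u * y⁻¹) * a⁻¹ = y * u * y⁻¹ := by
    rw [← Subgroup.mem_centralizer_singleton_iff.1 hwa, mul_inv_cancel_right]
  have e : a * (y * u * y⁻¹) * a⁻¹ = (a * y * a⁻¹) * (a * u * a⁻¹) * (a * y * a⁻¹)⁻¹ := by group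
  rw [hwa', hua', F.hay, inv_inv] at e
  have h2 : y ^ (2 ^ 1) * u = u * y ^ (2 ^ 1) := by
    rw [pow_one, pow_two]
    calc y * y * u = y * (y * u * y⁻¹) * y := by group
      _ = u * (y * y) := by rw [e]; group
  have := F.fpf huW (eq_one_of_odd_of_pow F.hyo h2)
  rw [this, mul_one, mul_inv_cancel]
  exact one_mem _

theorem C_sup [Finite G] : (Cfsg.wOf K ⊓ Subgroup.centralizer ({a} : Set G)) ⊔
    (Cfsg.wOf K ⊓ Subgroup.centralizer ({a} : Set G)).map (MulAut.conj y).toMonoidHom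
      = Cfsg.wOf K := by
  haveI : Fact (Nat.Prime 2) := ⟨Nat.prime_two⟩
  set W := Cfsg.wOf K with hW
  set C := W ⊓ Subgroup.centralizer ({a} : Set G) with hC
  have hCy : C.map (MulAut.conj y).toMonoidHom ≤ W := by
    rintro _ ⟨u, hu, rfl⟩
    exact F.conjW (Subgroup.le_normalizer F.hy) hu.1
  refine Subgroup.eq_of_le_of_card_ge (sup_le inf_le_left hCy) ?_
  have h := card_sup_inf F.W_ea (inf_le_left : C ≤ W) hCy
  rw [F.C_inf, Subgroup.card_bot, mul_one,
    Subgroup.card_map_of_injective (MulAut.conj y).injective] at h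
  rw [h]
  have hWc := fun (u v : G) (hu : u ∈ W) (hv : v ∈ W) => F.commV (F.W_le hu) (F.W_le hv)
  let φ : W →* G :=
    { toFun := fun w => (w : G) * (a * w * a⁻¹)
      map_one' := by simp
      map_mul' := fun u v => by
        simp only [Subgroup.coe_mul]
        calc (u : G) * v * (a * (u * v) * a⁻¹)
            = u * (v * (a * u * a⁻¹)) * (a * v * a⁻¹) := by group
          _ = _ := by rw [hWc _ _ v.2 (F.conjW F.haN u.2)]; group }
  have hker : φ.ker = C.subgroupOf W := by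
    ext w
    rw [MonoidHom.mem_ker, Subgroup.mem_subgroupOf]
    have hw2 : (w : G)⁻¹ = w :=
      inv_eq_of_mul_eq_one_right (by rw [← pow_two]; exact F.W_ea.2 w w.2)
    constructor
    · intro h1
      refine ⟨w.2, Subgroup.mem_centralizer_singleton_iff.2 ?_⟩
      have h2 : a * (w : G) * a⁻¹ = w := by
        rw [eq_inv_of_mul_eq_one_right h1, hw2]
      exact (mul_inv_eq_iff_eq_mul.1 h2).symm
    · intro hwC
      show (w : G) * (a * w * a⁻¹) = 1
      rw [← Subgroup.mem_centralizer_singleton_iff.1 hwC.2, mul_inv_cancel_right, ← pow_two,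
        F.W_ea.2 w w.2]
  have hrange : φ.range ≤ C := by
    rintro _ ⟨w, rfl⟩
    show (w : G) * (a * w * a⁻¹) ∈ C
    refine ⟨mul_mem w.2 (F.conjW F.haN w.2), Subgroup.mem_centralizer_singleton_iff.2 ?_⟩
    have h2 : a * ((w : G) * (a * w * a⁻¹)) * a⁻¹ = (w : G) * (a * w * a⁻¹) := by
      calc a * ((w : G) * (a * w * a⁻¹)) * a⁻¹
          = (a * w * a⁻¹) * ((a * a) * w * (a * a)⁻¹) := by group
        _ = (a * w * a⁻¹) * w := by rw [← pow_two, F.hA.2.1.2 a F.ha]; group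
        _ = _ := hWc _ _ (F.conjW F.haN w.2) w.2
    exact (mul_inv_eq_iff_eq_mul.1 h2).symm
  have h1 := φ.ker.card_mul_index
  rw [Subgroup.index_ker, hker,
    Nat.card_congr (Subgroup.subgroupOfEquivOfLe (inf_le_left : C ≤ W)).toEquiv] at h1
  rw [← h1]
  exact Nat.mul_le_mul_left _ (Subgroup.card_le_of_le hrange)

theorem conj_y_comm {e w : G} (he : e ∈ F.pre.modCent) (hw : w ∈ Cfsg.wOf K) :
    e * (y * w * y⁻¹) * e⁻¹ = y * (e * w * e⁻¹) * y⁻¹ := by
  obtain ⟨heN, he'⟩ := F.pre.mem_modCent.1 he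
  have h1 := he' y F.hy
  set q := ⁅y, e⁆ with hq
  have hey : e * y * e⁻¹ = q⁻¹ * y := by rw [hq, commutatorElement_def]; group
  calc e * (y * w * y⁻¹) * e⁻¹ = (e * y * e⁻¹) * (e * w * e⁻¹) * (e * y * e⁻¹)⁻¹ := by group
    _ = q⁻¹ * (y * (e * w * e⁻¹) * y⁻¹) * q⁻¹⁻¹ := by rw [hey]; group
    _ = _ := F.fixW (inv_mem h1) (F.conjW (Subgroup.le_normalizer F.hy) (F.conjW heN hw))

theorem centralizes_W [Finite G] {e : G} (he : e ∈ F.pre.modCent)
    (h : ∀ c ∈ Cfsg.wOf K ⊓ Subgroup.centralizer ({a} : Set G), e * c * e⁻¹ = c) :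
    e ∈ Subgroup.centralizer (Cfsg.wOf K : Set G) := by
  have hle : Cfsg.wOf K ≤ Subgroup.centralizer ({e} : Set G) := by
    rw [← F.C_sup]
    refine sup_le (fun c hc => ?_) ?_
    · exact Subgroup.mem_centralizer_singleton_iff.2 (mul_inv_eq_iff_eq_mul.1 (h c hc)).symm
    · rintro _ ⟨c, hc, rfl⟩
      have h2 : e * (y * c * y⁻¹) * e⁻¹ = y * c * y⁻¹ := by rw [F.conj_y_comm he hc.1, h c hc]
      exact Subgroup.mem_centralizer_singleton_iff.2 (mul_inv_eq_iff_eq_mul.1 h2).symm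
  exact Subgroup.mem_centralizer_iff.2 fun w hw =>
    Subgroup.mem_centralizer_singleton_iff.1 (hle hw)

theorem K0_le (hW : Cfsg.wOf K ≠ ⊥) [Finite G] :
    A ⊓ Subgroup.centralizer (Cfsg.wOf K : Set G) ≤ F.pre.modCent := by
  rintro e ⟨heA, heW⟩
  rcases F.mem_or (F.A_le_normalizer heA) with h | h
  · exact h
  · exfalso
    apply hW
    rw [← F.C_sup, ← le_bot_iff]
    have hC : Cfsg.wOf K ⊓ Subgroup.centralizer ({a} : Set G) ≤ ⊥ := by
      rintro c ⟨hcW, hca⟩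
      have hfix : ∀ w ∈ Cfsg.wOf K, a * e * w * (a * e)⁻¹ = a * w * a⁻¹ := fun w hw => by
        rw [show a * e * w * (a * e)⁻¹ = a * (e * w * e⁻¹) * a⁻¹ by group,
          ← Subgroup.mem_centralizer_iff.1 heW w hw, mul_inv_cancel_right]
      have hca' : a * c * a⁻¹ = c := by
        rw [← Subgroup.mem_centralizer_singleton_iff.1 hca, mul_inv_cancel_right]
      have h1 := F.conj_y_comm h hcW
      rw [hfix _ (F.conjW (Subgroup.le_normalizer F.hy) hcW), hfix _ hcW, hca'] at h1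
      have h2 : y * c * y⁻¹ ∈ (Cfsg.wOf K ⊓ Subgroup.centralizer ({a} : Set G)) ⊓
          (Cfsg.wOf K ⊓ Subgroup.centralizer ({a} : Set G)).map (MulAut.conj y).toMonoidHom :=
        ⟨⟨F.conjW (Subgroup.le_normalizer F.hy) hcW,
          Subgroup.mem_centralizer_singleton_iff.2 (mul_inv_eq_iff_eq_mul.1 h1).symm⟩,
          c, ⟨hcW, hca⟩, rfl⟩
      rw [F.C_inf, Subgroup.mem_bot, conj_eq_one_iff] at h2
      exact h2 ▸ one_mem _
    refine sup_le hC ?_
    rw [le_bot_iff.1 hC, Subgroup.map_bot]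

/-- A Sylow 2-subgroup of `K J(T)` containing `O₂(K)` and `J(T)`. -/
theorem exists_S [Finite G] : ∃ S : Subgroup G,
    Cfsg.IsSylowTwoIn S (K ⊔ Cfsg.thompsonSubgroupOf 2 T) ∧ Cfsg.pCoreOf 2 K ≤ S ∧
      Cfsg.thompsonSubgroupOf 2 T ≤ S ∧
      Cfsg.thompsonSubgroupOf 2 S = Cfsg.thompsonSubgroupOf 2 T ∧
      Thompson.IsMaxEAIn 2 S A := by
  haveI : Fact (Nat.Prime 2) := ⟨Nat.prime_two⟩
  have hp : IsPGroup 2 ↥(Cfsg.thompsonSubgroupOf 2 T ⊔ Cfsg.pCoreOf 2 K) :=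
    IsPGroup.to_sup_of_normal_right' (F.pre.hT.to_le (Thompson.thompsonSubgroupOf_le 2 T))
      F.pre.isPGroup_core (F.pre.le_normalizer.trans F.pre.normalizes_core)
  obtain ⟨S, hS, hle⟩ := exists_sylowTwoIn
    (H := K ⊔ Cfsg.thompsonSubgroupOf 2 T) (sup_le le_sup_right (F.pre.core_le.trans le_sup_left)) hp
  have hJ := le_sup_left.trans hle
  exact ⟨S, hS, le_sup_right.trans hle, hJ, F.pre.hS S hS hJ,
    isMax_of_thompson_eq F.hA hJ (F.pre.hS S hS hJ)⟩

/-- The facts about a nontrivial `W_K`. -/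
theorem main [Finite G] (hW : Cfsg.wOf K ≠ ⊥) :
    Nat.card ↥(Cfsg.wOf K ⊓ Subgroup.centralizer ({a} : Set G)) = 2 ∧
      Nat.card ↥(Cfsg.wOf K) = 4 ∧ A ⊓ F.pre.modCent ≤ Subgroup.centralizer (Cfsg.wOf K : Set G) ∧
      Nat.card A ≤ 2 * Nat.card ↥(A ⊓ F.pre.modCent) := by
  haveI : Fact (Nat.Prime 2) := ⟨Nat.prime_two⟩
  obtain ⟨S, -, hQS, hJS, -, hmax⟩ := F.exists_S
  set W := Cfsg.wOf K with hWdef
  set C := W ⊓ Subgroup.centralizer ({a} : Set G) with hC
  set M0 := A ⊓ F.pre.modCent with hM0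
  set K0 := A ⊓ Subgroup.centralizer (W : Set G) with hK0
  have hC1 : C ≠ ⊥ := fun h => hW (by rw [hWdef, ← F.C_sup, ← hC, h, Subgroup.map_bot, sup_bot_eq])
  have hAe := F.hA.2.1
  have hWe := F.W_ea
  have hCe := Thompson.isElementaryAbelian_mono (inf_le_left : C ≤ W) hWe
  have hM0e := Thompson.isElementaryAbelian_mono (inf_le_left : M0 ≤ A) hAe
  have hCy : C.map (MulAut.conj y).toMonoidHom ≤ W := by
    rintro _ ⟨u, hu, rfl⟩
    exact F.conjW (Subgroup.le_normalizer F.hy) hu.1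
  have cardW : Nat.card W = Nat.card C * Nat.card C := by
    have h := card_sup_inf hWe (inf_le_left : C ≤ W) hCy
    rw [F.C_inf, Subgroup.card_bot, mul_one,
      Subgroup.card_map_of_injective (MulAut.conj y).injective, F.C_sup] at h
    exact h
  have hA2 : Nat.card A ≤ 2 * Nat.card M0 := by
    rw [two_mul, ← Nat.card_sum]
    refine Nat.card_le_card_of_surjective
      (Sum.elim (fun m : M0 => (⟨m, m.2.1⟩ : A)) fun m : M0 => (⟨a * m, mul_mem F.ha m.2.1⟩ : A)) ?_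
    rintro ⟨e, he⟩
    rcases F.mem_or (F.A_le_normalizer he) with h | h
    · exact ⟨Sum.inl ⟨e, he, h⟩, rfl⟩
    · refine ⟨Sum.inr ⟨a * e, mul_mem F.ha he, h⟩, Subtype.ext ?_⟩
      show a * (a * e) = e
      rw [← mul_assoc, ← pow_two, hAe.2 a F.ha, one_mul]
  have hAC : A ≤ Subgroup.normalizer (C : Set G) := by
    rw [Subgroup.le_normalizer_iff]
    intro e he c hc
    refine ⟨F.conjW (F.A_le_normalizer he) hc.1, Subgroup.mem_centralizer_singleton_iff.2 ?_⟩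
    have hea : e * a = a * e := Thompson.commute_of_isElementaryAbelian hAe he F.ha
    have hca := Subgroup.mem_centralizer_singleton_iff.1 hc.2
    have hea' : e⁻¹ * a = a * e⁻¹ := (show Commute e a from hea).inv_left.eq
    calc e * c * e⁻¹ * a = e * c * (e⁻¹ * a) := by group
      _ = e * (c * a) * e⁻¹ := by rw [hea']; group
      _ = (e * a) * c * e⁻¹ := by rw [hca]; group
      _ = a * (e * c * e⁻¹) := by rw [hea]; group
  set C0 := C ⊓ Subgroup.centralizer (M0 : Set G) with hC0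
  have hC01 : C0 ≠ ⊥ := inf_centralizer_ne_bot (FF.isPGroup_of_ea hM0e)
    (FF.isPGroup_of_ea hCe) (inf_le_left.trans hAC) hC1
  have hAW : A ⊓ W ≤ C0 := by
    rintro x ⟨hxA, hxW⟩
    refine ⟨⟨hxW, Subgroup.mem_centralizer_singleton_iff.2
      (Thompson.commute_of_isElementaryAbelian hAe hxA F.ha)⟩, Subgroup.mem_centralizer_iff.2
      fun m hm => Thompson.commute_of_isElementaryAbelian hAe hm.1 hxA⟩
  have hWS : W ≤ S := F.W_le_core.trans hQS
  -- first competitor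
  have hC0le : Nat.card C0 ≤ 2 := by
    set D := C0 ⊔ C0.map (MulAut.conj y).toMonoidHom with hD
    have hC0W : C0 ≤ W := inf_le_left.trans inf_le_left
    have hDy : C0.map (MulAut.conj y).toMonoidHom ≤ W := (Subgroup.map_mono inf_le_left).trans hCy
    have hDW : D ≤ W := sup_le hC0W hDy
    have hDc : M0 ≤ Subgroup.centralizer (D : Set G) := by
      rw [Subgroup.le_centralizer_iff, hD]
      refine sup_le inf_le_right ?_
      rintro _ ⟨c, hc, rfl⟩
      refine Subgroup.mem_centralizer_iff.2 fun m hm => ?_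
      rw [MulEquiv.coe_toMonoidHom, MulAut.conj_apply]
      have h1 := F.conj_y_comm (hm.2 : m ∈ F.pre.modCent) (hC0W hc)
      rw [Subgroup.mem_centralizer_iff.1 hc.2 m hm, mul_inv_cancel_right] at h1
      exact mul_inv_eq_iff_eq_mul.1 h1
    have hBe := sup_ea hM0e (Thompson.isElementaryAbelian_mono hDW hWe) hDc
    have h1 := hmax.2.2 (M0 ⊔ D) (sup_le (inf_le_left.trans hmax.1) (hDW.trans hWS)) hBe
    have h2 := card_sup_inf hBe (le_sup_left : M0 ≤ M0 ⊔ D) le_sup_right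
    have h3 := card_sup_inf hWe hC0W hDy
    have h4 : Nat.card ↥(C0 ⊓ C0.map (MulAut.conj y).toMonoidHom) = 1 := by
      rw [Subgroup.card_eq_one, ← le_bot_iff, ← F.C_inf]
      exact inf_le_inf inf_le_left (Subgroup.map_mono inf_le_left)
    rw [h4, mul_one, Subgroup.card_map_of_injective (MulAut.conj y).injective, ← hD] at h3
    have h5 : Nat.card ↥(M0 ⊓ D) ≤ Nat.card C0 :=
      Subgroup.card_le_of_le ((inf_le_inf inf_le_left hDW).trans hAW)
    have h6 : Nat.card M0 * (Nat.card C0 * Nat.card C0) ≤ 2 * Nat.card M0 * Nat.card C0 := by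
      rw [← h3, ← h2]
      exact Nat.mul_le_mul (h1.trans hA2) h5
    suffices key : (Nat.card M0 * Nat.card C0) * Nat.card C0 ≤ (Nat.card M0 * Nat.card C0) * 2 from
      Nat.le_of_mul_le_mul_left key (Nat.mul_pos Nat.card_pos Nat.card_pos)
    calc Nat.card M0 * Nat.card C0 * Nat.card C0 = Nat.card M0 * (Nat.card C0 * Nat.card C0) := by ring
      _ ≤ 2 * Nat.card M0 * Nat.card C0 := h6
      _ = _ := by ring
  have hC02 : Nat.card C0 = 2 := by
    have := Subgroup.one_lt_card_iff_ne_bot (H := C0) |>.2 hC01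
    omega
  -- the dual bound
  have hb := two_mul_card_le hM0e hCe (inf_le_left.trans hAC) hC02
  have hKK : M0 ⊓ Subgroup.centralizer (C : Set G) ≤ K0 := by
    rintro e ⟨he, hec⟩
    refine ⟨he.1, F.centralizes_W he.2 fun c hc => ?_⟩
    rw [← Subgroup.mem_centralizer_iff.1 hec c hc, mul_inv_cancel_right]
  -- second competitor
  have hB1e := sup_ea (Thompson.isElementaryAbelian_mono (inf_le_left : K0 ≤ A) hAe) hWe inf_le_right
  have h1 := hmax.2.2 (K0 ⊔ W) (sup_le (inf_le_left.trans hmax.1) hWS) hB1e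
  have h2 := card_sup_inf hB1e (le_sup_left : K0 ≤ K0 ⊔ W) le_sup_right
  have h3 : Nat.card ↥(K0 ⊓ W) ≤ 2 :=
    hC02 ▸ Subgroup.card_le_of_le ((inf_le_inf inf_le_left le_rfl).trans hAW)
  have h4 : Nat.card K0 * (Nat.card C * Nat.card C) ≤ 4 * Nat.card M0 := by
    rw [← cardW, ← h2]
    calc Nat.card ↥(K0 ⊔ W) * Nat.card ↥(K0 ⊓ W) ≤ (2 * Nat.card M0) * 2 :=
          Nat.mul_le_mul (h1.trans hA2) h3
      _ = _ := by ring
  have hb' : 2 * Nat.card M0 ≤ Nat.card K0 * Nat.card C :=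
    hb.trans (Nat.mul_le_mul_right _ (Subgroup.card_le_of_le hKK))
  have hC2 : Nat.card C ≤ 2 := by
    suffices key : (Nat.card K0 * Nat.card C) * Nat.card C ≤ (Nat.card K0 * Nat.card C) * 2 from
      Nat.le_of_mul_le_mul_left key (Nat.mul_pos Nat.card_pos Nat.card_pos)
    calc Nat.card K0 * Nat.card C * Nat.card C ≤ 4 * Nat.card M0 := by rw [mul_assoc]; exact h4
      _ = 2 * (2 * Nat.card M0) := by ring
      _ ≤ 2 * (Nat.card K0 * Nat.card C) := Nat.mul_le_mul_left 2 hb'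
      _ = _ := by ring
  have hC2' : Nat.card C = 2 := by
    have := Subgroup.one_lt_card_iff_ne_bot (H := C) |>.2 hC1
    omega
  refine ⟨hC2', by rw [cardW, hC2'], ?_, hA2⟩
  intro e he
  refine F.centralizes_W he.2 fun c hc => ?_
  have hC0C : C0 = C := Subgroup.eq_of_le_of_card_ge inf_le_left (by rw [hC02, hC2'])
  have hc' : c ∈ C0 := hC0C.ge hc
  rw [Subgroup.mem_centralizer_iff.1 hc'.2 e he, mul_inv_cancel_right]

end Frame

/-- `|W_K| = 4` as soon as `W_K ≠ 1`. -/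
theorem Pre.card_wOf [Finite G] (P : Pre T K) (hW : Cfsg.wOf K ≠ ⊥) :
    Nat.card ↥(Cfsg.wOf K) = 4 ∧ ∀ w ∈ Cfsg.wOf K, w * w = 1 := by
  obtain ⟨A, a, y, F⟩ := exists_frame P
  exact ⟨(F.main hW).2.1, fun w hw => by rw [← pow_two]; exact F.W_ea.2 w hw⟩

theorem wOf_ne_bot {T K : Subgroup G} (hK : Cfsg.IsJComponent T K) : Cfsg.wOf K ≠ ⊥ := fun h => by
  have := hK.2.2.2.2.1
  rw [h, Subgroup.card_bot] at this
  omega

/-- **The centre of `J(T)` and a component.** -/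
theorem center_decomp [Finite G] (hT : IsPGroup 2 T) (hK : Cfsg.IsJComponent T K) :
    Nat.card ↥(Cfsg.omegaCenterOf (Cfsg.thompsonSubgroupOf 2 T) ⊓ Cfsg.wOf K) = 2 ∧
      (Cfsg.omegaCenterOf (Cfsg.thompsonSubgroupOf 2 T) ⊓
        ((K ⊔ Cfsg.thompsonSubgroupOf 2 T) ⊓
          Subgroup.centralizer ((K ⊔ Cfsg.thompsonSubgroupOf 2 T : Subgroup G) : Set G))) ⊔
        (Cfsg.omegaCenterOf (Cfsg.thompsonSubgroupOf 2 T) ⊓ Cfsg.wOf K) =
      Cfsg.omegaCenterOf (Cfsg.thompsonSubgroupOf 2 T) := by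
  haveI : Fact (Nat.Prime 2) := ⟨Nat.prime_two⟩
  obtain ⟨A, a, y, F⟩ := exists_frame (pre_of hT hK)
  have hW := wOf_ne_bot hK
  obtain ⟨hC2, -, hMW, hA2⟩ := F.main hW
  obtain ⟨S, hSin, hQS, hJS, hJeq, hmax⟩ := F.exists_S
  set J := Cfsg.thompsonSubgroupOf 2 T with hJ
  set Z := Cfsg.omegaCenterOf J with hZ
  set W := Cfsg.wOf K with hWdef
  set C := W ⊓ Subgroup.centralizer ({a} : Set G) with hC
  set H := K ⊔ J with hH
  have hJN : J ≤ Subgroup.normalizer (K : Set G) := F.pre.le_normalizer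
  have hHN : H ≤ Subgroup.normalizer (K : Set G) := sup_le Subgroup.le_normalizer hJN
  have hSW : S ≤ Subgroup.normalizer (W : Set G) := (hSin.1.trans hHN).trans (normalizer_le_wOf K)
  -- `C_W(a)` is centralized by `S`
  have hCS : C ≤ Subgroup.centralizer (S : Set G) := by
    have h1 : W ⊓ Subgroup.centralizer (S : Set G) ≠ ⊥ :=
      inf_centralizer_ne_bot hSin.2.1 (FF.isPGroup_of_ea F.W_ea) hSW hW
    have h2 : W ⊓ Subgroup.centralizer (S : Set G) ≤ C := inf_le_inf_left _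
      (Subgroup.centralizer_le (Set.singleton_subset_iff.2 (hmax.1 F.ha)))
    have h3 := Subgroup.one_lt_card_iff_ne_bot _ |>.2 h1
    rw [← Subgroup.eq_of_le_of_card_ge h2 (by rw [hC2]; omega)]
    exact inf_le_right
  have hWS : W ≤ S := F.W_le_core.trans hQS
  have hCZ : C ≤ Z := by
    intro c hc
    have hc2 : c ^ 2 = 1 := F.W_ea.2 c hc.1
    have hcJ : c ∈ Subgroup.centralizer (J : Set G) := Subgroup.centralizer_le hJS (hCS hc)
    have hcA : c ∈ A := OmegaOne.mem_of_centralizes hmax (hWS hc.1) (by rwa [hJeq]) hc2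
    exact OmegaOne.mem ⟨Thompson.le_thompsonSubgroupOf F.hA hcA, hcJ⟩ hc2
  have hZJ : Z ≤ J := omegaCenterOf_le J
  have hZc : Z ≤ Subgroup.centralizer (J : Set G) := OmegaOne.le_centralizer_center 2 J
  have hZW : Z ⊓ W = C := le_antisymm
    (fun z hz => ⟨hz.2, Subgroup.mem_centralizer_singleton_iff.2
      (Subgroup.mem_centralizer_iff.1 (hZc hz.1) a (F.haJ)).symm⟩)
    (le_inf hCZ inf_le_left)
  refine ⟨by rw [hZW, hC2], le_antisymm (sup_le inf_le_left inf_le_left) ?_⟩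
  -- elements of `H` centralizing `W` lie in `S`
  have hR : ∀ h ∈ H, h ∈ Subgroup.centralizer (W : Set G) → h ∈ S := by
    intro h hh hc
    have hmem : h ∈ ((K : Set G) * (J : Set G)) := by
      rw [← Subgroup.coe_mul_of_right_le_normalizer_left K J hJN]
      exact hh
    obtain ⟨g, hg, j, hj, rfl⟩ := Set.mem_mul.1 hmem
    obtain ⟨i, hi⟩ := IsPGroup.iff_orderOf.1 hSin.2.1 ⟨j, hJS hj⟩
    rw [Subgroup.orderOf_mk] at hi
    have hcase : ∀ y' : G, y' ∈ K → Odd (orderOf y') → (∀ w ∈ W, y' * w = w * y' → w = 1) →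
        ∀ q ∈ Cfsg.pCoreOf 2 K, g = y' * q → False := by
      intro y' hy'K hy'o hfp q hq hgq
      have hact : ∀ w ∈ W, y' * w * y'⁻¹ = j⁻¹ * w * j := by
        intro w hw
        have hjw : j⁻¹ * w * j ∈ W := by simpa using F.conjW (inv_mem (hJN hj)) hw
        have h1 := Subgroup.mem_centralizer_iff.1 hc _ hjw
        calc y' * w * y'⁻¹ = y' * (q * w * q⁻¹) * y'⁻¹ := by rw [F.fixW hq hw]
          _ = g * j * (j⁻¹ * w * j) * (g * j)⁻¹ := by rw [hgq]; group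
          _ = _ := by rw [← h1, mul_inv_cancel_right]
      have hpow : ∀ n : ℕ, ∀ w ∈ W, y' ^ n * w * (y' ^ n)⁻¹ = (j ^ n)⁻¹ * w * j ^ n := by
        intro n
        induction n with
        | zero => intro w _; simp
        | succ n ih =>
          intro w hw
          have hjw : (j ^ n)⁻¹ * w * j ^ n ∈ W := by
            simpa using F.conjW (inv_mem (pow_mem (hJN hj) n)) hw
          calc y' ^ (n + 1) * w * (y' ^ (n + 1))⁻¹ = y' * (y' ^ n * w * (y' ^ n)⁻¹) * y'⁻¹ := by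
                rw [pow_succ']; group
            _ = j⁻¹ * ((j ^ n)⁻¹ * w * j ^ n) * j := by rw [ih w hw, hact _ hjw]
            _ = _ := by rw [pow_succ]; group
      apply hW
      rw [hWdef, eq_bot_iff]
      intro w hw
      have h1 := hpow (2 ^ i) w hw
      rw [← hi, pow_orderOf_eq_one, inv_one, one_mul, mul_one, hi] at h1
      rw [Subgroup.mem_bot]
      exact hfp w hw (eq_one_of_odd_of_pow hy'o (mul_inv_eq_iff_eq_mul.1 h1))
    obtain ⟨q, hq, hgq | hgq | hgq⟩ := F.dec hg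
    · rw [hgq]; exact mul_mem (hQS hq) (hJS hj)
    · exact (hcase y F.hy F.hyo (fun w hw => F.fpf hw) q hq hgq).elim
    · refine (hcase y⁻¹ (inv_mem F.hy) (by rw [orderOf_inv]; exact F.hyo) (fun w hw h => ?_) q hq
        hgq).elim
      refine F.fpf hw ?_
      have h' : Commute y⁻¹ w := h
      rw [Commute.inv_left_iff] at h'
      exact h'
  let V1 : G → Prop := fun v => ∀ E : Subgroup G, Thompson.IsMaxEAIn 2 S E →
    E ≤ Subgroup.centralizer (W : Set G) → v ∈ E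
  have hV1Z : ∀ z ∈ Z, V1 z := fun z hz E hE _ =>
    OmegaOne.mem_of_centralizes hE (hJS (hZJ hz)) (by rw [hJeq]; exact hZc hz)
      ((omegaCenterOf_ea J).2 z hz)
  have hV1y : ∀ g, g ∈ H → g ∈ Subgroup.normalizer (W : Set G) → ∀ v, V1 v → V1 (g * v * g⁻¹) := by
    intro g hgH hgW v hv E hE hEW
    set E' := E.map (MulAut.conj g⁻¹).toMonoidHom with hE'
    have hE'W : E' ≤ Subgroup.centralizer (W : Set G) := by
      rintro _ ⟨e, he, rfl⟩
      refine Subgroup.mem_centralizer_iff.2 fun w hw => ?_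
      have h1 := Subgroup.mem_centralizer_iff.1 (hEW he) _ ((Subgroup.mem_normalizer_iff.1 hgW w).1 hw)
      rw [MulEquiv.coe_toMonoidHom, MulAut.conj_apply, inv_inv]
      calc w * (g⁻¹ * e * g) = g⁻¹ * (g * w * g⁻¹ * e) * g := by group
        _ = g⁻¹ * e * g * w := by rw [h1]; group
    have hE'S : E' ≤ S := by
      intro x hx
      obtain ⟨e, he, rfl⟩ := id hx
      refine hR _ ?_ (hE'W hx)
      rw [MulEquiv.coe_toMonoidHom, MulAut.conj_apply, inv_inv]
      exact mul_mem (mul_mem (inv_mem hgH) (hSin.1 (hE.1 he))) hgH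
    have hmax' : Thompson.IsMaxEAIn 2 S E' := ⟨hE'S, Thompson.isElementaryAbelian_map _ hE.2.1,
      fun B hB hBe => (hE.2.2 B hB hBe).trans
        (Subgroup.card_map_of_injective (MulAut.conj g⁻¹).injective).ge⟩
    obtain ⟨e, he, hev⟩ := hv E' hmax' hE'W
    rw [MulEquiv.coe_toMonoidHom, MulAut.conj_apply, inv_inv] at hev
    rw [← hev, show g * (g⁻¹ * e * g) * g⁻¹ = e by group]
    exact he
  have haW : ∀ v, V1 v → a * v * a⁻¹ * v⁻¹ ∈ W := by
    intro v hv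
    set K0 := A ⊓ Subgroup.centralizer (W : Set G) with hK0
    have hB1e := sup_ea (Thompson.isElementaryAbelian_mono (inf_le_left : K0 ≤ A) F.hA.2.1)
      F.W_ea inf_le_right
    have hcard : Nat.card A ≤ Nat.card ↥(K0 ⊔ W) := by
      have h2 := card_sup_inf hB1e (le_sup_left : K0 ≤ K0 ⊔ W) le_sup_right
      have h3 : Nat.card ↥(K0 ⊓ W) ≤ 2 := hC2 ▸ Subgroup.card_le_of_le fun x hx => ⟨hx.2,
        Subgroup.mem_centralizer_singleton_iff.2
          (Thompson.commute_of_isElementaryAbelian F.hA.2.1 hx.1.1 F.ha)⟩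
      have h4 : Nat.card ↥(A ⊓ F.pre.modCent) ≤ Nat.card K0 :=
        Subgroup.card_le_of_le (le_inf inf_le_left hMW)
      rw [(F.main hW).2.1] at h2
      suffices key : Nat.card A * 2 ≤ Nat.card ↥(K0 ⊔ W) * 2 from Nat.le_of_mul_le_mul_right key two_pos
      calc Nat.card A * 2 ≤ (2 * Nat.card K0) * 2 :=
            Nat.mul_le_mul_right 2 (hA2.trans (Nat.mul_le_mul_left 2 h4))
        _ = Nat.card ↥(K0 ⊔ W) * Nat.card ↥(K0 ⊓ W) := by rw [h2]; ring
        _ ≤ _ := Nat.mul_le_mul_left _ h3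
    have hmaxB : Thompson.IsMaxEAIn 2 S (K0 ⊔ W) := ⟨sup_le (inf_le_left.trans hmax.1) hWS, hB1e,
      fun B hB hBe => (hmax.2.2 B hB hBe).trans hcard⟩
    have hvB := hv _ hmaxB (sup_le inf_le_right fun w hw => Subgroup.mem_centralizer_iff.2
      fun u hu => Thompson.commute_of_isElementaryAbelian F.W_ea hu hw)
    have hset : v ∈ ((K0 : Set G) * (W : Set G)) := by
      rw [← Subgroup.coe_mul_of_left_le_normalizer_right K0 W
        ((inf_le_right).trans (Subgroup.centralizer_le_normalizer _))]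
      exact hvB
    obtain ⟨e, he, w, hw, rfl⟩ := Set.mem_mul.1 hset
    have hea : a * e = e * a := Thompson.commute_of_isElementaryAbelian F.hA.2.1 F.ha he.1
    have hmem : a * w * a⁻¹ * w⁻¹ ∈ W := mul_mem (F.conjW F.haN hw) (inv_mem hw)
    have h1 : e * (a * w * a⁻¹ * w⁻¹) * e⁻¹ = a * w * a⁻¹ * w⁻¹ := by
      rw [← Subgroup.mem_centralizer_iff.1 he.2 _ hmem, mul_inv_cancel_right]
    rw [show a * (e * w) * a⁻¹ * (e * w)⁻¹ = (a * e) * w * a⁻¹ * w⁻¹ * e⁻¹ by group, hea,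
      show e * a * w * a⁻¹ * w⁻¹ * e⁻¹ = e * (a * w * a⁻¹ * w⁻¹) * e⁻¹ by group, h1]
    exact hmem
  have hyH : y ∈ H := Subgroup.mem_sup_left F.hy
  have hyW : y ∈ Subgroup.normalizer (W : Set G) := normalizer_le_wOf K (Subgroup.le_normalizer F.hy)
  have hy2 : ∀ v, V1 v → y * y * v * (y * y)⁻¹ * v⁻¹ ∈ W := by
    intro v hv
    have heq : y * y = (y * a * y⁻¹) * a := by
      rw [show (y * a * y⁻¹) * a = y * (a * y⁻¹ * a⁻¹) * (a * a) by group, F.inv_conj, ← pow_two a,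
        F.hA.2.1.2 a F.ha, mul_one]
    have h1 := haW v hv
    have h2 := haW _ (hV1y y⁻¹ (inv_mem hyH) (inv_mem hyW) v hv)
    have h3 : (y * a * y⁻¹) * v * (y * a * y⁻¹)⁻¹ * v⁻¹ ∈ W := by
      have := F.conjW (Subgroup.le_normalizer F.hy) h2
      convert this using 1
      group
    have hyay : y * a * y⁻¹ ∈ Subgroup.normalizer (K : Set G) :=
      mul_mem (mul_mem (Subgroup.le_normalizer F.hy) F.haN)
        (inv_mem (s := Subgroup.normalizer (K : Set G)) (Subgroup.le_normalizer F.hy))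
    have h4 := mul_mem (F.conjW hyay h1) h3
    convert h4 using 1
    rw [heq]
    group
  have hy1 : ∀ v, V1 v → y * v * y⁻¹ * v⁻¹ ∈ W := by
    intro v hv
    have key : ∀ n : ℕ, (y * y) ^ n * v * ((y * y) ^ n)⁻¹ * v⁻¹ ∈ W := by
      intro n
      induction n with
      | zero => simp
      | succ n ih =>
        have h1 := mul_mem (F.conjW (g := y * y)
          (mul_mem (Subgroup.le_normalizer F.hy) (Subgroup.le_normalizer F.hy)) ih) (hy2 v hv)
        convert h1 using 1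
        rw [pow_succ']
        generalize y * y = b
        generalize b ^ n = c
        group
    obtain ⟨m, hm⟩ := exists_pow_eq_self_of_coprime (n := 2) (x := y)
      (Nat.coprime_two_left.2 F.hyo)
    have := key m
    rw [← pow_two, hm] at this
    exact this
  -- `H` is generated by `J` and `y`
  have hgenH : H ≤ J ⊔ Subgroup.zpowers y := by
    have hQJ : ∀ q ∈ Cfsg.pCoreOf 2 K, ∀ x ∈ J, q * x * q⁻¹ ∈ J := by
      intro q hq x hx
      have h := Thompson.normalizer_le_normalizer_thompsonSubgroupOf 2 S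
        (Subgroup.le_normalizer (hQS hq))
      rw [hJeq] at h
      exact (Subgroup.mem_normalizer_iff.1 h x).1 hx
    refine sup_le ?_ le_sup_left
    rw [← F.pre.hKJ, Subgroup.commutator_le]
    intro g hg x hx
    have hU : g * x * g⁻¹ ∈ J ⊔ Subgroup.zpowers y := by
      obtain ⟨q, hq, rfl | rfl | rfl⟩ := F.dec hg
      · exact Subgroup.mem_sup_left (hQJ _ hq x hx)
      · rw [show y * q * x * (y * q)⁻¹ = y * (q * x * q⁻¹) * y⁻¹ by group]
        exact mul_mem (mul_mem (Subgroup.mem_sup_right (Subgroup.mem_zpowers y))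
          (Subgroup.mem_sup_left (hQJ _ hq x hx)))
          (inv_mem (Subgroup.mem_sup_right (Subgroup.mem_zpowers y)))
      · rw [show y⁻¹ * q * x * (y⁻¹ * q)⁻¹ = y⁻¹ * (q * x * q⁻¹) * y by group]
        exact mul_mem (mul_mem (inv_mem (Subgroup.mem_sup_right (Subgroup.mem_zpowers y)))
          (Subgroup.mem_sup_left (hQJ _ hq x hx)))
          (Subgroup.mem_sup_right (Subgroup.mem_zpowers y))
    rw [commutatorElement_def]
    exact mul_mem hU (inv_mem (Subgroup.mem_sup_left hx))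
  intro z hz
  have hv := hV1Z z hz
  set δ := y * z * y⁻¹ * z⁻¹ with hδdef
  have hδ : δ ∈ W := hy1 z hv
  -- correct `z` by an element of `W`
  let f : W → W := fun w => ⟨y * (w : G) * y⁻¹ * (w : G)⁻¹,
    mul_mem (F.conjW (Subgroup.le_normalizer F.hy) w.2) (inv_mem w.2)⟩
  have hfinj : Function.Injective f := by
    intro u v huv
    have h : y * (u : G) * y⁻¹ * (u : G)⁻¹ = y * v * y⁻¹ * (v : G)⁻¹ := congrArg Subtype.val huv
    have h1 : y * ((v : G)⁻¹ * u) * y⁻¹ = (v : G)⁻¹ * u := by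
      calc y * ((v : G)⁻¹ * u) * y⁻¹
          = (y * v * y⁻¹)⁻¹ * (y * u * y⁻¹ * (u : G)⁻¹) * u := by group
        _ = _ := by rw [h]; group
    exact Subtype.ext (inv_mul_eq_one.1 (F.fpf (mul_mem (inv_mem v.2) u.2)
      (mul_inv_eq_iff_eq_mul.1 h1))).symm
  obtain ⟨w, hw⟩ := Finite.surjective_of_injective hfinj ⟨δ, hδ⟩
  have hwδ : y * (w : G) * y⁻¹ * (w : G)⁻¹ = δ := congrArg Subtype.val hw
  set c := (w : G)⁻¹ * z with hc
  have hWc : ∀ u ∈ W, ∀ u' ∈ W, u * u' = u' * u := fun u hu u' hu' =>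
    Thompson.commute_of_isElementaryAbelian F.W_ea hu hu'
  have hyc : y * c * y⁻¹ = c := by
    calc y * c * y⁻¹ = (y * w * y⁻¹)⁻¹ * (y * z * y⁻¹ * z⁻¹) * z := by rw [hc]; group
      _ = (y * w * y⁻¹)⁻¹ * (y * (w : G) * y⁻¹ * (w : G)⁻¹) * z := by rw [hwδ, hδdef]
      _ = _ := by rw [hc]; group
  have haz : a * z * a⁻¹ = z := by
    rw [Subgroup.mem_centralizer_iff.1 (hZc hz) a F.haJ, mul_inv_cancel_right]
  have hd : a * c * a⁻¹ * c⁻¹ = 1 := by
    have he : a * c * a⁻¹ * c⁻¹ = a * (w : G)⁻¹ * a⁻¹ * w := by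
      calc a * c * a⁻¹ * c⁻¹ = a * (w : G)⁻¹ * a⁻¹ * (a * z * a⁻¹) * z⁻¹ * w := by rw [hc]; group
        _ = _ := by rw [haz]; group
    have hmem : a * c * a⁻¹ * c⁻¹ ∈ W := he ▸ mul_mem (F.conjW F.haN (inv_mem w.2)) w.2
    refine F.fpf hmem ?_
    have hca : y * (a * c * a⁻¹) * y⁻¹ = a * c * a⁻¹ := by
      calc y * (a * c * a⁻¹) * y⁻¹ = (a * y⁻¹ * a⁻¹) * (a * c * a⁻¹) * y⁻¹ := by rw [F.inv_conj]
        _ = a * (y⁻¹ * c) * (a⁻¹ * y⁻¹ * a) * a⁻¹ := by group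
        _ = a * (y⁻¹ * c * y) * a⁻¹ := by
            have : a⁻¹ * y⁻¹ * a = y := by
              have h := F.inv_conj
              rw [F.a_inv] at h ⊢
              exact h
            rw [this]; group
        _ = _ := by
            have : y⁻¹ * c * y = c := by
              conv_lhs => rw [← hyc]
              group
            rw [this]
    refine mul_inv_eq_iff_eq_mul.1 ?_
    calc y * (a * c * a⁻¹ * c⁻¹) * y⁻¹
        = (y * (a * c * a⁻¹) * y⁻¹) * (y * c * y⁻¹)⁻¹ := by group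
      _ = _ := by rw [hca, hyc]
  have hwC : (w : G) ∈ C := by
    refine ⟨w.2, Subgroup.mem_centralizer_singleton_iff.2 (mul_inv_eq_iff_eq_mul.1 ?_).symm⟩
    have hzwc : (w : G) = z * c⁻¹ := by rw [hc]; group
    calc a * (w : G) * a⁻¹ = (a * z * a⁻¹) * (a * c * a⁻¹)⁻¹ := by rw [hzwc]; group
      _ = z * c⁻¹ := by rw [haz, mul_inv_eq_one.1 hd]
      _ = _ := hzwc.symm
  have hwZ : (w : G) ∈ Z := hCZ hwC
  have hcZ : c ∈ Z := mul_mem (inv_mem hwZ) hz
  have hcH : c ∈ Subgroup.centralizer (H : Set G) := by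
    refine Subgroup.le_centralizer_iff.1 ?_ (Subgroup.mem_zpowers c)
    refine hgenH.trans (sup_le (fun x hx => ?_) (Subgroup.zpowers_le.2 ?_)) <;>
      rw [Subgroup.mem_centralizer_iff] <;> rintro _ ⟨k, rfl⟩
    · exact ((show Commute x c from Subgroup.mem_centralizer_iff.1 (hZc hcZ) x hx).zpow_right k).symm.eq
    · exact ((show Commute y c from mul_inv_eq_iff_eq_mul.1 hyc).zpow_right k).symm.eq
  have : z = c * w := by
    rw [Thompson.commute_of_isElementaryAbelian (omegaCenterOf_ea J) hcZ hwZ, hc]; group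
  rw [this]
  refine mul_mem (Subgroup.mem_sup_left ⟨hcZ, Subgroup.mem_sup_right (hZJ hcZ), hcH⟩)
    (Subgroup.mem_sup_right ⟨hwZ, w.2⟩)

end Cfsg.Agent.JComp
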