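import Cfsg.Agent.Lib.JComp.Lonely

/-!
`Ω₁(Z(S))` against `Ω₁(Z(J(T)))`.
-/

set_option autoImplicit false
set_option linter.style.haveILetI false
set_option linter.unusedSectionVars false
open scoped commutatorElement Pointwise

namespace Cfsg.Agent.JComp

open Cfsg.Agent

universe u

variable {G : Type u} [Group G] [Finite G]

/-- A conjugate of a component cannot centralize the central involutions of a Sylow subgroup. -/
theorem no_conj_component_in_centralizer (Z : ZN G) (S : Sylow 2 G) {T K : Subgroup G}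
    (hT : IsPGroup 2 T) (hK : Cfsg.IsJComponent T K) {h : G}
    (hc : ∀ k ∈ K ⊔ T, h * k * h⁻¹ ∈
      Subgroup.centralizer (Cfsg.omegaCenterOf (S : Subgroup G) : Set G)) : False := by
  haveI : Fact (Nat.Prime 2) := ⟨Nat.prime_two⟩
  obtain ⟨A, a, y, F⟩ := exists_frame (pre_of hT hK)
  set SS := (S : Subgroup G) with hSS
  have haT : a ∈ T := F.hA.1 F.ha
  have haN := Z.hZ S (hc a (Subgroup.mem_sup_right haT))
  have hyN := Z.hZ S (hc y (Subgroup.mem_sup_left F.hy))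
  have ha2 : (h * a * h⁻¹) * (h * a * h⁻¹) = 1 := by
    have : a * a = 1 := by rw [← pow_two]; exact F.hA.2.1.2 a F.ha
    calc (h * a * h⁻¹) * (h * a * h⁻¹) = h * (a * a) * h⁻¹ := by group
      _ = 1 := by rw [this]; group
  have haS : h * a * h⁻¹ ∈ SS := by
    have hz : IsPGroup 2 (Subgroup.zpowers (h * a * h⁻¹)) := by
      by_cases h1 : h * a * h⁻¹ = 1
      · rw [h1, Subgroup.zpowers_one_eq_bot]; exact IsPGroup.of_bot
      refine IsPGroup.of_card (n := 1) ?_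
      rw [Nat.card_zpowers, orderOf_eq_prime (by rw [pow_two]; exact ha2) h1, pow_one]
    obtain ⟨n, hn, hle⟩ := exists_conj_le (sylowTwoIn_of_sylow S rfl Subgroup.le_normalizer)
      (Subgroup.zpowers_le.2 haN) hz
    exact (Subgroup.mem_normalizer_iff.1 hn _).2 (hle ⟨_, Subgroup.mem_zpowers _, rfl⟩)
  set y' := h * y * h⁻¹ with hy'
  have hmem : h * a * h⁻¹ * (y' * (h * a * h⁻¹) * y'⁻¹) ∈ SS :=
    mul_mem haS ((Subgroup.mem_normalizer_iff.1 hyN _).1 haS)
  have hyy : h * a * h⁻¹ * (y' * (h * a * h⁻¹) * y'⁻¹) = h * (y⁻¹ * y⁻¹) * h⁻¹ := by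
    rw [hy', show h * a * h⁻¹ * (h * y * h⁻¹ * (h * a * h⁻¹) * (h * y * h⁻¹)⁻¹) =
      h * ((a * y * a) * y⁻¹) * h⁻¹ by group]
    congr 2
    rw [show a * y * a = a * y * a⁻¹ by rw [F.a_inv], F.hay]
  rw [hyy] at hmem
  have ho : Odd (orderOf (y⁻¹ * y⁻¹)) := by
    obtain ⟨r, hr⟩ : orderOf (y⁻¹ * y⁻¹) ∣ orderOf y := by
      refine orderOf_dvd_of_pow_eq_one ?_
      rw [(Commute.refl y⁻¹).mul_pow, inv_pow, pow_orderOf_eq_one, inv_one, mul_one]
    exact Nat.Odd.of_mul_left (n := r) (hr ▸ F.hyo)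
  have h1 : h * (y⁻¹ * y⁻¹) * h⁻¹ = 1 := by
    refine eq_one_of_odd_two ?_ S.isPGroup' hmem
    rwa [show h * (y⁻¹ * y⁻¹) * h⁻¹ = MulAut.conj h (y⁻¹ * y⁻¹) from rfl,
      ← MulEquiv.coe_toMonoidHom, orderOf_injective _ (MulAut.conj h).injective]
  apply F.sq_notMem
  rw [conj_eq_one_iff, ← mul_inv_rev, inv_eq_one] at h1
  rw [h1]
  exact one_mem _

namespace Duo

variable {T M K K₂ : Subgroup G} {w : G} (E : Setting T M) (D : Duo T M K K₂ w)
include E D

/-- **The three cases for the centre.** -/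
theorem center_cases (S : Sylow 2 G) (hTS : T ≤ (S : Subgroup G)) :
    (Cfsg.omegaCenterOf (S : Subgroup G) = zJ T ∧ Nat.card (zJ T) = 2) ∨
      (Cfsg.omegaCenterOf (S : Subgroup G) = zJ T ∧ Nat.card (zJ T) = 4 ∧ T = (S : Subgroup G)) ∨
      (Cfsg.omegaCenterOf T = zJ T ∧ Nat.card (zJ T) = 4 ∧
        (Subgroup.normalizer (Cfsg.wOf K : Set G) ⊓ Subgroup.centralizer (zJ T : Set G)).relIndex
          (Subgroup.normalizer (zJ T : Set G)) = 2) := by
  haveI : Fact (Nat.Prime 2) := ⟨Nat.prime_two⟩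
  set Z := Cfsg.omegaCenterOf (S : Subgroup G) with hZ
  have hZle : Z ≤ zJ T := by
    intro x hx
    have hc : ∀ s ∈ (S : Subgroup G), s * x = x * s := fun s hs => omega_central hx hs
    have hxT : x ∈ T := (D.core_eq E).2 (Subgroup.mem_centralizer_iff.2 fun v hv =>
      hc v (hTS (D.W_le E hv)))
    exact mem_zJ_of_central hxT (fun t ht => hc t (hTS ht))
      (by rw [← pow_two]; exact (omegaCenterOf_ea _).2 x hx)
  obtain ⟨z, hzS, hz1, hz2, hzc⟩ := exists_central_involution S.isPGroup' fun h => E.ne_bot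
    (le_bot_iff.1 (h ▸ hTS))
  have hzZ : z ∈ Z := OmegaOne.mem ⟨hzS, Subgroup.mem_centralizer_iff.2 hzc⟩
    (by rw [pow_two]; exact hz2)
  obtain ⟨hceq, hc2, -⟩ := E.card_bound D.o1 D.o2 D.ne
  have hzJ := card_zJ E.two D.o1.comp
  by_cases hc : Nat.card (c0 T K) = 1
  · refine Or.inl ⟨Subgroup.eq_of_le_of_card_ge hZle ?_, by omega⟩
    have : 1 < Nat.card Z := Finite.one_lt_card_iff_nontrivial.2
      ((Subgroup.nontrivial_iff_exists_ne_one _).2 ⟨z, hzZ, hz1⟩)
    omega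
  have hcpos : 0 < Nat.card (c0 T K) := Nat.card_pos
  have hz4 : Nat.card (zJ T) = 4 := by omega
  by_cases hST : (S : Subgroup G) ≤ T
  · have hTS' : T = (S : Subgroup G) := le_antisymm hTS hST
    refine Or.inr (Or.inl ⟨?_, hz4, hTS'⟩)
    rw [hZ, ← hTS']
    exact D.omega_eq E
  refine Or.inr (Or.inr ⟨D.omega_eq E, hz4, ?_⟩)
  obtain ⟨g, hgS, hgN, hgT, -⟩ := exists_two_step S.isPGroup' hTS hST
  obtain ⟨c, hcm, hc1⟩ := (Subgroup.nontrivial_iff_exists_ne_one _).1
    (Finite.one_lt_card_iff_nontrivial.1 (show 1 < Nat.card (c0 T K) by omega))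
  obtain ⟨c', hc'm, hc'1⟩ := (Subgroup.nontrivial_iff_exists_ne_one _).1
    (Finite.one_lt_card_iff_nontrivial.1 (show 1 < Nat.card (c0 T K₂) by omega))
  have hcc : c ≠ c' := fun h =>
    D.ne (E.family_eq_of_c0 D.o1.comp D.o1.notLe D.o2.comp hcm (h ▸ hc'm) hc1).symm
  have hlist : ∀ x ∈ zJ T, x = 1 ∨ x = c ∨ x = c' ∨ x = c * c' := fun x hx =>
    four_list (zJ_ea T) hz4 hcm.1 hc'm.1 hx hc1 hc'1 hcc
  have hwcc : w = c * c' := by
    rcases hlist w D.m1.1 with e | e | e | e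
    · exact absurd e D.w1
    · exfalso
      refine hc1 (?_ : c = 1)
      have : c ∈ c0 T K ⊓ Cfsg.wOf K := ⟨hcm, e ▸ D.m1.2⟩
      rwa [c0_inf E.two D.o1.comp, Subgroup.mem_bot] at this
    · exfalso
      refine hc'1 (?_ : c' = 1)
      have : c' ∈ c0 T K₂ ⊓ Cfsg.wOf K₂ := ⟨hc'm, e ▸ D.m2.2⟩
      rwa [c0_inf E.two D.o2.comp, Subgroup.mem_bot] at this
    · exact e
  -- the centralizers of `c` and `c'`
  have hC1 : Subgroup.centralizer ({c} : Set G) ≤ Subgroup.normalizer (Cfsg.wOf K : Set G) :=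
    D.local_le E (centralizer_isTwoLocal (zJ_sq hcm.1) hc1) fun x hx =>
      Subgroup.mem_centralizer_singleton_iff.2 (c0_comm_sup E.two D.o1.comp hcm hx)
  have hC2 : Subgroup.centralizer ({c'} : Set G) ≤ Subgroup.normalizer (Cfsg.wOf K₂ : Set G) :=
    D.symm.local_le E (centralizer_isTwoLocal (zJ_sq hc'm.1) hc'1) fun x hx =>
      Subgroup.mem_centralizer_singleton_iff.2 (c0_comm_sup E.two D.o2.comp hc'm hx)
  have hgnot : ∀ L : Subgroup G, Cfsg.IsSylowTwoIn T L → g ∉ L := by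
    intro L hL hgL
    apply hgT
    rw [eq_of_two_le hL (S.isPGroup'.to_le (sup_le hTS (Subgroup.zpowers_le.2 hgS)))
      (le_sup_left : T ≤ T ⊔ Subgroup.zpowers g) (sup_le hL.1 (Subgroup.zpowers_le.2 hgL))]
    exact Subgroup.mem_sup_right (Subgroup.mem_zpowers g)
  have hgc : g * c * g⁻¹ ≠ c := fun h => hgnot _ (D.normalizer_W_maximal E).2.2.1.1
    (hC1 (Subgroup.mem_centralizer_singleton_iff.2 (mul_inv_eq_iff_eq_mul.1 h)))
  have hgc' : g * c' * g⁻¹ ≠ c' := fun h => hgnot _ (D.symm.normalizer_W_maximal E).2.2.1.1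
    (hC2 (Subgroup.mem_centralizer_singleton_iff.2 (mul_inv_eq_iff_eq_mul.1 h)))
  have hzfix : g * z * g⁻¹ = z := mul_inv_eq_iff_eq_mul.2 (hzc g hgS)
  have hZw : ∀ x ∈ Z, x = 1 ∨ x = w := by
    intro x hx
    have hxfix : g * x * g⁻¹ = x := mul_inv_eq_iff_eq_mul.2 (omega_central hx hgS)
    rcases hlist x (hZle hx) with e | e | e | e
    · exact Or.inl e
    · exact absurd (e ▸ hxfix) hgc
    · exact absurd (e ▸ hxfix) hgc'
    · exact Or.inr (e.trans hwcc.symm)
  have hzJn : ∀ h ∈ Subgroup.normalizer (zJ T : Set G), ∀ x ∈ zJ T, h * x * h⁻¹ ∈ zJ T :=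
    fun h hh x hx => (Subgroup.mem_normalizer_iff.1 hh x).1 hx
  -- `N(Z₀)` fixes `w`
  have hw : ∀ h ∈ Subgroup.normalizer (zJ T : Set G), h * w * h⁻¹ = w := by
    intro h hh
    have hcase : ∀ (Kd : Subgroup G) (d : G), Cfsg.IsJComponent T Kd → d ∈ c0 T Kd →
        h * w * h⁻¹ = d → False := by
      intro Kd d hKd hd e
      refine no_conj_component_in_centralizer E.Z S E.two hKd (h := h⁻¹) fun k hk => ?_
      have hkd : k * d = d * k := by
        have hle : Kd ⊔ T ≤ Subgroup.centralizer ({d} : Set G) := sup_le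
          (fun x hx => Subgroup.mem_centralizer_singleton_iff.2
            (Subgroup.mem_centralizer_iff.1 hd.2 x hx))
          (fun t ht => Subgroup.mem_centralizer_singleton_iff.2 (D.zJ_central E t ht d hd.1))
        exact Subgroup.mem_centralizer_singleton_iff.1 (hle hk)
      refine Subgroup.mem_centralizer_iff.2 fun x hx => ?_
      rcases hZw x hx with rfl | rfl
      · simp
      · rw [← e] at hkd
        rw [inv_inv]
        calc x * (h⁻¹ * k * h) = h⁻¹ * ((h * x * h⁻¹) * k) * h := by group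
          _ = h⁻¹ * (k * (h * x * h⁻¹)) * h := by rw [← hkd]
          _ = h⁻¹ * k * h * x := by group
    rcases hlist _ (hzJn h hh w D.m1.1) with e | e | e | e
    · exact absurd (conj_eq_one_iff.1 e) D.w1
    · exact (hcase K c D.o1.comp hcm e).elim
    · exact (hcase K₂ c' D.o2.comp hc'm e).elim
    · exact e.trans hwcc.symm
  have hswap : ∀ h ∈ Subgroup.normalizer (zJ T : Set G),
      h * c * h⁻¹ = c ∨ (h * c * h⁻¹ = c' ∧ h * c' * h⁻¹ = c) := by
    intro h hh
    have hcw : c' = c * w := by rw [hwcc, ← mul_assoc, zJ_sq hcm.1, one_mul]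
    rcases hlist _ (hzJn h hh c hcm.1) with e | e | e | e
    · exact absurd (conj_eq_one_iff.1 e) hc1
    · exact Or.inl e
    · refine Or.inr ⟨e, ?_⟩
      rw [hcw, show h * (c * w) * h⁻¹ = (h * c * h⁻¹) * (h * w * h⁻¹) by group, e, hw h hh, hcw,
        mul_assoc, zJ_sq D.m1.1, mul_one]
    · exfalso
      have he : h * c * h⁻¹ = h * w * h⁻¹ := by rw [e, hw h hh, hwcc]
      have hcwe : c = w := mul_left_cancel (mul_right_cancel he)
      rcases hlist w D.m1.1 with e' | e' | e' | e'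
      · exact D.w1 e'
      · have : c ∈ c0 T K ⊓ Cfsg.wOf K := ⟨hcm, e' ▸ D.m1.2⟩
        rw [c0_inf E.two D.o1.comp, Subgroup.mem_bot] at this
        exact hc1 this
      · exact hcc (hcwe.trans e')
      · exact hc'1 (mul_eq_left.1 (hcwe.trans e').symm)
  have hmem : ∀ b ∈ Subgroup.normalizer (zJ T : Set G), b * c * b⁻¹ = c →
      b ∈ Subgroup.normalizer (Cfsg.wOf K : Set G) ⊓ Subgroup.centralizer (zJ T : Set G) := by
    intro b hb hbc
    refine ⟨hC1 (Subgroup.mem_centralizer_singleton_iff.2 (mul_inv_eq_iff_eq_mul.1 hbc)),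
      Subgroup.mem_centralizer_iff.2 fun x hx => ?_⟩
    have hbw : Commute b w := mul_inv_eq_iff_eq_mul.1 (hw b hb)
    have hbc0 : Commute b c := mul_inv_eq_iff_eq_mul.1 hbc
    have hbc' : Commute b c' := by
      rw [show c' = c * w by rw [hwcc, ← mul_assoc, zJ_sq hcm.1, one_mul]]
      exact hbc0.mul_right hbw
    rcases hlist x hx with rfl | rfl | rfl | rfl
    · simp
    · exact hbc0.eq.symm
    · exact hbc'.eq.symm
    · exact (hbc0.mul_right hbc').eq.symm
  have hgNJ : g ∈ Subgroup.normalizer (zJ T : Set G) :=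
    normalizer_le_omegaCenterOf _ (Thompson.normalizer_le_normalizer_thompsonSubgroupOf 2 T hgN)
  rw [Subgroup.relIndex_eq_two_iff_exists_notMem_and]
  refine ⟨g, hgNJ, fun h => hgc ?_, fun b hb => ?_⟩
  · rw [← Subgroup.mem_centralizer_iff.1 h.2 c hcm.1, mul_inv_cancel_right]
  rcases hswap b hb with e | ⟨-, e'⟩
  · exact Or.inr (hmem b hb e)
  refine Or.inl (hmem _ (mul_mem hb hgNJ) ?_)
  have hg : g * c * g⁻¹ = c' := ((hswap g hgNJ).resolve_left hgc).1
  rw [show b * g * c * (b * g)⁻¹ = b * (g * c * g⁻¹) * b⁻¹ by group, hg, e']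

end Duo

/-- The standing setting from the hypotheses of the statements, and a companion. -/
theorem exists_duo_of_outside (Z : ZN G) (hO : Cfsg.pCore 2 G = ⊥) (S : Sylow 2 G) {M : Subgroup G}
    (hMJ : Subgroup.normalizer (Cfsg.thompsonSubgroupOf 2 (S : Subgroup G) : Set G) ≤ M)
    {T : Subgroup G} (hT : T ∈ Cfsg.maxStraddlingTwoSubgroups M) {K : Subgroup G}
    (hK : K ∈ Cfsg.jComponentsOutside M T) :
    ∃ M' K₂ w, Setting T M' ∧ Duo T M' K K₂ w :=
  Setting.exists_duo (⟨Z, hT, S, hMJ⟩ : Setting T M) hO ⟨hK.1.1, hK.2.1, hK.2.2⟩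

end Cfsg.Agent.JComp
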