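import Cfsg.Agent.Lib.JComp.Pair

/-!
A component whose conjugate under `N(T)` lies in another family.
-/

set_option autoImplicit false
set_option linter.style.haveILetI false
set_option linter.unusedSectionVars false
open scoped commutatorElement Pointwise

namespace Cfsg.Agent.JComp

open Cfsg.Agent

universe u

variable {G : Type u} [Group G] [Finite G]

/-- A Sylow 2-subgroup of `L` is not properly inside a 2-subgroup of `L`. -/
theorem eq_of_two_le {T X L : Subgroup G} (hT : Cfsg.IsSylowTwoIn T L) (hX : IsPGroup 2 X)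
    (hTX : T ≤ X) (hXL : X ≤ L) : T = X := by
  obtain ⟨g, -, hle⟩ := exists_conj_le hT hXL hX
  refine Subgroup.eq_of_le_of_card_ge hTX ?_
  rw [← Subgroup.card_map_of_injective (K := X) (f := (MulAut.conj g).toMonoidHom)
    (MulAut.conj g).injective]
  exact Subgroup.card_le_of_le hle

/-- A 2-element normalizing `T` with square in `T`. -/
theorem exists_two_step {T R : Subgroup G} (hR : IsPGroup 2 R) (hTR : T ≤ R) (h : ¬ R ≤ T) :
    ∃ g ∈ R, g ∈ Subgroup.normalizer (T : Set G) ∧ g ∉ T ∧ g * g ∈ T := by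
  classical
  haveI : Fact (Nat.Prime 2) := ⟨Nat.prime_two⟩
  obtain ⟨g0, hg0R, hg0N, hg0T⟩ :
      ∃ g ∈ R, g ∈ Subgroup.normalizer (T : Set G) ∧ g ∉ T := by
    by_contra hcon
    push Not at hcon
    exact h (LESylow.eq_of_normalizer_inf_le hR hTR fun x hx => hcon x hx.1 hx.2).ge
  obtain ⟨k, hk⟩ := IsPGroup.iff_orderOf.1 hR ⟨g0, hg0R⟩
  rw [Subgroup.orderOf_mk] at hk
  have hex : ∃ j, g0 ^ (2 ^ j) ∈ T := ⟨k, by rw [← hk, pow_orderOf_eq_one]; exact one_mem T⟩
  have hspec := Nat.find_spec hex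
  have hmin : ∀ j, j < Nat.find hex → g0 ^ (2 ^ j) ∉ T := fun j hj => Nat.find_min hex hj
  generalize Nat.find hex = j0 at hspec hmin
  rcases j0 with _ | j
  · exact absurd (by simpa using hspec) hg0T
  refine ⟨g0 ^ (2 ^ j), pow_mem hg0R _, pow_mem hg0N _, hmin j (Nat.lt_succ_self j), ?_⟩
  rwa [← pow_add, ← two_mul, ← pow_succ']

theorem map_eq_self {g : G} {H : Subgroup G} (h : g ∈ Subgroup.normalizer (H : Set G)) :
    H.map (MulAut.conj g).toMonoidHom = H := Amalgam.cj_eq_self h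

theorem zJ_normal (T : Subgroup G) : T ≤ Subgroup.normalizer (zJ T : Set G) :=
  (Subgroup.le_normalizer.trans (Thompson.normalizer_le_normalizer_thompsonSubgroupOf 2 T)).trans
    (normalizer_le_omegaCenterOf _)

/-- `T ≤ N(K)` centralizes `Ω₁(Z(J)) ∩ W_K`. -/
theorem fix_w {T K : Subgroup G} (hT : IsPGroup 2 T) (hK : Cfsg.IsJComponent T K)
    (hTK : T ≤ Subgroup.normalizer (K : Set G)) {w : G} (hw : w ∈ zJ T ⊓ Cfsg.wOf K) {t : G}
    (ht : t ∈ T) : t * w = w * t := by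
  by_cases hw1 : w = 1
  · subst hw1; simp
  refine mul_inv_eq_iff_eq_mul.1 (eq_of_card_two (card_zJ_inf hT hK) ?_ hw
    (fun h => hw1 (conj_eq_one_iff.1 h)) hw1)
  exact ⟨(Subgroup.mem_normalizer_iff.1 (zJ_normal T ht) w).1 hw.1,
    (Subgroup.mem_normalizer_iff.1 ((hTK.trans (normalizer_le_wOf K)) ht) w).1 hw.2⟩

/-- `T ≤ N(K)` centralizes the part of `Ω₁(Z(J))` centralized by `K`, if it is small. -/
theorem fix_c0 {T K : Subgroup G} (hTK : T ≤ Subgroup.normalizer (K : Set G))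
    (hc : Nat.card (c0 T K) ≤ 2) {x : G} (hx : x ∈ c0 T K) {t : G} (ht : t ∈ T) :
    t * x = x * t := by
  by_cases hx1 : x = 1
  · subst hx1; simp
  have h2 : Nat.card (c0 T K) = 2 := by
    have : 1 < Nat.card (c0 T K) := Finite.one_lt_card_iff_nontrivial.2
      ((Subgroup.nontrivial_iff_exists_ne_one _).2 ⟨x, hx, hx1⟩)
    omega
  refine mul_inv_eq_iff_eq_mul.1 (eq_of_card_two h2 ?_ hx (fun h => hx1 (conj_eq_one_iff.1 h)) hx1)
  refine ⟨(Subgroup.mem_normalizer_iff.1 (zJ_normal T ht) x).1 hx.1,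
    Subgroup.mem_centralizer_iff.2 fun k hk => ?_⟩
  have hk' := (Subgroup.mem_normalizer_iff.1 (hTK (inv_mem ht)) k).1 hk
  rw [inv_inv] at hk'
  have := Subgroup.mem_centralizer_iff.1 hx.2 _ hk'
  calc k * (t * x * t⁻¹) = t * ((t⁻¹ * k * t) * x) * t⁻¹ := by group
    _ = t * x * t⁻¹ * k := by rw [this]; group

theorem c0_map {T K : Subgroup G} {g : G} (hgT : g ∈ Subgroup.normalizer (T : Set G)) {x : G}
    (hx : x ∈ c0 T K) : g * x * g⁻¹ ∈ c0 T (K.map (MulAut.conj g).toMonoidHom) := by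
  refine ⟨?_, Subgroup.mem_centralizer_iff.2 ?_⟩
  · have h := zJ_map g T
    rw [map_eq_self hgT] at h
    rw [h]
    exact ⟨x, hx.1, rfl⟩
  · rintro _ ⟨k, hk, rfl⟩
    have := Subgroup.mem_centralizer_iff.1 hx.2 k hk
    show g * k * g⁻¹ * (g * x * g⁻¹) = g * x * g⁻¹ * (g * k * g⁻¹)
    calc g * k * g⁻¹ * (g * x * g⁻¹) = g * (k * x) * g⁻¹ := by group
      _ = g * x * g⁻¹ * (g * k * g⁻¹) := by rw [this]; group

/-- Two components with different families and a common central involution. -/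
structure Duo (T M K K₂ : Subgroup G) (w : G) : Prop where
  o1 : Outer T M K
  o2 : Outer T M K₂
  ne : Setting.family T K ≠ Setting.family T K₂
  w1 : w ≠ 1
  m1 : w ∈ zJ T ⊓ Cfsg.wOf K
  m2 : w ∈ zJ T ⊓ Cfsg.wOf K₂

theorem Duo.symm {T M K K₂ : Subgroup G} {w : G} (D : Duo T M K K₂ w) : Duo T M K₂ K w :=
  ⟨D.o2, D.o1, D.ne.symm, D.w1, D.m2, D.m1⟩

namespace Setting

variable {T M : Subgroup G} (E : Setting T M)
include E

theorem normalizes_of_single {K : Subgroup G} (hK : Outer T M K)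
    (h : ∀ K' ∈ family T K, K' = K) : T ≤ Subgroup.normalizer (K : Set G) := fun _ ht =>
  Subgroup.mem_normalizer_iff_map_conj_eq.2 (h _ (E.family_conj hK (self_mem hK.comp) ht))

theorem outer_conj {K : Subgroup G} (hK : Outer T M K) {g : G}
    (hgT : g ∈ Subgroup.normalizer (T : Set G)) :
    Outer T M (K.map (MulAut.conj g).toMonoidHom) := by
  have hgJ := Thompson.normalizer_le_normalizer_thompsonSubgroupOf 2 T hgT
  have hgM : g ∈ M := E.normalizer_J_le hgJ
  refine ⟨isJComponent_map_of_mem hgJ hK.comp, fun h => hK.notLe fun k hk => ?_, fun h => hK.core ?_⟩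
  · have h1 : g * k * g⁻¹ ∈ M := h ⟨k, hk, rfl⟩
    have := mul_mem (mul_mem (inv_mem hgM) h1) hgM
    rwa [show g⁻¹ * (g * k * g⁻¹) * g = k by group] at this
  · have h1 : K.map (MulAut.conj g).toMonoidHom ⊔ T = (K ⊔ T).map (MulAut.conj g).toMonoidHom := by
      rw [Subgroup.map_sup, map_eq_self hgT]
    rw [h1, pCoreOf_map] at h
    exact (Subgroup.map_eq_bot_iff_of_injective _ (MulAut.conj g).injective).1 h

/-- An element of `N(J(T))` moving `K` inside its family lies in the maximal overgroup. -/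
theorem mem_of_family_conj {K L : Subgroup G} (hK : Cfsg.IsJComponent T K) (hKM : ¬ K ≤ M)
    (hL : Cfsg.IsMaximalTwoLocal L) (hKL : K ⊔ Cfsg.thompsonSubgroupOf 2 T ≤ L) {g : G}
    (hgJ : g ∈ Subgroup.normalizer (Cfsg.thompsonSubgroupOf 2 T : Set G))
    (hKg : K.map (MulAut.conj g).toMonoidHom ∈ family T K) : g ∈ L := by
  rw [E.maximal_eq hK hKM hL hKL]
  refine CharP.normalizer_le_normalizer_opIn _ ?_
  rw [Subgroup.mem_normalizer_iff_map_conj_eq]
  refine Subgroup.eq_of_le_of_card_ge ?_ (Subgroup.card_map_of_injective (MulAut.conj g).injective).ge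
  rw [Subgroup.map_sup, Subgroup.mem_normalizer_iff_map_conj_eq.1 hgJ, sSup_eq_iSup',
    Subgroup.map_iSup]
  refine sup_le_sup_right (iSup_le fun K' => ?_) _
  refine le_trans ?_ (le_iSup (fun x : family T K => (x : Subgroup G))
    ⟨(K' : Subgroup G).map (MulAut.conj g).toMonoidHom, ?_⟩)
  · exact le_rfl
  refine (E.family_eq hK hKM hKg).le ⟨isJComponent_map_of_mem hgJ K'.2.1, ?_⟩
  rw [wOf_map]
  exact (Subgroup.map_mono K'.2.2).trans (Subgroup.le_normalizer_map _)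

/-- **A companion, when `T` is not a Sylow 2-subgroup.** -/
theorem duo_of_two_step {K : Subgroup G} (hK : Outer T M K) {R : Subgroup G} (hR : IsPGroup 2 R)
    (hTR : T ≤ R) (hRT : ¬ R ≤ T) : ∃ K₂ w, Duo T M K K₂ w := by
  obtain ⟨g, hgR, hgN, hgT, hgg⟩ := exists_two_step hR hTR hRT
  set K₂ := K.map (MulAut.conj g).toMonoidHom with hK₂def
  have hK₂ : Outer T M K₂ := E.outer_conj hK hgN
  obtain ⟨L, V, C, Aa, P, X, hLmax, -, hKT, -, -⟩ := E.exists_L hK
  have hne : family T K ≠ family T K₂ := by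
    intro h
    have hgL : g ∈ L := E.mem_of_family_conj hK.comp hK.notLe hLmax
      ((sup_le_sup_left (Thompson.thompsonSubgroupOf_le 2 T) K).trans hKT)
      (Thompson.normalizer_le_normalizer_thompsonSubgroupOf 2 T hgN) (h ▸ self_mem hK₂.comp)
    apply hgT
    have he := eq_of_two_le X.hT (hR.to_le (sup_le hTR (Subgroup.zpowers_le.2 hgR)))
      (le_sup_left : T ≤ T ⊔ Subgroup.zpowers g) (sup_le X.hT.1 (Subgroup.zpowers_le.2 hgL))
    rw [he]
    exact Subgroup.mem_sup_right (Subgroup.mem_zpowers g)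
  obtain ⟨hceq, hc2, hz4⟩ := E.card_bound hK hK₂ hne
  have hTK := E.normalizes_of_single hK fun _ h => E.family_eq_singleton hK hK₂ hne h
  have hTK₂ := E.normalizes_of_single hK₂ fun _ h => E.family_eq_singleton hK₂ hK hne.symm h
  by_cases h : ∃ x, (x ∈ Cfsg.wOf K ∨ x ∈ Cfsg.wOf K₂) ∧ x ∈ zJ T ∧ x ≠ 1 ∧ x ∉ c0 T K ∧ x ∉ c0 T K₂
  · obtain ⟨x, hxW, hxz, hx1, hxc, hxc'⟩ := h
    have hgz : ∀ y ∈ zJ T, g * y * g⁻¹ ∈ zJ T := fun y hy => by
      have h := zJ_map g T
      rw [map_eq_self hgN] at h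
      rw [h]
      exact ⟨y, hy, rfl⟩
    have hgx : g * x * g⁻¹ = x := by
      have hzc := card_zJ E.two hK.comp
      by_cases hc : Nat.card (c0 T K) ≤ 1
      · have hpos : 0 < Nat.card (c0 T K) := Nat.card_pos
        exact eq_of_card_two (C := zJ T) (by omega) (hgz x hxz) hxz
          (fun h => hx1 (conj_eq_one_iff.1 h)) hx1
      obtain ⟨c, hcm, hc1⟩ := (Subgroup.nontrivial_iff_exists_ne_one _).1
        (Finite.one_lt_card_iff_nontrivial.1 (show 1 < Nat.card (c0 T K) by omega))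
      set c' := g * c * g⁻¹ with hc'def
      have hc'm : c' ∈ c0 T K₂ := c0_map hgN hcm
      have hc'1 : c' ≠ 1 := fun h => hc1 (conj_eq_one_iff.1 h)
      have hcc : c ≠ c' := fun h =>
        hne (E.family_eq_of_c0 hK.comp hK.notLe hK₂.comp hcm (h ▸ hc'm) hc1).symm
      have hz : Nat.card (zJ T) = 4 := by omega
      have hxe : x = c * c' := by
        rcases four_list (zJ_ea T) hz hcm.1 hc'm.1 hxz hc1 hc'1 hcc with h | h | h | h
        · exact absurd h hx1
        · exact absurd (h ▸ hcm) hxc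
        · exact absurd (h ▸ hc'm) hxc'
        · exact h
      have hgc' : g * c' * g⁻¹ = c := by
        rw [hc'def, show g * (g * c * g⁻¹) * g⁻¹ = g * g * c * (g * g)⁻¹ by group,
          fix_c0 hTK hc2 hcm hgg, mul_inv_cancel_right]
      have hcomm : c' * c = c * c' := fix_c0 hTK hc2 hcm (zJ_le T hc'm.1)
      rw [hxe]
      calc g * (c * c') * g⁻¹ = (g * c * g⁻¹) * (g * c' * g⁻¹) := by group
        _ = c * c' := by rw [hgc', ← hc'def, hcomm]
    have hboth : x ∈ Cfsg.wOf K ∧ x ∈ Cfsg.wOf K₂ := by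
      have hW₂ : Cfsg.wOf K₂ = (Cfsg.wOf K).map (MulAut.conj g).toMonoidHom := by
        rw [hK₂def, wOf_map]
      rcases hxW with h | h
      · exact ⟨h, by rw [hW₂]; exact ⟨x, h, hgx⟩⟩
      · refine ⟨?_, h⟩
        rw [hW₂] at h
        obtain ⟨y, hy, hyx⟩ := h
        have hyx' : g * y * g⁻¹ = g * x * g⁻¹ := hyx.trans hgx.symm
        rwa [← mul_left_cancel (mul_right_cancel hyx')]
    exact ⟨K₂, x, hK, hK₂, hne, hx1, ⟨hxz, hboth.1⟩, hxz, hboth.2⟩
  · obtain ⟨w, hw1, hw, hw₂⟩ := E.w_agree hK hK₂ hne fun x h1 h2 h3 h4 h5 _ =>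
      absurd ⟨x, h1, h2, h3, h4, h5⟩ h
    exact ⟨K₂, w, hK, hK₂, hne, hw1, hw, hw₂⟩

end Setting

end Cfsg.Agent.JComp
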