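import Cfsg.Agent.Lib.PLocal.FF.Coprime
import Cfsg.Agent.Lib.PLocal.PSolvable
import Cfsg.Prelude.Def_JComponents

/-!
A solvable group `G` with `O(G) = 1` in which centralizers of `Ω₁(Z(S))` normalize `S`:
`O₂(G)`, the module `⟨Ω₁(Z(S))⟩` and the abelian normal subgroup covering the 3-parts of the
failure-of-factorization components.
-/

set_option autoImplicit false
set_option linter.style.haveILetI false
set_option linter.unusedSectionVars false
open scoped commutatorElement Pointwise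

namespace Cfsg.Agent.JComp

open Cfsg.Agent Cfsg.Agent.FF

universe u

variable {G : Type u} [Group G] [Finite G]

/-- The structure of a member of `ℒ(T)`, seen from inside. -/
structure Struct (G : Type u) [Group G] (V C Aa P : Subgroup G) : Prop where
  hP : IsPGroup 2 P
  hVP : V ≤ P
  hPC : P ≤ C
  hCA : C ≤ Aa
  hV : Cfsg.IsElementaryAbelian 2 V
  hC : C = Subgroup.centralizer (V : Set G)
  hPn : P.Normal
  hVn : V.Normal
  hAn : Aa.Normal
  comm_two : ∀ c ∈ C, ∀ u : G, (∃ k, orderOf u = 2 ^ k) → ⁅c, u⁆ ∈ P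
  two_mem : ∀ x ∈ C, (∃ k, orderOf x = 2 ^ k) → x ∈ P
  odd_mem : ∀ g ∈ Cfsg.thompsonSubgroup 2 G, Odd (orderOf g) → g ∈ Aa
  sq_mem : ∀ g ∈ Cfsg.thompsonSubgroup 2 G, g * g ∈ Aa
  cube_mem : ∀ x ∈ Aa, x ^ 3 ∈ C
  comm_mem : ∀ x ∈ Aa, ∀ y ∈ Aa, ⁅x, y⁆ ∈ C
  transvection : ∀ A : Subgroup G, Thompson.IsMaxEAIn 2 ⊤ A → ∀ g : G,
    (∃ a ∈ A, ⁅g, a⁆ ∉ C) → ∃ t ∈ A, ⁅g, t⁆ ∉ C ∧
      ∃ z : G, ∀ v ∈ V, ⁅t, v⁆ = 1 ∨ ⁅t, v⁆ = z
  exists_pair : ∀ A : Subgroup G, Thompson.IsMaxEAIn 2 ⊤ A → ¬ A ≤ C →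
    ∃ t ∈ A, ∃ y ∈ Aa, y ∈ Cfsg.thompsonSubgroup 2 G ∧ y ∉ C ∧ t * y * t⁻¹ * y ∈ C ∧
      ∀ j ∈ Cfsg.thompsonSubgroup 2 G, j * y * j⁻¹ * y⁻¹ ∈ C ∨ j * y * j⁻¹ * y ∈ C

theorem exists_struct (hsep : Cfsg.IsPSolvable 2 G) (hO : Cfsg.pPrimeCore 2 G = ⊥)
    (hZ : ∀ S : Sylow 2 G, Subgroup.centralizer
      (Cfsg.omegaCenterOf (S : Subgroup G) : Set G) ≤ Subgroup.normalizer ((S : Subgroup G) : Set G)) :
    ∃ V C Aa : Subgroup G, Struct G V C Aa (Cfsg.pCore 2 G) := by
  classical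
  haveI : Fact (Nat.Prime 2) := ⟨Nat.prime_two⟩
  obtain ⟨hS, hgen⟩ := jSetting (p := 2) hsep hO
  set W := zClosure 2 G with hW
  set C := Subgroup.centralizer (W : Set G) with hC
  set P := Cfsg.pCore 2 G with hP
  haveI hWn : W.Normal := zClosure_normal
  haveI hCn : C.Normal := inferInstance
  set H := jH W 2 with hH
  set K := jK W 2 with hK
  set V' := (inV W).range with hV'
  set E3 := Subgroup.closure {x | ∃ a, Tv 2 V' H a ∧ x ∈ comp K a ⊓ K} with hE3
  set Aa := E3.comap (toSemi W) with hAa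
  -- `P` and `W`
  have hPW : W ≤ P := by
    refine iSup_le fun S => ?_
    refine le_trans ?_ (PSolvable.centralizer_pCore_le hsep hO)
    intro x hx
    exact Subgroup.centralizer_le (PBasic.pCore_le_sylow S) (OmegaOne.le_centralizer_center 2 _ hx)
  have hPC : P ≤ C := by
    rw [hC, Subgroup.le_centralizer_iff]
    refine iSup_le fun S => ?_
    intro x hx
    exact Subgroup.centralizer_le (PBasic.pCore_le_sylow S) (OmegaOne.le_centralizer_center 2 _ hx)
  have hCS : ∀ S : Sylow 2 G, C ⊓ (S : Subgroup G) ≤ P := by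
    intro S
    refine PBasic.le_pCore ⟨fun n hn g => ?_⟩ (S.isPGroup'.to_le inf_le_right)
    have hnorm : C ≤ Subgroup.normalizer ((C ⊓ (S : Subgroup G) : Subgroup G) : Set G) := by
      rw [Subgroup.le_normalizer_iff]
      intro c hc x hx
      refine ⟨mul_mem (mul_mem hc hx.1) (inv_mem (s := C) hc), ?_⟩
      have hcS : c ∈ Subgroup.normalizer ((S : Subgroup G) : Set G) :=
        hZ S (Subgroup.centralizer_le (le_iSup (fun S : Sylow 2 G => Cfsg.omegaOne 2
          ((S : Subgroup G) ⊓ Subgroup.centralizer ((S : Subgroup G) : Set G))) S) hc)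
      exact (Subgroup.mem_normalizer_iff.1 hcS x).1 hx.2
    obtain ⟨Q, hQ⟩ := PBasic.exists_sylow_subgroupOf S C
    haveI : ((Q : Subgroup C)).Normal := by
      rw [hQ, ← Subgroup.inf_subgroupOf_left (S : Subgroup G) C]
      exact (Subgroup.normal_subgroupOf_iff_le_normalizer inf_le_left).2 hnorm
    have hgC : g * n * g⁻¹ ∈ C := hCn.conj_mem n hn.1 g
    have h2 : IsPGroup 2 (Subgroup.zpowers (⟨g * n * g⁻¹, hgC⟩ : C)) := by
      obtain ⟨k, hk⟩ := IsPGroup.iff_orderOf.1 S.isPGroup' ⟨n, hn.2⟩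
      rw [Subgroup.orderOf_mk] at hk
      refine IsPGroup.of_card (n := k) ?_
      rw [Nat.card_zpowers, Subgroup.orderOf_mk, ← hk, ← MulAut.conj_apply, MulEquiv.orderOf_eq]
    have h3 := Q.is_maximal' (IsPGroup.to_sup_of_normal_left' Q.isPGroup' h2
      Subgroup.le_normalizer_of_normal) le_sup_left
    have h4 : (⟨g * n * g⁻¹, hgC⟩ : C) ∈ (Q : Subgroup C) :=
      h3.le (Subgroup.mem_sup_right (Subgroup.mem_zpowers _))
    rw [hQ, Subgroup.mem_subgroupOf] at h4
    exact ⟨hgC, h4⟩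
  have htwoS : ∀ x : G, (∃ k, orderOf x = 2 ^ k) → ∃ S : Sylow 2 G, x ∈ (S : Subgroup G) := by
    rintro x ⟨k, hk⟩
    obtain ⟨S, hS⟩ := (IsPGroup.of_card (p := 2) (n := k)
      (G := Subgroup.zpowers x) (by rw [Nat.card_zpowers, hk])).exists_le_sylow
    exact ⟨S, hS (Subgroup.mem_zpowers x)⟩
  have two_mem : ∀ x ∈ C, (∃ k, orderOf x = 2 ^ k) → x ∈ P := by
    intro x hx hk
    obtain ⟨S, hS⟩ := htwoS x hk
    exact hCS S ⟨hx, hS⟩
  have comm_two : ∀ c ∈ C, ∀ u : G, (∃ k, orderOf u = 2 ^ k) → ⁅c, u⁆ ∈ P := by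
    intro c hc u hk
    obtain ⟨S, hu⟩ := htwoS u hk
    have hcS : c ∈ Subgroup.normalizer ((S : Subgroup G) : Set G) :=
      hZ S (Subgroup.centralizer_le (le_iSup (fun S : Sylow 2 G => Cfsg.omegaOne 2
        ((S : Subgroup G) ⊓ Subgroup.centralizer ((S : Subgroup G) : Set G))) S) hc)
    refine hCS S ⟨?_, ?_⟩
    · rw [commutatorElement_def, mul_assoc, mul_assoc, ← mul_assoc u]
      exact mul_mem hc (hCn.conj_mem _ (inv_mem hc) u)
    · rw [commutatorElement_def]
      exact mul_mem ((Subgroup.mem_normalizer_iff.1 hcS u).1 hu) (Subgroup.inv_mem _ hu)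
  -- symmetries
  have hVmap : ∀ g : G, V'.map (MulAut.conj (toSemi W g)).toMonoidHom = V' := by
    intro g
    refine Subgroup.eq_of_le_of_card_ge ?_ (Subgroup.card_map_of_injective (MulEquiv.injective _)).ge
    rintro _ ⟨_, ⟨v, rfl⟩, rfl⟩
    exact ⟨⟨g * v * g⁻¹, hWn.conj_mem v v.2 g⟩, (conj_inV W g v).symm⟩
  have hNmap : ∀ (g : G) (N : Subgroup (G ⧸ Subgroup.centralizer (W : Set G))), N.Normal →
      ((N.map (SemidirectProduct.inr : _ →* Semi W))).map (MulAut.conj (toSemi W g)).toMonoidHom =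
        N.map (SemidirectProduct.inr : _ →* Semi W) := by
    intro g N hN
    refine Subgroup.eq_of_le_of_card_ge ?_ (Subgroup.card_map_of_injective (MulEquiv.injective _)).ge
    rintro _ ⟨_, ⟨x, hx, rfl⟩, rfl⟩
    exact ⟨_, hN.conj_mem x hx (QuotientGroup.mk' _ g), by simp [toSemi]⟩
  have hsym : ∀ g : G, Sym V' H K (MulAut.conj (toSemi W g)) := fun g =>
    ⟨hVmap g, hNmap g _ inferInstance, hNmap g _ (by
      haveI := PBasic.pPrimeCore_characteristic 2 ↥(jImage W 2)
      infer_instance)⟩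
  -- facts on components
  have hinj : ∀ {x : Semi W}, x ∈ H → ∃ g ∈ Cfsg.thompsonSubgroup 2 G, toSemi W g = x := by
    intro x hx
    obtain ⟨g, hg, hgx⟩ := (jH_eq W).le hx
    exact ⟨g, hg, hgx⟩
  have hcard : ∀ a, Tv 2 V' H a → Nat.card ↥(comp K a ⊓ K) = 3 := by
    intro a ha
    obtain ⟨e⟩ := comp_equiv hS ha
    have h6 : Nat.card (comp K a) = 6 := by
      rw [Nat.card_congr e.toEquiv, Nat.card_eq_fintype_card]; decide
    have h2 := (card_comp_inf hS ha).1
    rw [h6] at h2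
    exact Nat.eq_of_mul_eq_mul_right (m := 2) two_pos (h2.trans (by norm_num))
  have hidx : ∀ a, Tv 2 V' H a → ((comp K a ⊓ K).subgroupOf (comp K a)).index = 2 := by
    intro a ha
    have h := ((comp K a ⊓ K).subgroupOf (comp K a)).card_mul_index
    obtain ⟨e⟩ := comp_equiv hS ha
    have h6 : Nat.card (comp K a) = 6 := by
      rw [Nat.card_congr e.toEquiv, Nat.card_eq_fintype_card]; decide
    rw [Nat.card_congr (Subgroup.subgroupOfEquivOfLe inf_le_left).toEquiv, hcard a ha, h6] at h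
    omega
  have hcross : ∀ a b, Tv 2 V' H a → Tv 2 V' H b → comp K a ≠ comp K b →
      ∀ x ∈ comp K a, ∀ y ∈ comp K b, x * y = y * x := by
    intro a b ha hb hne x hx y hy
    have hle : comp K b ≤ Subgroup.centralizer ({x} : Set (Semi W)) := by
      refine (Subgroup.closure_le _).2 fun t ht => ?_
      have := comp_le_centralizer hS ha (conjSet_tv hS hb ht) (by rwa [comp_eq ht]) hx
      exact Subgroup.mem_centralizer_singleton_iff.2
        (Subgroup.mem_centralizer_singleton_iff.1 this).symm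
    exact (Subgroup.mem_centralizer_singleton_iff.1 (hle hy)).symm
  have hE3ab : ∀ x ∈ E3, ∀ y ∈ E3, x * y = y * x := by
    have h : IsMulCommutative E3 := by
      refine Subgroup.isMulCommutative_closure ?_
      rintro x ⟨a, ha, hxa⟩ y ⟨b, hb, hyb⟩
      by_cases he : comp K a = comp K b
      · haveI : Fact (Nat.Prime 3) := ⟨Nat.prime_three⟩
        haveI := isCyclic_of_prime_card (hcard a ha)
        have hy' : y ∈ comp K a ⊓ K := he ▸ hyb
        exact congrArg Subtype.val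
          ((IsCyclic.isMulCommutative (α := ↥(comp K a ⊓ K))).is_comm.comm ⟨x, hxa⟩ ⟨y, hy'⟩)
      · exact hcross a b ha hb he x hxa.1 y hyb.1
    exact fun x hx y hy => congrArg Subtype.val (h.is_comm.comm ⟨x, hx⟩ ⟨y, hy⟩)
  have hE33 : ∀ x ∈ E3, x ^ 3 = 1 := by
    intro x hx
    induction hx using Subgroup.closure_induction with
    | mem x hx =>
      obtain ⟨a, ha, hxa⟩ := hx
      have h1 : (⟨x, hxa⟩ : ↥(comp K a ⊓ K)) ^ 3 = 1 := by rw [← hcard a ha]; exact pow_card_eq_one'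
      exact congrArg Subtype.val h1
    | one => exact one_pow 3
    | mul a b ha hb iha ihb => rw [(show Commute a b from hE3ab a ha b hb).mul_pow, iha, ihb, one_mul]
    | inv a _ iha => rw [inv_pow, iha, inv_one]
  haveI hAn : Aa.Normal := by
    refine ⟨fun n hn g => ?_⟩
    have hle : E3.map (MulAut.conj (toSemi W g)).toMonoidHom ≤ E3 := by
      rw [hE3, MonoidHom.map_closure, Subgroup.closure_le]
      rintro _ ⟨x, ⟨a, ha, hxa⟩, rfl⟩
      refine Subgroup.subset_closure ⟨_, (hsym g).tv ha, ?_, ?_⟩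
      · rw [← (hsym g).comp_map]; exact ⟨x, hxa.1, rfl⟩
      · exact (hsym g).hK ▸ ⟨x, hxa.2, rfl⟩
    show toSemi W (g * n * g⁻¹) ∈ E3
    have h := hle ⟨_, hn, rfl⟩
    rw [MulEquiv.coe_toMonoidHom, MulAut.conj_apply] at h
    rwa [map_mul, map_mul, map_inv]
  have hCA : C ≤ Aa := fun c hc => by
    show toSemi W c ∈ E3
    rw [(toSemi_eq_one W).2 hc]; exact one_mem _
  -- transvections modulo `Aa`
  set π := QuotientGroup.mk' Aa with hπ
  have hTvC : ∀ s t : Semi W, Tv 2 V' H s → Tv 2 V' H t → s * t * (t * s)⁻¹ ∈ E3 ∧ s * s = 1 := by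
    intro s t hs ht
    refine ⟨?_, by rw [← pow_two]; exact hs.pow_eq_one⟩
    by_cases he : comp K s = comp K t
    · have hsI := self_mem_comp K s
      have htI : t ∈ comp K s := he ▸ self_mem_comp K t
      set N := (comp K s ⊓ K).subgroupOf (comp K s) with hN
      have h2 := hidx s hs
      let a' : comp K s := ⟨s, hsI⟩
      let b' : comp K s := ⟨t, htI⟩
      have key : a' * b' * (b' * a')⁻¹ ∈ N := by
        rw [Subgroup.mul_mem_iff_of_index_two h2, Subgroup.inv_mem_iff,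
          Subgroup.mul_mem_iff_of_index_two h2, Subgroup.mul_mem_iff_of_index_two h2]
        tauto
      exact Subgroup.subset_closure ⟨s, hs, key⟩
    · rw [hcross s t hs ht he s (self_mem_comp K s) t (self_mem_comp K t), mul_inv_cancel]
      exact one_mem _
  have hquot : ∀ g ∈ Cfsg.thompsonSubgroup 2 G, g * g ∈ Aa := by
    set S0 : Set G := {g | Tv 2 V' H (toSemi W g)} with hS0
    have hle : Cfsg.thompsonSubgroup 2 G ≤ Subgroup.closure S0 ⊔ C := by
      intro g hg
      have h1 : toSemi W g ∈ H := (jH_eq W).ge ⟨g, hg, rfl⟩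
      have h2 : H ≤ (Subgroup.closure S0 ⊔ C).map (toSemi W) := by
        conv_lhs => rw [hgen]
        refine (Subgroup.closure_le _).2 fun t ht => ?_
        obtain ⟨u, -, rfl⟩ := hinj (Tv.mem ht)
        exact ⟨u, Subgroup.mem_sup_left (Subgroup.subset_closure ht), rfl⟩
      obtain ⟨g', hg', he⟩ := h2 h1
      rw [show g = g' * (g'⁻¹ * g) by group]
      refine mul_mem hg' (Subgroup.mem_sup_right ((toSemi_eq_one W).1 ?_))
      rw [map_mul, map_inv, he, inv_mul_cancel]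
    have hcomm : IsMulCommutative (Subgroup.closure (π '' S0)) := by
      refine Subgroup.isMulCommutative_closure ?_
      rintro _ ⟨s, hs, rfl⟩ _ ⟨t, ht, rfl⟩
      rw [← map_mul, ← map_mul]
      symm
      refine QuotientGroup.eq.2 ?_
      show toSemi W ((t * s)⁻¹ * (s * t)) ∈ E3
      have h1 := (hTvC _ _ hs ht).1
      rw [← map_mul, ← map_mul, ← map_inv, ← map_mul] at h1
      have h2 := hAn.conj_mem _ (show s * t * (t * s)⁻¹ ∈ Aa from h1) (t * s)⁻¹
      have h3 : (t * s)⁻¹ * (s * t * (t * s)⁻¹) * (t * s)⁻¹⁻¹ = (t * s)⁻¹ * (s * t) := by group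
      rw [h3] at h2
      exact h2
    intro g hg
    have hmap : π g ∈ Subgroup.closure (π '' S0) := by
      have h := Subgroup.mem_map_of_mem π (hle hg)
      rw [Subgroup.map_sup, MonoidHom.map_closure,
        (Subgroup.map_eq_bot_iff _).2 (by rw [hπ, QuotientGroup.ker_mk']; exact hCA), sup_bot_eq] at h
      exact h
    rw [← QuotientGroup.eq_one_iff]
    show π (g * g) = 1
    rw [map_mul]
    suffices h : ∀ x ∈ Subgroup.closure (π '' S0), x * x = 1 from h _ hmap
    intro x hx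
    induction hx using Subgroup.closure_induction with
    | mem x hx =>
      obtain ⟨s, hs, rfl⟩ := hx
      rw [← map_mul]
      refine (QuotientGroup.eq_one_iff (s * s)).2 (hCA ((toSemi_eq_one W).1 ?_))
      rw [map_mul]
      exact (hTvC _ _ hs hs).2
    | one => exact one_mul 1
    | mul a b ha hb iha ihb =>
      have hc : a * b = b * a := congrArg Subtype.val (hcomm.is_comm.comm ⟨a, ha⟩ ⟨b, hb⟩)
      calc a * b * (a * b) = a * (b * a) * b := by group
        _ = (a * a) * (b * b) := by rw [← hc]; group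
        _ = 1 := by rw [iha, ihb, one_mul]
    | inv a _ iha => rw [← mul_inv_rev, iha, inv_one]
  have cube_mem : ∀ x ∈ Aa, x ^ 3 ∈ C := fun x hx =>
    (toSemi_eq_one W).1 (by rw [map_pow]; exact hE33 _ hx)
  have hoff : ∀ A : Subgroup G, Thompson.IsMaxEAIn 2 ⊤ A → ∀ g : G, (∃ a ∈ A, ⁅g, a⁆ ∉ C) →
      ∃ t ∈ A, ⁅g, t⁆ ∉ C ∧ Tv 2 V' H (toSemi W t) := by
    intro A hA g hex
    have hWe := zClosure_ea hsep hO
    have hOq : Cfsg.pCore 2 (G ⧸ Subgroup.centralizer (W : Set G)) = ⊥ := pCore_quotient_zClosure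
    have hoff := off_image W hsep hWe hOq (jImage W 2) hA
      (Subgroup.map_mono (le_sSup (Thompson.isMaxEAIn_top_iff.1 hA)))
    by_contra hcon
    push Not at hcon
    obtain ⟨a, ha, hga⟩ := hex
    apply hga
    rw [hC, ← toSemi_eq_one W, map_commutatorElement, commutatorElement_eq_one_iff_mul_comm]
    have hle : A.map (toSemi W) ≤ Subgroup.centralizer ({toSemi W g} : Set (Semi W)) := by
      rw [Off.eq_closure hS hoff, Subgroup.closure_le]
      rintro _ ⟨⟨t, ht, rfl⟩, htv⟩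
      refine Subgroup.mem_centralizer_singleton_iff.2 ?_
      have h : ⁅g, t⁆ ∈ C := by
        by_contra h
        exact hcon t ht h htv
      rw [← toSemi_eq_one W, map_commutatorElement, commutatorElement_eq_one_iff_mul_comm] at h
      exact h.symm
    exact (Subgroup.mem_centralizer_singleton_iff.1 (hle ⟨a, ha, rfl⟩)).symm
  refine ⟨W, C, Aa, PBasic.pCore_isPGroup 2 G, hPW, hPC, hCA, zClosure_ea hsep hO, rfl,
    inferInstance, hWn, hAn, comm_two, two_mem, ?_, hquot, cube_mem, ?_, ?_, ?_⟩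
  · intro g hg hodd
    obtain ⟨m, hm⟩ := exists_pow_eq_self_of_coprime (n := 2) (x := g) (Nat.coprime_two_left.2 hodd)
    rw [← hm]
    exact pow_mem (by rw [pow_two]; exact hquot g hg) m
  · intro x hx y hy
    rw [hC, ← toSemi_eq_one W, map_commutatorElement, commutatorElement_eq_one_iff_mul_comm]
    exact hE3ab _ hx _ hy
  · intro A hA g hex
    obtain ⟨t, ht, hgt, htv⟩ := hoff A hA g hex
    refine ⟨t, ht, hgt, ?_⟩
    have hl := card_line hS htv
    by_cases hall : ∀ v ∈ W, ⁅t, v⁆ = 1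
    · exact ⟨1, fun v hv => Or.inl (hall v hv)⟩
    push Not at hall
    obtain ⟨v0, hv0, hne⟩ := hall
    refine ⟨⁅t, v0⁆, fun v hv => or_iff_not_imp_left.2 fun hv1 => ?_⟩
    have hmem : ∀ u ∈ W, ∃ w : W, (w : G) = ⁅t, u⁆ ∧ inV W w ∈ line V' (toSemi W t) := by
      intro u hu
      refine ⟨⟨t * u * t⁻¹ * u⁻¹, mul_mem (hWn.conj_mem u hu t) (inv_mem hu)⟩,
        (commutatorElement_def t u).symm, ?_⟩
      have h := mem_line hS htv.mem (show inV W ⟨u, hu⟩ ∈ V' from ⟨_, rfl⟩)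
      rw [commutatorElement_def, conj_inV] at h
      rw [show (⟨t * u * t⁻¹ * u⁻¹, mul_mem (hWn.conj_mem u hu t) (inv_mem hu)⟩ : W) =
        ⟨t * u * t⁻¹, hWn.conj_mem u hu t⟩ * (⟨u, hu⟩ : W)⁻¹ from rfl, map_mul, map_inv]
      exact h
    obtain ⟨w0, hw0, hl0⟩ := hmem v0 hv0
    obtain ⟨w1, hw1, hl1⟩ := hmem v hv
    have hz0 : Subgroup.zpowers (inV W w0) = line V' (toSemi W t) := by
      refine Subgroup.eq_of_le_of_card_ge (Subgroup.zpowers_le.2 hl0) ?_
      rw [hl, Nat.card_zpowers, orderOf_injective (inV W) (inV_injective W), ← Subgroup.orderOf_coe,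
        hw0]
      have h2 : ⁅t, v0⁆ ^ 2 = 1 := hw0 ▸ (zClosure_ea hsep hO).2 w0 w0.2
      rw [orderOf_eq_prime h2 hne]
    rw [← hz0, Subgroup.mem_zpowers_iff] at hl1
    obtain ⟨k, hk⟩ := hl1
    rw [← map_zpow] at hk
    have hk' := congrArg Subtype.val (inV_injective W hk)
    rw [SubgroupClass.coe_zpow, hw0, hw1] at hk'
    have h2 : ⁅t, v0⁆ ^ 2 = 1 := hw0 ▸ (zClosure_ea hsep hO).2 w0 w0.2
    rcases Int.even_or_odd k with ⟨l, rfl⟩ | ⟨l, rfl⟩
    · rw [← two_mul, zpow_mul, zpow_ofNat, h2, one_zpow] at hk'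
      exact absurd hk'.symm hv1
    · rw [zpow_add_one, zpow_mul, zpow_ofNat, h2, one_zpow, one_mul] at hk'
      exact hk'.symm
  · intro A hA hAC
    obtain ⟨a, ha, haC⟩ := SetLike.not_le_iff_exists.1 hAC
    have hex : ∃ g : G, ∃ a ∈ A, ⁅g, a⁆ ∉ C := by
      by_contra hcon
      push Not at hcon
      apply haC
      rw [hC, ← toSemi_eq_one W]
      have haH : toSemi W a ∈ H :=
        (jH_eq W).ge ⟨a, (le_sSup (Thompson.isMaxEAIn_top_iff.1 hA)) ha, rfl⟩
      refine hS.centralizerK haH (by rw [← map_pow, hA.2.1.2 a ha, map_one]) fun k hk => ?_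
      obtain ⟨g, -, rfl⟩ := hinj (hS.hKH hk)
      have h := hcon g a ha
      rw [hC, ← toSemi_eq_one W, map_commutatorElement, commutatorElement_eq_one_iff_mul_comm] at h
      exact h.symm
    obtain ⟨g0, a0, ha0, hg0⟩ := hex
    obtain ⟨t, ht, -, htv⟩ := hoff A hA g0 ⟨a0, ha0, hg0⟩
    obtain ⟨x', hx', hxne⟩ := exists_noncomm hS htv
    obtain ⟨x, hxJ, rfl⟩ := hinj (hS.hKH hx')
    have htJ : t ∈ Cfsg.thompsonSubgroup 2 G := (le_sSup (Thompson.isMaxEAIn_top_iff.1 hA)) ht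
    have ht2 : toSemi W t * toSemi W t = 1 := by rw [← pow_two]; exact htv.pow_eq_one
    set y := ⁅x, t⁆ with hy
    have hyc : toSemi W y ∈ comp K (toSemi W t) ⊓ K := by
      rw [hy, map_commutatorElement, commutatorElement_def]
      refine ⟨mul_mem (Subgroup.subset_closure ⟨_, hx', rfl⟩) (Subgroup.inv_mem _ (self_mem_comp K _)), ?_⟩
      rw [show toSemi W x * toSemi W t * (toSemi W x)⁻¹ * (toSemi W t)⁻¹ =
        toSemi W x * (toSemi W t * (toSemi W x)⁻¹ * (toSemi W t)⁻¹) by group]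
      exact mul_mem hx' (hS.conjK_mem htv.mem (inv_mem hx'))
    have hyne : toSemi W y ≠ 1 := by
      rw [hy, map_commutatorElement, Ne, commutatorElement_eq_one_iff_mul_comm]
      intro h
      apply hxne
      rw [h, mul_inv_cancel_right]
    refine ⟨t, ht, y, Subgroup.subset_closure ⟨_, htv, hyc⟩, ?_, fun h => hyne ((toSemi_eq_one W).2 h),
      (toSemi_eq_one W).1 ?_, fun j hj => ?_⟩
    · rw [hy, commutatorElement_def]
      exact mul_mem (mul_mem (mul_mem hxJ htJ) (inv_mem hxJ)) (inv_mem htJ)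
    · rw [map_mul, map_mul, map_mul, map_inv, hy, map_commutatorElement, commutatorElement_def]
      rw [inv_eq_of_mul_eq_one_right ht2]
      generalize toSemi W x = X
      generalize hT : toSemi W t = T at ht2
      calc T * (X * T * X⁻¹ * T) * T * (X * T * X⁻¹ * T)
          = T * X * T * X⁻¹ * (T * T) * X * T * X⁻¹ * T := by group
        _ = T * X * T * X⁻¹ * X * T * X⁻¹ * T := by rw [ht2, mul_one]
        _ = T * X * (T * T) * X⁻¹ * T := by group
        _ = 1 := by rw [ht2, mul_one, mul_inv_cancel_right, ht2]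
    · have hjH : toSemi W j ∈ H := (jH_eq W).ge ⟨j, hj, rfl⟩
      have hn := (factor hS hgen htv).2.2.2.2.2 hjH
      have hconj : toSemi W j * toSemi W y * (toSemi W j)⁻¹ ∈ comp K (toSemi W t) ⊓ K :=
        ⟨(Subgroup.mem_normalizer_iff.1 hn _).1 hyc.1, hS.conjK_mem hjH hyc.2⟩
      haveI : Fact (Nat.Prime 3) := ⟨Nat.prime_three⟩
      have h3 := hcard _ htv
      obtain ⟨i, hi⟩ := mem_powers_of_prime_card (g := (⟨_, hyc⟩ : ↥(comp K (toSemi W t) ⊓ K)))
        (g' := ⟨_, hconj⟩) h3 (fun h => hyne (congrArg Subtype.val h))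
      have hi' : (toSemi W y) ^ i = toSemi W j * toSemi W y * (toSemi W j)⁻¹ := congrArg Subtype.val hi
      have hy3 : (toSemi W y) ^ 3 = 1 := hE33 _ (Subgroup.subset_closure ⟨_, htv, hyc⟩)
      rw [pow_eq_pow_mod i hy3] at hi'
      rcases (show i % 3 = 0 ∨ i % 3 = 1 ∨ i % 3 = 2 by omega) with h | h | h <;> rw [h] at hi'
      · exfalso
        rw [pow_zero, eq_comm, conj_eq_one_iff] at hi'
        exact hyne hi'
      · left
        refine (toSemi_eq_one W).1 ?_
        rw [map_mul, map_mul, map_mul, map_inv, map_inv, ← hi', pow_one, mul_inv_cancel]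
      · right
        refine (toSemi_eq_one W).1 ?_
        rw [map_mul, map_mul, map_mul, map_inv, ← hi', ← pow_succ, hy3]

end Cfsg.Agent.JComp
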