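import Cfsg.Agent.Lib.JComp.Basic
import Cfsg.Agent.Lib.JComp.Struct
import Cfsg.Agent.S2941
import Mathlib.GroupTheory.Solvable

/-!
`J(T)`-components inside a member of `ℒ(T)`: they are subnormal, determined by `W_K`, and exist.
-/

set_option autoImplicit false
set_option linter.style.haveILetI false
set_option linter.unusedSectionVars false
open scoped commutatorElement Pointwise

namespace Cfsg.Agent.JComp

open Cfsg.Agent

universe u

variable {G : Type u} [Group G] [Finite G]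

/-- The standing hypotheses. -/
structure ZN (G : Type u) [Group G] : Prop where
  hL : Cfsg.IsCharacteristicTwoType G
  hN : ∀ N : Subgroup G, Cfsg.IsTwoLocal N → Group.IsSolvable ↥N
  hZ : ∀ S : Sylow 2 G, Subgroup.centralizer (Cfsg.omegaCenterOf (S : Subgroup G) : Set G) ≤
    Subgroup.normalizer ((S : Subgroup G) : Set G)

omit [Finite G] in
theorem mem_of_coprime_pow {S : Subgroup G} {x : G} {m n : ℕ} (hc : m.Coprime n)
    (h1 : x ^ m ∈ S) (h2 : x ^ n ∈ S) : x ∈ S := by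
  have h := Nat.gcd_eq_gcd_ab m n
  rw [Nat.coprime_iff_gcd_eq_one.1 hc] at h
  have e : x = (x ^ m) ^ Nat.gcdA m n * (x ^ n) ^ Nat.gcdB m n := by
    rw [← zpow_natCast x m, ← zpow_natCast x n, ← zpow_mul, ← zpow_mul, ← zpow_add, ← h]
    simp
  rw [e]
  exact mul_mem (zpow_mem h1 _) (zpow_mem h2 _)

/-- An element of odd order of `K P` lies in `K`, for a 2-group `P` normalizing `K`. -/
theorem odd_mem_of_sup {K P : Subgroup G} (hP : IsPGroup 2 P)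
    (hn : P ≤ Subgroup.normalizer (K : Set G)) {g : G} (hg : g ∈ K ⊔ P) (ho : Odd (orderOf g)) :
    g ∈ K := by
  have hg' : g ∈ ((K : Set G) * (P : Set G)) := by
    rw [← Subgroup.coe_mul_of_right_le_normalizer_left K P hn]; exact hg
  obtain ⟨k, hk, p, hp, rfl⟩ := Set.mem_mul.1 hg'
  have key : ∀ n : ℕ, (k * p) ^ n * (p ^ n)⁻¹ ∈ K := by
    intro n
    induction n with
    | zero => simp
    | succ n ih =>
      have e : (k * p) ^ (n + 1) * (p ^ (n + 1))⁻¹ = k * (p * ((k * p) ^ n * (p ^ n)⁻¹) * p⁻¹) := by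
        rw [pow_succ' (k * p), pow_succ' p]; group
      rw [e]
      exact mul_mem hk ((Subgroup.mem_normalizer_iff.1 (hn hp) _).1 ih)
  have h1 := key (orderOf (k * p))
  rw [pow_orderOf_eq_one, one_mul, inv_mem_iff] at h1
  obtain ⟨i, hi⟩ := IsPGroup.iff_orderOf.1 hP ⟨p, hp⟩
  rw [Subgroup.orderOf_mk] at hi
  have h2 : p ^ (2 ^ i) ∈ K := by rw [← hi, pow_orderOf_eq_one]; exact one_mem _
  have hpK : p ∈ K := mem_of_coprime_pow (Nat.Coprime.pow_right i (Nat.coprime_two_right.2 ho)) h1 h2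
  exact mul_mem hk hpK

/-- The structure of `L ∈ ℒ(T)`. -/
structure Loc (L T V C Aa P : Subgroup G) : Prop where
  hP : IsPGroup 2 P
  hVP : V ≤ P
  hPC : P ≤ C
  hCA : C ≤ Aa
  hAL : Aa ≤ L
  hV : Cfsg.IsElementaryAbelian 2 V
  hC : C = L ⊓ Subgroup.centralizer (V : Set G)
  hPn : L ≤ Subgroup.normalizer (P : Set G)
  hVn : L ≤ Subgroup.normalizer (V : Set G)
  hAn : L ≤ Subgroup.normalizer (Aa : Set G)
  hPeq : P = Cfsg.pCoreOf 2 L
  hT : Cfsg.IsSylowTwoIn T L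
  comm_two : ∀ c ∈ C, ∀ u ∈ L, (∃ k, orderOf u = 2 ^ k) → ⁅c, u⁆ ∈ P
  two_mem : ∀ x ∈ C, (∃ k, orderOf x = 2 ^ k) → x ∈ P
  odd_mem : ∀ g ∈ Cfsg.thompsonSubgroupOf 2 L, Odd (orderOf g) → g ∈ Aa
  sq_mem : ∀ g ∈ Cfsg.thompsonSubgroupOf 2 L, g * g ∈ Aa
  cube_mem : ∀ x ∈ Aa, x ^ 3 ∈ C
  comm_mem : ∀ x ∈ Aa, ∀ y ∈ Aa, ⁅x, y⁆ ∈ C
  transvection : ∀ A : Subgroup G, Thompson.IsMaxEAIn 2 L A → ∀ g ∈ L,
    (∃ a ∈ A, ⁅g, a⁆ ∉ C) → ∃ t ∈ A, ⁅g, t⁆ ∉ C ∧
      ∃ z : G, ∀ v ∈ V, ⁅t, v⁆ = 1 ∨ ⁅t, v⁆ = z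
  exists_pair : ∀ A : Subgroup G, Thompson.IsMaxEAIn 2 L A → ¬ A ≤ C →
    ∃ t ∈ A, ∃ y ∈ Aa, y ∈ Cfsg.thompsonSubgroupOf 2 L ∧ y ∉ C ∧ t * y * t⁻¹ * y ∈ C ∧
      ∀ j ∈ Cfsg.thompsonSubgroupOf 2 L, j * y * j⁻¹ * y⁻¹ ∈ C ∨ j * y * j⁻¹ * y ∈ C

/-- A 2-subgroup of `L` is conjugate in `L` into `T`. -/
theorem exists_conj_le {L T X : Subgroup G} (hT : Cfsg.IsSylowTwoIn T L) (hXL : X ≤ L)
    (hX : IsPGroup 2 X) : ∃ g ∈ L, X.map (MulAut.conj g).toMonoidHom ≤ T := by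
  haveI : Fact (Nat.Prime 2) := ⟨Nat.prime_two⟩
  have hp : IsPGroup 2 (T.subgroupOf L) := hT.2.1.of_equiv (Subgroup.subgroupOfEquivOfLe hT.1).symm
  have hi : ¬ 2 ∣ (T.subgroupOf L).index := fun h =>
    Nat.not_even_iff_odd.2 hT.2.2 (even_iff_two_dvd.2 h)
  obtain ⟨S, hS⟩ := (hX.of_equiv (Subgroup.subgroupOfEquivOfLe hXL).symm).exists_le_sylow
  obtain ⟨g, hg⟩ := MulAction.exists_smul_eq L S (hp.toSylow hi)
  refine ⟨g, g.2, ?_⟩
  rintro _ ⟨x, hx, rfl⟩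
  have h1 : (MulAut.conj g) ⟨x, hXL hx⟩ ∈ T.subgroupOf L := by
    have h2 : (MulAut.conj g) ⟨x, hXL hx⟩ ∈ ((g • S : Sylow 2 L) : Subgroup L) := by
      rw [Sylow.coe_subgroup_smul]
      exact ⟨⟨x, hXL hx⟩, hS hx, rfl⟩
    rw [hg] at h2
    exact h2
  exact h1

theorem isMax_of_sylowTwoIn {L T A : Subgroup G} (hT : Cfsg.IsSylowTwoIn T L)
    (hA : Thompson.IsMaxEAIn 2 T A) : Thompson.IsMaxEAIn 2 L A := by
  haveI : Fact (Nat.Prime 2) := ⟨Nat.prime_two⟩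
  refine ⟨hA.1.trans hT.1, hA.2.1, fun B hB hBe => ?_⟩
  obtain ⟨g, -, hg⟩ := exists_conj_le hT hB (FF.isPGroup_of_ea hBe)
  rw [← Subgroup.card_map_of_injective (K := B) (f := (MulAut.conj g).toMonoidHom)
    (MulAut.conj g).injective]
  exact hA.2.2 _ hg (Thompson.isElementaryAbelian_map _ hBe)

theorem thompson_le_thompson {L T : Subgroup G} (hT : Cfsg.IsSylowTwoIn T L) :
    Cfsg.thompsonSubgroupOf 2 T ≤ Cfsg.thompsonSubgroupOf 2 L := by
  rw [Thompson.thompsonSubgroupOf_eq 2 T]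
  exact sSup_le fun A hA => Thompson.le_thompsonSubgroupOf (isMax_of_sylowTwoIn hT hA)

/-- A 2-subgroup of `L` containing `J(T)` has Thompson subgroup `J(T)`. -/
theorem thompson_eq {L T S : Subgroup G} (hT : Cfsg.IsSylowTwoIn T L) (hSL : S ≤ L)
    (hS : IsPGroup 2 S) (hJS : Cfsg.thompsonSubgroupOf 2 T ≤ S) :
    Cfsg.thompsonSubgroupOf 2 S = Cfsg.thompsonSubgroupOf 2 T := by
  obtain ⟨g, -, hg⟩ := exists_conj_le hT hSL hS
  obtain ⟨A, hA⟩ := Thompson.exists_isMaxEAIn 2 T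
  have hmax : ∀ B, Thompson.IsMaxEAIn 2 T B → Thompson.IsMaxEAIn 2 S B := fun B hB =>
    ⟨(Thompson.le_thompsonSubgroupOf hB).trans hJS, hB.2.1, fun D hD hDe =>
      (isMax_of_sylowTwoIn hT hB).2.2 D (hD.trans hSL) hDe⟩
  have hle : Cfsg.thompsonSubgroupOf 2 T ≤ Cfsg.thompsonSubgroupOf 2 S := by
    rw [Thompson.thompsonSubgroupOf_eq 2 T]
    exact sSup_le fun B hB => Thompson.le_thompsonSubgroupOf (hmax B hB)
  refine (Subgroup.eq_of_le_of_card_ge hle ?_).symm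
  rw [← Subgroup.card_map_of_injective (K := Cfsg.thompsonSubgroupOf 2 S)
    (f := (MulAut.conj g).toMonoidHom) (MulAut.conj g).injective,
    ← Thompson.thompsonSubgroupOf_map_of_injective _ _ (MulAut.conj g).injective]
  refine Subgroup.card_le_of_le ?_
  rw [Thompson.thompsonSubgroupOf_eq, Thompson.thompsonSubgroupOf_eq 2 T]
  refine sSup_le fun B hB => le_sSup ⟨hB.1.trans hg, hB.2.1, fun D hD hDe => ?_⟩
  have h1 := hA.2.2 D hD hDe
  have h2 := hB.2.2 (A.map (MulAut.conj g).toMonoidHom) (Subgroup.map_mono (hmax A hA).1)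
    (Thompson.isElementaryAbelian_map _ hA.2.1)
  rw [Subgroup.card_map_of_injective (K := A) (f := (MulAut.conj g).toMonoidHom)
    (MulAut.conj g).injective] at h2
  exact h1.trans h2

theorem exists_loc (Z : ZN G) {L T : Subgroup G} (hT2 : IsPGroup 2 T) (hT1 : T ≠ ⊥)
    (hLT : L ∈ Cfsg.jOvergroups T) : ∃ V C Aa P, Loc L T V C Aa P := by
  haveI : Fact (Nat.Prime 2) := ⟨Nat.prime_two⟩
  obtain ⟨hT, hJO, hcent⟩ := hLT
  set P := Cfsg.pCoreOf 2 L with hP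
  have hP2 : IsPGroup 2 P := CharP.opIn_isPGroup L
  have hP1 : P ≠ ⊥ := by
    intro h
    apply hT1
    rw [h] at hcent
    rw [← le_bot_iff]
    refine le_trans (fun x _ => Subgroup.mem_centralizer_iff.2 fun y hy => ?_) hcent
    rw [SetLike.mem_coe, Subgroup.mem_bot] at hy
    rw [hy, one_mul, mul_one]
  haveI hsN : Group.IsSolvable ↥(Subgroup.normalizer (P : Set G)) := Z.hN _ ⟨P, hP2, hP1, rfl⟩
  have hLN : L ≤ Subgroup.normalizer (P : Set G) := CharP.le_normalizer_opIn L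
  haveI hsol : Group.IsSolvable L := Group.isSolvable_of_isSolvable_injective (Subgroup.inclusion_injective hLN)
  have hsep : Cfsg.IsPSolvable 2 L := PSolvable.of_solvable hsol
  have hO : Cfsg.pPrimeCore 2 L = ⊥ := by
    set D := (Cfsg.pPrimeCore 2 L).map L.subtype with hD
    have hcD : (Nat.card D).Coprime 2 := by
      rw [hD, Subgroup.card_map_of_injective L.subtype_injective]
      exact PBasic.pPrimeCore_coprime 2 L
    have hDP : D ⊓ P = ⊥ := PBasic.inf_eq_bot_of_coprime hcD hP2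
    have hDle : D ≤ P := by
      refine le_trans (Subgroup.commutator_eq_bot_iff_le_centralizer.1 ?_) hcent
      rw [← le_bot_iff, ← hDP, Subgroup.commutator_le]
      rintro d hd x hx
      obtain ⟨d', hd', rfl⟩ := hd
      have hxL : x ∈ L := CharP.opIn_le L hx
      constructor
      · refine ⟨d' * (⟨x, hxL⟩ * d'⁻¹ * (⟨x, hxL⟩ : L)⁻¹), mul_mem hd'
          ((Cfsg.pPrimeCore_normal 2 L).conj_mem _ (inv_mem hd') _), ?_⟩
        simp [commutatorElement_def, mul_assoc]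
      · rw [commutatorElement_def]
        exact mul_mem ((Subgroup.mem_normalizer_iff.1 (hLN d'.2) x).1 hx) (Subgroup.inv_mem _ hx)
    have := le_antisymm (le_inf le_rfl hDle : D ≤ D ⊓ P) inf_le_left
    rw [hDP, hD] at this
    exact (Subgroup.map_eq_bot_iff_of_injective _ L.subtype_injective).1 this
  have hZL : ∀ S : Sylow 2 L, Subgroup.centralizer (Cfsg.omegaCenterOf (S : Subgroup L) : Set L) ≤
      Subgroup.normalizer ((S : Subgroup L) : Set L) := by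
    intro S g hg
    obtain ⟨SG, hSG⟩ := (S.isPGroup'.map L.subtype).exists_le_sylow
    have hPS : P ≤ (S : Subgroup L).map L.subtype :=
      Subgroup.map_mono (PBasic.pCore_le_sylow S)
    have hgN : (g : G) ∈ Subgroup.normalizer ((SG : Subgroup G) : Set G) := by
      apply Z.hZ SG
      rw [Cfsg.omegaCenterOf, Cfsg.omegaOne, Subgroup.centralizer_closure,
        Subgroup.mem_centralizer_iff]
      rintro x ⟨⟨hxS, hxc⟩, hx2⟩
      have hxP : x ∈ P := hcent (Subgroup.centralizer_le (hPS.trans hSG) hxc)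
      obtain ⟨x', hx', rfl⟩ := hPS hxP
      have hmem : x' ∈ Cfsg.omegaCenterOf (S : Subgroup L) :=
        OmegaOne.mem ⟨hx', Subgroup.mem_centralizer_iff.2 fun s hs =>
          Subtype.ext (Subgroup.mem_centralizer_iff.1 hxc (s : G) (hSG ⟨s, hs, rfl⟩))⟩
          (Subtype.ext hx2)
      exact congrArg Subtype.val (Subgroup.mem_centralizer_iff.1 hg x' hmem)
    have heq : ((SG : Subgroup G).subgroupOf L) = (S : Subgroup L) :=
      S.is_maximal' SG.isPGroup'.comap_subtype fun s hs => hSG ⟨s, hs, rfl⟩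
    rw [Subgroup.mem_normalizer_iff]
    intro s
    rw [← heq, Subgroup.mem_subgroupOf, Subgroup.mem_subgroupOf]
    exact Subgroup.mem_normalizer_iff.1 hgN s
  obtain ⟨V, C, Aa, S⟩ := exists_struct hsep hO hZL
  have hmax : ∀ A : Subgroup G, Thompson.IsMaxEAIn 2 L A →
      Thompson.IsMaxEAIn 2 ⊤ (A.subgroupOf L) := fun A hA => by
    refine (Thompson.isMaxEAIn_map_iff L.subtype L.subtype_injective.injOn le_top).1 ?_
    rw [← MonoidHom.range_eq_map, Subgroup.range_subtype, Subgroup.map_subgroupOf_eq_of_le hA.1]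
    exact hA
  have hn : ∀ N : Subgroup L, N.Normal → L ≤ Subgroup.normalizer ((N.map L.subtype : Subgroup G) : Set G) :=
    fun N hN => AxB.le_normalizer_map_subtype hN
  have hmemC : ∀ {x : L}, x ∈ C → (x : G) ∈ C.map L.subtype := fun h => ⟨_, h, rfl⟩
  have hmemC' : ∀ {x : L}, (x : G) ∈ C.map L.subtype → x ∈ C := fun {x} h =>
    (Subgroup.mem_map_iff_mem L.subtype_injective).1 h
  refine ⟨V.map L.subtype, C.map L.subtype, Aa.map L.subtype, P, hP2, Subgroup.map_mono S.hVP,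
    Subgroup.map_mono S.hPC, Subgroup.map_mono S.hCA, Subgroup.map_subtype_le _,
    Thompson.isElementaryAbelian_map _ S.hV, ?_, hLN, hn _ S.hVn, hn _ S.hAn, rfl, hT,
    ?_, ?_, ?_, ?_, ?_, ?_, ?_, ?_⟩
  · ext x
    constructor
    · rintro ⟨c, hc, rfl⟩
      refine ⟨c.2, Subgroup.mem_centralizer_iff.2 ?_⟩
      rintro _ ⟨v, hv, rfl⟩
      rw [S.hC] at hc
      exact congrArg Subtype.val (Subgroup.mem_centralizer_iff.1 hc v hv)
    · rintro ⟨hxL, hxc⟩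
      refine ⟨⟨x, hxL⟩, ?_, rfl⟩
      rw [S.hC]
      exact Subgroup.mem_centralizer_iff.2 fun v hv =>
        Subtype.ext (Subgroup.mem_centralizer_iff.1 hxc _ ⟨v, hv, rfl⟩)
  · rintro _ ⟨c, hc, rfl⟩ u hu ⟨k, hk⟩
    exact ⟨_, S.comm_two c hc ⟨u, hu⟩ ⟨k, by rw [Subgroup.orderOf_mk]; exact hk⟩, rfl⟩
  · rintro _ ⟨c, hc, rfl⟩ ⟨k, hk⟩
    exact ⟨_, S.two_mem c hc ⟨k, by rw [← Subgroup.orderOf_coe]; exact hk⟩, rfl⟩
  · rintro _ ⟨g, hg, rfl⟩ ho
    exact ⟨g, S.odd_mem g hg (by rw [← Subgroup.orderOf_coe]; exact ho), rfl⟩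
  · rintro _ ⟨g, hg, rfl⟩
    exact ⟨g * g, S.sq_mem g hg, rfl⟩
  · rintro _ ⟨x, hx, rfl⟩
    exact ⟨x ^ 3, S.cube_mem x hx, rfl⟩
  · rintro _ ⟨x, hx, rfl⟩ _ ⟨y, hy, rfl⟩
    exact ⟨⁅x, y⁆, S.comm_mem x hx y hy, by simp [commutatorElement_def]⟩
  · rintro A hA g hg ⟨a, ha, hga⟩
    obtain ⟨t, ht, hgt, z, hz⟩ := S.transvection _ (hmax A hA) ⟨g, hg⟩
      ⟨⟨a, hA.1 ha⟩, ha, fun h => hga (hmemC h)⟩
    refine ⟨t, ht, fun h => hgt (hmemC' h), z, ?_⟩
    rintro _ ⟨v, hv, rfl⟩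
    exact (hz v hv).imp (fun h => congrArg Subtype.val h) fun h => congrArg Subtype.val h
  · intro A hA hAC
    obtain ⟨t, ht, y, hy, hyJ, hyC, hty, hj⟩ := S.exists_pair _ (hmax A hA)
      (fun h => hAC fun a ha => hmemC (h (show (⟨a, hA.1 ha⟩ : L) ∈ A.subgroupOf L from ha)))
    refine ⟨t, ht, y, ⟨y, hy, rfl⟩, ⟨y, hyJ, rfl⟩, fun h => hyC (hmemC' h), hmemC hty, ?_⟩
    rintro _ ⟨j, hj', rfl⟩
    exact (hj j hj').imp hmemC hmemC

/-! ### inside a member of `ℒ(T)` -/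

namespace Loc

variable {L T V C Aa P : Subgroup G} (X : Loc L T V C Aa P)
include X

theorem hPL : P ≤ L := X.hPC.trans (X.hCA.trans X.hAL)

theorem hCL : C ≤ L := X.hCA.trans X.hAL

theorem P_le_T : P ≤ T := by
  obtain ⟨g, hg, hle⟩ := exists_conj_le X.hT X.hPL X.hP
  exact (Subgroup.mem_normalizer_iff_map_conj_eq.1 (X.hPn hg)).ge.trans hle

theorem Pnormal : (P.subgroupOf L).Normal :=
  (Subgroup.normal_subgroupOf_iff_le_normalizer X.hPL).2 X.hPn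

theorem mem_P_of_pow {c : G} (hc : c ∈ C) {k : ℕ} (h : c ^ (2 ^ k) ∈ P) : c ∈ P := by
  obtain ⟨i, m, hm, hcm⟩ :=
    Nat.exists_eq_pow_mul_and_not_dvd (orderOf_pos c).ne' 2 (by norm_num)
  refine mem_of_coprime_pow (m := m) (Nat.Coprime.pow_right k
    ((Nat.prime_two.coprime_iff_not_dvd.2 hm).symm)) (X.two_mem _ (pow_mem hc m) ⟨i, ?_⟩) h
  have hm0 : m ≠ 0 := by intro h; rw [h] at hm; exact hm (dvd_zero 2)
  rw [orderOf_pow' c hm0, hcm, Nat.gcd_eq_right (dvd_mul_left _ _),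
    Nat.mul_div_cancel _ (Nat.pos_of_ne_zero hm0)]

theorem mem_C_of_pow {x : G} (hx : x ∈ Aa) {k : ℕ} (h : x ^ (2 ^ k) ∈ C) : x ∈ C :=
  mem_of_coprime_pow ((by norm_num : Nat.Coprime 3 2).pow_right k) (X.cube_mem x hx) h

theorem two_mem_Aa {x : G} (hx : x ∈ Aa) (h : ∃ k, orderOf x = 2 ^ k) : x ∈ P := by
  obtain ⟨k, hk⟩ := h
  refine X.two_mem x (X.mem_C_of_pow hx (k := k) ?_) ⟨k, hk⟩
  rw [← hk, pow_orderOf_eq_one]
  exact one_mem _

theorem comm_J {c g : G} (hc : c ∈ C) (hg : g ∈ Cfsg.thompsonSubgroupOf 2 L) : ⁅c, g⁆ ∈ P := by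
  haveI : Fact (Nat.Prime 2) := ⟨Nat.prime_two⟩
  haveI := X.Pnormal
  set π := QuotientGroup.mk' (P.subgroupOf L) with hπ
  set S0 := ((Subgroup.centralizer ({π ⟨c, X.hCL hc⟩} : Set (L ⧸ P.subgroupOf L))).comap π).map
    L.subtype with hS0
  have hle : Cfsg.thompsonSubgroupOf 2 L ≤ S0 := by
    rw [Thompson.thompsonSubgroupOf_eq]
    refine sSup_le fun A hA u hu => ⟨⟨u, hA.1 hu⟩, ?_, rfl⟩
    obtain ⟨k, hk⟩ := IsPGroup.iff_orderOf.1 (FF.isPGroup_of_ea hA.2.1) ⟨u, hu⟩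
    rw [Subgroup.orderOf_mk] at hk
    have h1 : ⁅(⟨c, X.hCL hc⟩ : L), (⟨u, hA.1 hu⟩ : L)⁆ ∈ P.subgroupOf L :=
      X.comm_two c hc u (hA.1 hu) ⟨k, hk⟩
    rw [← QuotientGroup.eq_one_iff] at h1
    change π _ = 1 at h1
    rw [map_commutatorElement, commutatorElement_eq_one_iff_mul_comm] at h1
    exact Subgroup.mem_centralizer_singleton_iff.2 h1.symm
  obtain ⟨g', hg', rfl⟩ := hle hg
  have h2 := Subgroup.mem_centralizer_singleton_iff.1 hg'
  have h3 : π ⁅(⟨c, X.hCL hc⟩ : L), g'⁆ = 1 := by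
    rw [map_commutatorElement, commutatorElement_eq_one_iff_mul_comm]; exact h2.symm
  exact (QuotientGroup.eq_one_iff (N := P.subgroupOf L) ⁅(⟨c, X.hCL hc⟩ : L), g'⁆).1 h3

variable {K A : Subgroup G} {a y : G}

theorem J_le : Cfsg.thompsonSubgroupOf 2 T ≤ L := (Thompson.thompsonSubgroupOf_le 2 T).trans X.hT.1

theorem K_le_J (hK : Pre T K) (hKL : K ≤ L) : K ≤ Cfsg.thompsonSubgroupOf 2 L := by
  rw [← hK.hKJ, Subgroup.commutator_le]
  intro g hg j hj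
  rw [commutatorElement_def]
  exact mul_mem ((Subgroup.mem_normalizer_iff.1
    (Thompson.normalizer_le_normalizer_thompsonSubgroupOf 2 L (Subgroup.le_normalizer (hKL hg))) j).1
    (thompson_le_thompson X.hT hj)) (inv_mem (thompson_le_thompson X.hT hj))

theorem K_le_Aa (hK : Pre T K) (hKL : K ≤ L) : K ≤ Aa := by
  rw [← hK.hgen, Subgroup.closure_le]
  exact fun g hg => X.odd_mem g (X.K_le_J hK hKL hg.1) hg.2

theorem core_le_P (hK : Pre T K) (hKL : K ≤ L) : Cfsg.pCoreOf 2 K ≤ P := by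
  intro q hq
  obtain ⟨k, hk⟩ := IsPGroup.iff_orderOf.1 hK.isPGroup_core ⟨q, hq⟩
  exact X.two_mem_Aa (X.K_le_Aa hK hKL (hK.core_le hq)) ⟨k, by rwa [Subgroup.orderOf_mk] at hk⟩

theorem inf_le_core (hK : Pre T K) (hKL : K ≤ L) : K ⊓ P ≤ Cfsg.pCoreOf 2 K := by
  refine CharP.le_opIn inf_le_left ?_ (X.hP.to_le inf_le_right)
  rw [Subgroup.le_normalizer_iff]
  intro g hg x hx
  exact ⟨mul_mem (mul_mem hg hx.1) (inv_mem (s := K) hg),
    (Subgroup.mem_normalizer_iff.1 (X.hPn (hKL hg)) x).1 hx.2⟩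

theorem y_notMem (F : Frame T K A a y) (hKL : K ≤ L) : y ∉ C := by
  intro hy
  apply F.sq_notMem
  have haL : a ∈ L := (isMax_of_sylowTwoIn X.hT F.hA).1 F.ha
  have h : ⁅y, a⁆ ∈ P := X.comm_two y hy a haL
    (by
      have h2 : orderOf a ∣ 2 ^ 1 := orderOf_dvd_of_pow_eq_one (by simpa using F.hA.2.1.2 a F.ha)
      obtain ⟨k, -, hk⟩ := (Nat.dvd_prime_pow Nat.prime_two).1 h2
      exact ⟨k, hk⟩)
  rw [commutatorElement_def, show y * a * y⁻¹ * a⁻¹ = y * (a * y⁻¹ * a⁻¹) by group, F.inv_conj] at h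
  exact X.inf_le_core F.pre hKL ⟨mul_mem F.hy F.hy, h⟩

theorem P_le_normalizer (Z : ZN G) (hT1 : T ≠ ⊥) (hK : Cfsg.IsJComponent T K) (hKL : K ≤ L) :
    P ≤ Subgroup.normalizer (K : Set G) :=
  S2941.result Z.hL Z.hN Z.hZ T X.hT.2.1 hT1 K hK P ((sup_le hKL X.J_le).trans X.hPn)
    (X.P_le_T.trans (Subgroup.le_normalizer.trans
      (Thompson.normalizer_le_normalizer_thompsonSubgroupOf 2 T)))

/-- `[V, y] ≤ W_K ≤ V`. -/
theorem W_facts (Z : ZN G) (hT1 : T ≠ ⊥) (hK : Cfsg.IsJComponent T K)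
    (F : Frame T K A a y) (hKL : K ≤ L) :
    (∀ v ∈ V, y * v * y⁻¹ * v⁻¹ ∈ Cfsg.wOf K) ∧ Cfsg.wOf K ≤ V := by
  have hW4 : Nat.card (Cfsg.wOf K) = 4 := hK.2.2.2.2.1
  set f : G → G := fun v => y * v * y⁻¹ * v⁻¹ with hf
  have hyL : y ∈ L := hKL F.hy
  have hconj : ∀ v ∈ V, y * v * y⁻¹ ∈ V := fun v hv => (Subgroup.mem_normalizer_iff.1 (X.hVn hyL) v).1 hv
  have hfV : ∀ v ∈ V, f v ∈ V := fun v hv => mul_mem (hconj v hv) (inv_mem hv)
  have hVc : ∀ u ∈ V, ∀ v ∈ V, u * v = v * u := fun u hu v hv =>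
    Thompson.commute_of_isElementaryAbelian X.hV hu hv
  have homega : ∀ v ∈ V, f v ∈ Cfsg.omegaCenterOf (Cfsg.pCoreOf 2 K) := by
    intro v hv
    have hPN := X.P_le_normalizer Z hT1 hK hKL
    have hfK : f v ∈ K := by
      have h1 : v * y⁻¹ * v⁻¹ ∈ K :=
        (Subgroup.mem_normalizer_iff.1 (hPN (X.hVP hv)) _).1 (inv_mem F.hy)
      simpa [hf, mul_assoc] using mul_mem F.hy h1
    have hfQ : f v ∈ Cfsg.pCoreOf 2 K := X.inf_le_core F.pre hKL ⟨hfK, X.hVP (hfV v hv)⟩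
    refine OmegaOne.mem ⟨hfQ, Subgroup.mem_centralizer_iff.2 fun q hq => ?_⟩ (X.hV.2 _ (hfV v hv))
    have hqC : q ∈ C := X.hPC (X.core_le_P F.pre hKL hq)
    rw [X.hC] at hqC
    exact (Subgroup.mem_centralizer_iff.1 hqC.2 _ (hfV v hv)).symm
  have hfinj : ∀ x ∈ V, ∀ u ∈ V, x = f u → y * x * y⁻¹ = x → x = 1 := by
    intro x hx u hu hxu hfix
    have key : ∀ n : ℕ, y ^ n * u * (y ^ n)⁻¹ = x ^ n * u := by
      intro n
      induction n with
      | zero => simp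
      | succ n ih =>
        calc y ^ (n + 1) * u * (y ^ (n + 1))⁻¹ = y * (y ^ n * u * (y ^ n)⁻¹) * y⁻¹ := by
              rw [pow_succ']; group
          _ = (y * x * y⁻¹) ^ n * (y * u * y⁻¹) := by rw [ih, conj_pow]; group
          _ = x ^ (n + 1) * u := by rw [hfix, pow_succ, hxu, hf]; group
    have h1 := key (orderOf y)
    rw [pow_orderOf_eq_one, inv_one, one_mul, mul_one, eq_comm, mul_eq_right] at h1
    obtain ⟨k, hk⟩ := F.hyo
    rwa [hk, pow_succ, pow_mul, X.hV.2 x hx, one_pow, one_mul] at h1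
  let φ : V →* V :=
    { toFun := fun v => ⟨f v, hfV v v.2⟩
      map_one' := Subtype.ext (by simp [hf])
      map_mul' := fun u v => Subtype.ext (by
        show f (u * v) = f u * f v
        simp only [hf]
        calc y * ((u : G) * v) * y⁻¹ * ((u : G) * v)⁻¹
            = (y * u * y⁻¹) * ((y * v * y⁻¹ * (v : G)⁻¹) * (u : G)⁻¹) := by group
          _ = (y * u * y⁻¹) * ((u : G)⁻¹ * (y * v * y⁻¹ * (v : G)⁻¹)) := by
              rw [hVc _ (hfV v v.2) _ (inv_mem u.2)]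
          _ = _ := by group) }
  have hrestr : Function.Injective (fun r : φ.range => (⟨φ r, (r : V), rfl⟩ : φ.range)) := by
    intro r s h
    have h' : φ r = φ s := congrArg Subtype.val h
    have h1 : φ ((s : V)⁻¹ * r) = 1 := by rw [map_mul, map_inv, h', inv_mul_cancel]
    obtain ⟨u, hu⟩ := mul_mem (inv_mem s.2) r.2
    have h2 : (((s : V)⁻¹ * r : V) : G) = 1 := by
      refine hfinj _ (SetLike.coe_mem _) u u.2 (congrArg Subtype.val hu.symm) ?_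
      exact mul_inv_eq_one.1 (congrArg Subtype.val h1)
    exact Subtype.ext (inv_mul_eq_one.1 (Subtype.ext h2 : (s : V)⁻¹ * r = 1)).symm
  have hW1 : ∀ v ∈ V, f v ∈ Cfsg.wOf K := by
    intro v hv
    obtain ⟨⟨_, ⟨u, rfl⟩⟩, hu⟩ := Finite.surjective_of_injective hrestr ⟨φ ⟨v, hv⟩, ⟨v, hv⟩, rfl⟩
    have h1 : f (f u) = f v := congrArg (fun r : φ.range => ((r : V) : G)) hu
    rw [← h1]
    exact F.mem_W (homega u u.2)
  refine ⟨hW1, ?_⟩
  obtain ⟨v, hv, hv1⟩ : ∃ v ∈ V, f v ≠ 1 := by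
    by_contra hcon
    push Not at hcon
    apply X.y_notMem F hKL
    rw [X.hC]
    refine ⟨hyL, Subgroup.mem_centralizer_iff.2 fun v hv => ?_⟩
    exact (mul_inv_eq_iff_eq_mul.1 (mul_inv_eq_one.1 (hcon v hv))).symm
  set x := f v with hx
  have hxW := hW1 v hv
  have hxy : y * x * y⁻¹ ≠ x := fun h => hv1 (hfinj x (hfV v hv) v hv rfl h)
  intro w hw
  have hle : Cfsg.wOf K ⊓ V = Cfsg.wOf K := by
    refine Subgroup.eq_of_le_of_card_ge inf_le_left ?_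
    have hd : Nat.card ↥(Cfsg.wOf K ⊓ V) ∣ 4 := hW4 ▸ Subgroup.card_dvd_of_le inf_le_left
    have h3 : 2 < Nat.card ↥(Cfsg.wOf K ⊓ V) := by
      let g3 : Fin 3 → ↥(Cfsg.wOf K ⊓ V) := ![1, ⟨x, hxW, hfV v hv⟩,
        ⟨y * x * y⁻¹, F.conjW (Subgroup.le_normalizer F.hy) hxW, hconj x (hfV v hv)⟩]
      have hg : Function.Injective g3 := by
        intro i j hij
        have hij' := congrArg (Subtype.val) hij
        fin_cases i <;> fin_cases j <;> first | rfl | (exfalso; simp [g3] at hij')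
        all_goals first
          | exact hv1 hij' | exact hv1 hij'.symm | exact hxy hij' | exact hxy hij'.symm
          | exact hv1 (conj_eq_one_iff.1 hij') | exact hv1 (conj_eq_one_iff.1 hij'.symm)
      have := Nat.card_le_card_of_injective g3 hg
      rw [Nat.card_fin] at this
      omega
    have := Nat.le_of_dvd (by norm_num) hd
    rcases (show Nat.card ↥(Cfsg.wOf K ⊓ V) = 3 ∨ Nat.card ↥(Cfsg.wOf K ⊓ V) = 4 by omega) with h | h
    · rw [h] at hd; norm_num at hd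
    · omega
  exact (hle.ge hw).2

end Loc

end Cfsg.Agent.JComp
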