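import Cfsg.Agent.Lib.JComp.SylowCase

/-!
The lonely case is impossible: every component has a companion.
-/

set_option autoImplicit false
set_option linter.style.haveILetI false
set_option linter.unusedSectionVars false
open scoped commutatorElement Pointwise

namespace Cfsg.Agent.JComp

open Cfsg.Agent

universe u

variable {G : Type u} [Group G] [Finite G]

namespace Duo

variable {T M K K₂ : Subgroup G} {w : G} (E : Setting T M) (D : Duo T M K K₂ w)
include E D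

theorem local_le {N : Subgroup G} (hN : Cfsg.IsTwoLocal N)
    (hKN : K ⊔ Cfsg.thompsonSubgroupOf 2 T ≤ N) :
    N ≤ Subgroup.normalizer (Cfsg.wOf K : Set G) := by
  have hEg : sSup (Setting.family T K) ⊔ Cfsg.thompsonSubgroupOf 2 T =
      K ⊔ Cfsg.thompsonSubgroupOf 2 T :=
    le_antisymm (sup_le_sup_right (sSup_le fun K' h => (D.single E K' h).le) _)
      (sup_le_sup_right (le_sSup (Setting.self_mem D.o1.comp)) _)
  have h := E.le_normalizer_family D.o1.comp D.o1.notLe hN hKN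
  rw [hEg] at h
  exact h.trans ((normalizer_sup_le E.two D.o1.comp).trans (normalizer_le_wOf K))

/-- The other involutions of `Ω₁(Z(J(T)))` are centralized by one of the components. -/
theorem mem_c0_cases {z : G} (hz : z ∈ zJ T) (hz1 : z ≠ 1) (hzw : z ≠ w) :
    z ∈ c0 T K ∨ z ∈ c0 T K₂ := by
  obtain ⟨hceq, hc2, -⟩ := E.card_bound D.o1 D.o2 D.ne
  have hzc := card_zJ E.two D.o1.comp
  by_cases hc : Nat.card (c0 T K) ≤ 1
  · have : 0 < Nat.card (c0 T K) := Nat.card_pos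
    exact absurd (eq_of_card_two (C := zJ T) (by omega) hz D.m1.1 hz1 D.w1) hzw
  obtain ⟨c, hcm, hc1⟩ := (Subgroup.nontrivial_iff_exists_ne_one _).1
    (Finite.one_lt_card_iff_nontrivial.1 (show 1 < Nat.card (c0 T K) by omega))
  obtain ⟨c', hc'm, hc'1⟩ := (Subgroup.nontrivial_iff_exists_ne_one _).1
    (Finite.one_lt_card_iff_nontrivial.1 (show 1 < Nat.card (c0 T K₂) by omega))
  have hcc : c ≠ c' := fun h =>
    D.ne (E.family_eq_of_c0 D.o1.comp D.o1.notLe D.o2.comp hcm (h ▸ hc'm) hc1).symm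
  have hz4 : Nat.card (zJ T) = 4 := by omega
  rcases four_list (zJ_ea T) hz4 hcm.1 hc'm.1 hz hc1 hc'1 hcc with h | h | h | h
  · exact absurd h hz1
  · exact Or.inl (h ▸ hcm)
  · exact Or.inr (h ▸ hc'm)
  exfalso
  rcases four_list (zJ_ea T) hz4 hcm.1 hc'm.1 D.m1.1 hc1 hc'1 hcc with e | e | e | e
  · exact D.w1 e
  · refine hc1 (?_ : c = 1)
    have : c ∈ c0 T K ⊓ Cfsg.wOf K := ⟨hcm, e ▸ D.m1.2⟩
    rwa [c0_inf E.two D.o1.comp, Subgroup.mem_bot] at this
  · refine hc'1 (?_ : c' = 1)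
    have : c' ∈ c0 T K₂ ⊓ Cfsg.wOf K₂ := ⟨hc'm, e ▸ D.m2.2⟩
    rwa [c0_inf E.two D.o2.comp, Subgroup.mem_bot] at this
  · exact hzw (h.trans e.symm)

/-- The centralizer of a nontrivial element of `c₀` has Sylow 2-subgroups no larger than `T`. -/
theorem exists_conj_le_T {d : G} (hd : d ∈ c0 T K) (hd1 : d ≠ 1) {X : Subgroup G}
    (hX : IsPGroup 2 X) (hXd : X ≤ Subgroup.centralizer ({d} : Set G)) :
    ∃ h : G, X.map (MulAut.conj h).toMonoidHom ≤ T := by
  have hle : Subgroup.centralizer ({d} : Set G) ≤ Subgroup.normalizer (Cfsg.wOf K : Set G) :=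
    D.local_le E (centralizer_isTwoLocal (zJ_sq hd.1) hd1) fun g hg =>
      Subgroup.mem_centralizer_singleton_iff.2 (c0_comm_sup E.two D.o1.comp hd hg)
  obtain ⟨h, -, hh⟩ := exists_conj_le (D.normalizer_W_maximal E).2.2.1.1 (hXd.trans hle) hX
  exact ⟨h, hh⟩

/-- An involution in one of the elementary abelian subgroups outside its fours-group is conjugate
into one of the `c₀`. -/
theorem exists_conj_c0 {u : G} (hu : u ∈ Cfsg.wOf K ⊔ zJ T) (hu' : u ∉ Cfsg.wOf K) :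
    ∃ k d : G, (d ∈ c0 T K ∨ d ∈ c0 T K₂) ∧ d ≠ 1 ∧ u = k * d * k⁻¹ := by
  obtain ⟨e, he, z, hz, rfl⟩ : ∃ e ∈ Cfsg.wOf K, ∃ z ∈ zJ T, u = e * z :=
    Amalgam.mem_sup_of_comm (fun x hx => Subgroup.mem_centralizer_iff.2 fun s hs =>
      D.zJ_central E s (D.W_le E hs) x hx) hu
  have hz1 : z ≠ 1 := fun h => hu' (by rw [h, mul_one]; exact he)
  have hzw : z ≠ w := fun h => hu' (by rw [h]; exact mul_mem he D.m1.2)
  have hww : w * w = 1 := zJ_sq D.m1.1
  have hne : ∀ x, x ≠ 1 → x ≠ w → w * x ≠ 1 ∧ w * x ≠ w := fun x h1 h2 =>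
    ⟨fun h => h2 (mul_left_cancel (h.trans hww.symm)), fun h => h1 (mul_eq_left.1 h)⟩
  obtain ⟨f, hf, d, hd, hd1, hdw, hud⟩ : ∃ f ∈ Cfsg.wOf K, ∃ d ∈ c0 T K, d ≠ 1 ∧ d ≠ w ∧
      e * z = f * d := by
    rcases D.mem_c0_cases E hz hz1 hzw with h | h
    · exact ⟨e, he, z, h, hz1, hzw, rfl⟩
    obtain ⟨h1, h2⟩ := hne z hz1 hzw
    rcases D.mem_c0_cases E (mul_mem D.m1.1 hz) h1 h2 with h' | h'
    · refine ⟨e * w, mul_mem he D.m1.2, w * z, h', h1, h2, ?_⟩
      rw [show e * w * (w * z) = e * (w * w) * z by group, hww, mul_one]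
    exfalso
    apply D.w1
    have hc : Nat.card (c0 T K₂) = 2 := by
      obtain ⟨hceq, hc2, -⟩ := E.card_bound D.o1 D.o2 D.ne
      have : 1 < Nat.card (c0 T K₂) := Finite.one_lt_card_iff_nontrivial.2
        ((Subgroup.nontrivial_iff_exists_ne_one _).2 ⟨z, h, hz1⟩)
      omega
    exact mul_eq_right.1 (eq_of_card_two hc h' h h1 hz1)
  rw [hud]
  by_cases hf1 : f = 1
  · exact ⟨1, d, Or.inl hd, hd1, by rw [hf1]; group⟩
  obtain ⟨k, hk, hkw⟩ := (D.side E).exists_conj hf hf1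
  obtain ⟨h1, h2⟩ := hne d hd1 hdw
  refine ⟨k, w * d, D.mem_c0_cases E (mul_mem D.m1.1 hd.1) h1 h2, h1, ?_⟩
  have hkd : k * d * k⁻¹ = d := by
    have hle : K ⊔ T ≤ Subgroup.centralizer ({d} : Set G) := sup_le
      (fun x hx => Subgroup.mem_centralizer_singleton_iff.2
        (Subgroup.mem_centralizer_iff.1 hd.2 x hx))
      (fun t ht => Subgroup.mem_centralizer_singleton_iff.2 (D.zJ_central E t ht d hd.1))
    exact mul_inv_eq_iff_eq_mul.2 (Subgroup.mem_centralizer_singleton_iff.1 (hle hk))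
  calc f * d = (k * w * k⁻¹) * (k * d * k⁻¹) := by rw [hkw, hkd]
    _ = k * (w * d) * k⁻¹ := by group

/-- The key step: an involution `u` of a larger 2-group centralized modulo `⟨w⟩`. -/
theorem centralizer_conj {R : Subgroup G} (hR : IsPGroup 2 R) (hTR : T ≤ R) (hRT : ¬ R ≤ T)
    (hRW : ∀ b : Bool, R ⊓ Subgroup.normalizer
      ((if b then Cfsg.wOf K else Cfsg.wOf K₂ : Subgroup G) : Set G) ≤ T)
    (hwR : ∀ t ∈ R, t * w = w * t) {u : G} (huR : u ∈ R) (hu2 : u * u = 1) (hu1 : u ≠ 1)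
    (huw : u ≠ w) (hcomm : ∀ t ∈ R, ⁅t, u⁆ = 1 ∨ ⁅t, u⁆ = w) :
    ∃ h : G, (R ⊓ Subgroup.centralizer ({u} : Set G)).map (MulAut.conj h).toMonoidHom = T := by
  have hww : w * w = 1 := zJ_sq D.m1.1
  have huN : u ∈ Subgroup.normalizer (Cfsg.wOf K : Set G) := by
    rw [Subgroup.mem_normalizer_iff_map_conj_eq]
    refine Subgroup.eq_of_le_of_card_ge ?_ (Subgroup.card_map_of_injective (MulAut.conj u).injective).ge
    rintro _ ⟨e, he, rfl⟩
    show u * e * u⁻¹ ∈ Cfsg.wOf K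
    rw [show u * e * u⁻¹ = ⁅u, e⁆ * e by rw [commutatorElement_def]; group]
    refine mul_mem ?_ he
    rw [← commutatorElement_inv]
    rcases hcomm e (hTR (D.W_le E he)) with h | h <;> rw [h]
    · simp
    · exact inv_mem D.m1.2
  have huT : u ∈ T := hRW true ⟨huR, huN⟩
  obtain ⟨k, d, hd, hd1, hud⟩ : ∃ k d : G, (d ∈ c0 T K ∨ d ∈ c0 T K₂) ∧ d ≠ 1 ∧
      u = k * d * k⁻¹ := by
    have hnot : ∀ b : Bool, u ∉ (if b then Cfsg.wOf K else Cfsg.wOf K₂ : Subgroup G) := by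
      intro b hb
      apply hRT
      refine le_trans ?_ (hRW b)
      refine le_inf le_rfl fun t ht => ?_
      obtain ⟨W, hWdef, S⟩ : ∃ W, W = (if b then Cfsg.wOf K else Cfsg.wOf K₂ : Subgroup G) ∧
          ∃ P', Amalgam.Side T P' W w := by
        cases b
        · exact ⟨_, rfl, _, D.side₂ E⟩
        · exact ⟨_, rfl, _, D.side E⟩
      rw [← hWdef] at hb ⊢
      obtain ⟨P', S⟩ := S
      refine Subgroup.mem_normalizer_iff_map_conj_eq.2 (Subgroup.eq_of_le_of_card_ge ?_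
        (Subgroup.card_map_of_injective (MulAut.conj t).injective).ge)
      rintro _ ⟨x, hx, rfl⟩
      show t * x * t⁻¹ ∈ W
      have htw : t * w * t⁻¹ = w := mul_inv_eq_iff_eq_mul.2 (hwR t ht)
      have htu : t * u * t⁻¹ ∈ W := by
        rw [show t * u * t⁻¹ = ⁅t, u⁆ * u by rw [commutatorElement_def]; group]
        rcases hcomm t ht with h | h <;> rw [h]
        · rwa [one_mul]
        · exact mul_mem S.hw hb
      rcases S.eq_of_mem hb huw hu1 hx with rfl | rfl | rfl | rfl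
      · simp
      · rw [htw]; exact S.hw
      · exact htu
      · rw [show t * (w * u) * t⁻¹ = (t * w * t⁻¹) * (t * u * t⁻¹) by group, htw]
        exact mul_mem S.hw htu
    rcases D.involution_cases E huT hu2 with h | h
    · exact D.exists_conj_c0 E h (hnot true)
    · obtain ⟨k, d, hd, hd1, hud⟩ := D.symm.exists_conj_c0 E h (hnot false)
      exact ⟨k, d, hd.symm, hd1, hud⟩
  set X := R ⊓ Subgroup.centralizer ({u} : Set G) with hX
  have hXd : X.map (MulAut.conj k⁻¹).toMonoidHom ≤ Subgroup.centralizer ({d} : Set G) := by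
    rintro _ ⟨x, hx, rfl⟩
    refine Subgroup.mem_centralizer_singleton_iff.2 ?_
    have h1 := Subgroup.mem_centralizer_singleton_iff.1 hx.2
    show k⁻¹ * x * k⁻¹⁻¹ * d = d * (k⁻¹ * x * k⁻¹⁻¹)
    rw [inv_inv]
    calc k⁻¹ * x * k * d = k⁻¹ * (x * u) * k := by rw [hud]; group
      _ = d * (k⁻¹ * x * k) := by rw [h1, hud]; group
  have hX2 : IsPGroup 2 (X.map (MulAut.conj k⁻¹).toMonoidHom) := (hR.to_le inf_le_left).map _
  obtain ⟨h, hh⟩ : ∃ h : G,
      (X.map (MulAut.conj k⁻¹).toMonoidHom).map (MulAut.conj h).toMonoidHom ≤ T := by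
    rcases hd with hd | hd
    · exact D.exists_conj_le_T E hd hd1 hX2 hXd
    · exact D.symm.exists_conj_le_T E hd hd1 hX2 hXd
  have hle : X.map (MulAut.conj (h * k⁻¹)).toMonoidHom ≤ T := by
    rintro _ ⟨x, hx, rfl⟩
    refine hh ⟨_, ⟨x, hx, rfl⟩, ?_⟩
    simp [mul_assoc]
  refine ⟨h * k⁻¹, Subgroup.eq_of_le_of_card_ge hle ?_⟩
  rw [Subgroup.card_map_of_injective (K := X) (f := (MulAut.conj (h * k⁻¹)).toMonoidHom)
    (MulAut.conj (h * k⁻¹)).injective]
  have h1 := card_mul_relIndex' (inf_le_left : X ≤ R)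
  have h2 : X.relIndex R ≤ 2 := by
    by_cases hall : ∀ t ∈ R, t * u = u * t
    · rw [Subgroup.relIndex_eq_one.2
        (le_inf le_rfl fun t ht => Subgroup.mem_centralizer_singleton_iff.2 (hall t ht))]
      omega
    push Not at hall
    obtain ⟨a, ha, hau⟩ := hall
    refine le_of_eq (Subgroup.relIndex_eq_two_iff_exists_notMem_and.2 ⟨a, ha,
      fun h => hau (Subgroup.mem_centralizer_singleton_iff.1 h.2), fun b hb => ?_⟩)
    have hcj : ∀ t ∈ R, ¬ t * u = u * t → t * u * t⁻¹ = w * u := by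
      intro t ht hne
      rw [show t * u * t⁻¹ = ⁅t, u⁆ * u by rw [commutatorElement_def]; group,
        (hcomm t ht).resolve_left fun h => hne (commutatorElement_eq_one_iff_mul_comm.1 h)]
    by_cases hbu : b * u = u * b
    · exact Or.inr ⟨hb, Subgroup.mem_centralizer_singleton_iff.2 hbu⟩
    refine Or.inl ⟨Subgroup.mul_mem _ hb ha, Subgroup.mem_centralizer_singleton_iff.2
      (mul_inv_eq_iff_eq_mul.1 ?_)⟩
    rw [show b * a * u * (b * a)⁻¹ = b * (a * u * a⁻¹) * b⁻¹ by group, hcj a ha hau,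
      show b * (w * u) * b⁻¹ = (b * w * b⁻¹) * (b * u * b⁻¹) by group,
      mul_inv_eq_iff_eq_mul.2 (hwR b hb), hcj b hb hbu, ← mul_assoc, hww, one_mul]
  have h3 : 2 ≤ T.relIndex R := by
    have h4 : T.relIndex R ≠ 1 := fun h => hRT (Subgroup.relIndex_eq_one.1 h)
    have h5 : T.relIndex R ≠ 0 := fun h => by
      have := card_mul_relIndex' hTR
      have hpos : 0 < Nat.card R := Nat.card_pos
      rw [h, mul_zero] at this
      omega
    omega
  have h4 := card_mul_relIndex' hTR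
  have h5 : Nat.card T * 2 ≤ Nat.card R := h4 ▸ Nat.mul_le_mul_left _ h3
  have h6 : Nat.card R ≤ Nat.card X * 2 := h1 ▸ Nat.mul_le_mul_left _ h2
  omega

end Duo

/-- An element of `V` outside `⟨w⟩` centralized by `R` modulo `⟨w⟩`. -/
theorem exists_central_mod {R V : Subgroup G} (hR : IsPGroup 2 R) (hVR : V ≤ R)
    (hRV : R ≤ Subgroup.normalizer (V : Set G)) {w : G} (hwV : w ∈ V)
    (hw : ∀ t ∈ R, t * w = w * t) (hne : ∃ v ∈ V, v ∉ Subgroup.zpowers w) :
    ∃ u ∈ V, u ∉ Subgroup.zpowers w ∧ ∀ t ∈ R, ⁅t, u⁆ ∈ Subgroup.zpowers w := by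
  haveI : Fact (Nat.Prime 2) := ⟨Nat.prime_two⟩
  set wR : R := ⟨w, hVR hwV⟩ with hwR
  haveI hn : (Subgroup.zpowers wR).Normal := by
    refine ⟨fun x hx g => ?_⟩
    obtain ⟨i, rfl⟩ := Subgroup.mem_zpowers_iff.1 hx
    refine Subgroup.mem_zpowers_iff.2 ⟨i, (eq_mul_inv_iff_mul_eq.2 ?_)⟩
    exact ((show Commute g wR from Subtype.ext (hw g g.2)).zpow_right i).eq.symm
  haveI hVn : (V.subgroupOf R).Normal := (Subgroup.normal_subgroupOf_iff_le_normalizer hVR).2 hRV
  set π := QuotientGroup.mk' (Subgroup.zpowers wR) with hπ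
  haveI hCn : ((V.subgroupOf R).map π).Normal :=
    hVn.map π (QuotientGroup.mk'_surjective _)
  have hz : ∀ x : R, (x : G) ∈ Subgroup.zpowers w ↔ x ∈ Subgroup.zpowers wR := fun x => by
    rw [Subgroup.mem_zpowers_iff, Subgroup.mem_zpowers_iff]
    exact ⟨fun ⟨i, hi⟩ => ⟨i, Subtype.ext (by rw [Subgroup.coe_zpow, hwR]; exact hi)⟩,
      fun ⟨i, hi⟩ => ⟨i, by rw [← hi, Subgroup.coe_zpow]⟩⟩
  have hC1 : (V.subgroupOf R).map π ≠ ⊥ := by
    intro h
    obtain ⟨v, hv, hvz⟩ := hne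
    apply hvz
    have h1 : π ⟨v, hVR hv⟩ ∈ (V.subgroupOf R).map π :=
      Subgroup.mem_map_of_mem π (show (⟨v, hVR hv⟩ : R) ∈ V.subgroupOf R from hv)
    rw [h, Subgroup.mem_bot] at h1
    exact (hz ⟨v, hVR hv⟩).2 ((QuotientGroup.eq_one_iff _).1 h1)
  have hQ : IsPGroup 2 (R ⧸ Subgroup.zpowers wR) := hR.to_quotient _
  have h := inf_centralizer_ne_bot (A := (⊤ : Subgroup (R ⧸ Subgroup.zpowers wR)))
    (hQ.to_subgroup _) (hQ.to_subgroup _) (fun g _ => by
      rw [Subgroup.normalizer_eq_top ((V.subgroupOf R).map π)]; trivial) hC1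
  obtain ⟨q, hq, hq1⟩ := (Subgroup.nontrivial_iff_exists_ne_one _).1
    ((Subgroup.nontrivial_iff_ne_bot _).2 h)
  obtain ⟨u, hu, rfl⟩ := hq.1
  refine ⟨u, hu, fun h' => hq1 ((QuotientGroup.eq_one_iff _).2 ((hz u).1 h')), fun t ht => ?_⟩
  refine (hz ⁅(⟨t, ht⟩ : R), u⁆).2 ((QuotientGroup.eq_one_iff _).1 ?_)
  show π ⁅(⟨t, ht⟩ : R), u⁆ = 1
  rw [map_commutatorElement, commutatorElement_eq_one_iff_mul_comm]
  exact Subgroup.mem_centralizer_iff.1 hq.2 _ (Subgroup.mem_top _)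

theorem zpowers_cases {w x : G} (hw : w * w = 1) (hx : x ∈ Subgroup.zpowers w) : x = 1 ∨ x = w := by
  by_cases hx1 : x = 1
  · exact Or.inl hx1
  by_cases hw1 : w = 1
  · rw [hw1, Subgroup.zpowers_one_eq_bot, Subgroup.mem_bot] at hx
    exact Or.inl hx
  refine Or.inr (eq_of_card_two ?_ hx (Subgroup.mem_zpowers w) hx1 hw1)
  rw [Nat.card_zpowers, orderOf_eq_prime (by rw [pow_two]; exact hw) hw1]

/-- **All components in one family is impossible.** -/
theorem lonely_false {T K : Subgroup G}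
    (E : Setting T (Subgroup.normalizer (Cfsg.thompsonSubgroupOf 2 T : Set G)))
    (P : Sylow 2 G) (hP : (P : Subgroup G) = T)
    (hK : Outer T (Subgroup.normalizer (Cfsg.thompsonSubgroupOf 2 T : Set G)) K)
    (hall : ∀ K', Outer T (Subgroup.normalizer (Cfsg.thompsonSubgroupOf 2 T : Set G)) K' →
      Setting.family T K' = Setting.family T K)
    (hG : Cfsg.pCore 2 G = ⊥) : False := by
  haveI : Fact (Nat.Prime 2) := ⟨Nat.prime_two⟩
  obtain ⟨L, V, C, Aa, P0, X, hLmax, hLT, hKT, hfamL, -⟩ := E.exists_L hK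
  have hTL : T ≤ L := le_sup_right.trans hKT
  have hKL : K ⊔ Cfsg.thompsonSubgroupOf 2 T ≤ L :=
    (sup_le_sup_left (Thompson.thompsonSubgroupOf_le 2 T) K).trans hKT
  have hloc : ∀ N, Cfsg.IsTwoLocal N → T ≤ N → N ≤ L := fun N h1 h2 =>
    two_local_le E P hP hK hall hLmax hKL h1 h2
  have hNJL := normalizer_J_le_of_lonely E P hP hK hall hLmax hKL
  obtain ⟨T', hT'T, hT'⟩ :=
    exists_maxStraddling hLT.1 (exists_straddler E P hP hK hall hLmax hKL hG hLT)
  have hTT' : ¬ T ≤ T' := fun h => by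
    obtain ⟨N, hN, hT'N, hNL⟩ := hT'.1.2.2.2
    exact hNL (hloc N hN (h.trans hT'N))
  have hMP : Subgroup.normalizer (Cfsg.thompsonSubgroupOf 2 (P : Subgroup G) : Set G) ≤ L := by
    rw [hP]; exact hNJL
  have E' : Setting T' L := ⟨E.Z, hT', P, hMP⟩
  obtain ⟨K₁, hK₁⟩ := jComponentsOutside_nonempty E.Z P hMP hT'
  obtain ⟨K₂, w, D⟩ := E'.duo_of_two_step (K := K₁) ⟨hK₁.1.1, hK₁.2.1, hK₁.2.2⟩ E.two hT'T hTT'
  have hRW : ∀ b : Bool, T ⊓ Subgroup.normalizer
      ((if b then Cfsg.wOf K₁ else Cfsg.wOf K₂ : Subgroup G) : Set G) ≤ T' := by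
    intro b
    cases b
    · exact (eq_of_two_le (D.symm.normalizer_W_maximal E').2.2.1.1 (E.two.to_le inf_le_left)
        (le_inf hT'T (D.symm.normalizer_W_maximal E').2.2.1.1.1) inf_le_right).ge
    · exact (eq_of_two_le (D.normalizer_W_maximal E').2.2.1.1 (E.two.to_le inf_le_left)
        (le_inf hT'T (D.normalizer_W_maximal E').2.2.1.1.1) inf_le_right).ge
  -- every central involution of `T` is `w`
  have hzw : ∀ z ∈ T, z * z = 1 → z ≠ 1 → (∀ t ∈ T, t * z = z * t) → z = w := by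
    intro z hz hz2 hz1 hzc
    by_contra hzw
    have hzT' : z ∈ T' := (D.core_eq E').2 (Subgroup.mem_centralizer_iff.2 fun x hx =>
      hzc x (hT'T (D.W_le E' hx)))
    have hzJ : z ∈ zJ T' := mem_zJ_of_central hzT' (fun t ht => hzc t (hT'T ht)) hz2
    have hle : Subgroup.centralizer ({z} : Set G) ≤ L :=
      hloc _ (centralizer_isTwoLocal hz2 hz1)
        fun t ht => Subgroup.mem_centralizer_singleton_iff.2 (hzc t ht)
    rcases D.mem_c0_cases E' hzJ hz1 hzw with h | h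
    · exact D.o1.notLe (le_trans (fun k hk => Subgroup.mem_centralizer_singleton_iff.2
        (Subgroup.mem_centralizer_iff.1 h.2 k hk)) hle)
    · exact D.o2.notLe (le_trans (fun k hk => Subgroup.mem_centralizer_singleton_iff.2
        (Subgroup.mem_centralizer_iff.1 h.2 k hk)) hle)
  obtain ⟨z, hzT, hz1, hz2, hzc⟩ := exists_central_involution E.two E.ne_bot
  have hwc : ∀ t ∈ T, t * w = w * t := by
    rw [← hzw z hzT hz2 hz1 hzc]; exact hzc
  have hwT : w ∈ T := hT'T (D.W_le E' D.m1.2)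
  have hw2 : w * w = 1 := zJ_sq D.m1.1
  obtain ⟨A, a, y, F⟩ := exists_frame (pre_of E.two hK.comp)
  by_cases hsing : ∀ K' ∈ Setting.family T K, K' = K
  · -- `T ≤ N(K)`
    have hTK := E.normalizes_of_single hK hsing
    obtain ⟨w0, hw0, hw01⟩ := exists_w E.two hK.comp
    have hw0T : w0 ∈ T := zJ_le T hw0.1
    have hw0w : w0 = w :=
      hzw w0 hw0T (zJ_sq hw0.1) hw01 fun t ht => fix_w E.two hK.comp hTK hw0 ht
    have hwW : w ∈ Cfsg.wOf K := hw0w ▸ hw0.2
    have S : Amalgam.Side T (K ⊔ T) (Cfsg.wOf K) w :=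
      side_of E.two hK.comp hTK (E.core_le_T hK (Setting.self_mem hK.comp)) hwW D.w1 hwc
    obtain ⟨u, hu, huw, hu1⟩ := S.exists_other
    obtain ⟨h, hh⟩ := D.centralizer_conj E' E.two hT'T hTT' hRW hwc (S.hWT hu) (S.sq hu) hu1 huw
      fun t ht => S.comm_cases ht hu
    have hXeq : T ⊓ Subgroup.centralizer ({u} : Set G) =
        T ⊓ Subgroup.centralizer (Cfsg.wOf K : Set G) := by
      refine le_antisymm (fun t ht => ⟨ht.1, S.fixes_imp ht.1 hu huw hu1
        (Subgroup.mem_centralizer_singleton_iff.1 ht.2)⟩) (inf_le_inf_left _ ?_)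
      exact Subgroup.centralizer_le (Set.singleton_subset_iff.2 hu)
    rw [hXeq] at hh
    obtain ⟨s, hsT', hs⟩ := D.exists_sq E'
    rw [← hh] at hsT'
    obtain ⟨q, hq, rfl⟩ := hsT'
    have hqq : h * (q * q) * h⁻¹ = w := by
      rw [← hs]
      show h * (q * q) * h⁻¹ = h * q * h⁻¹ * (h * q * h⁻¹)
      group
    have hqq1 : q * q ≠ 1 := fun h' => D.w1 (by rw [← hqq, h']; group)
    have hfix : ∀ g ∈ K ⊔ T, g * (q * q) * g⁻¹ = q * q := by
      intro g hg
      have hgq := (Subgroup.mem_normalizer_iff.1 (S.hQn hg) q).1 hq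
      have hm : h * (g * q * g⁻¹) * h⁻¹ ∈ T' := hh.le ⟨_, hgq, rfl⟩
      rcases D.sq_cases E' hm with e | e
      · exfalso
        apply hqq1
        refine conj_eq_one_iff.1 (?_ : g * (q * q) * g⁻¹ = 1)
        refine conj_eq_one_iff.1 (?_ : h * (g * (q * q) * g⁻¹) * h⁻¹ = 1)
        rw [← e]; group
      · refine mul_left_cancel (a := h) (mul_right_cancel (b := h⁻¹) ?_)
        rw [hqq, ← e]; group
    have hqT : q * q ∈ T := Subgroup.mul_mem _ hq.1 hq.1
    have hqw : q * q = w := by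
      refine hzw _ hqT ?_ hqq1 fun t ht =>
        mul_inv_eq_iff_eq_mul.1 (hfix t (Subgroup.mem_sup_right ht))
      refine mul_left_cancel (a := h) (mul_right_cancel (b := h⁻¹) ?_)
      rw [show h * (q * q * (q * q)) * h⁻¹ = h * (q * q) * h⁻¹ * (h * (q * q) * h⁻¹) by group,
        hqq, hw2, mul_one, mul_inv_cancel]
    apply D.w1
    refine F.fpf hwW ?_
    rw [← hqw]
    exact mul_inv_eq_iff_eq_mul.1 (hfix y (Subgroup.mem_sup_left F.hy))
  · -- two fours-groups in `V`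
    push Not at hsing
    obtain ⟨K', hK'f, hK'ne⟩ := hsing
    have hWV : ∀ K'' ∈ Setting.family T K, Cfsg.wOf K'' ≤ V := fun K'' hK'' => by
      obtain ⟨A', a', y', F'⟩ := exists_frame (pre_of E.two hK''.1)
      exact (X.W_facts E.Z E.ne_bot hK''.1 F' (hfamL _ hK'')).2
    have hKf := Setting.self_mem hK.comp (T := T)
    have hVT : V ≤ T := X.hVP.trans X.P_le_T
    have hTV : T ≤ Subgroup.normalizer (V : Set G) := hTL.trans X.hVn
    have h16 : 16 ≤ Nat.card V := by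
      have h := card_sup_inf X.hV (hWV K hKf) (hWV K' hK'f)
      rw [(E.family_pair hK hKf hK'f (Ne.symm hK'ne)).1, Subgroup.card_bot, mul_one,
        hK.comp.2.2.2.2.1, hK'f.1.2.2.2.2.1] at h
      have := Subgroup.card_le_of_le (sup_le (hWV K hKf) (hWV K' hK'f))
      omega
    have hwV : w ∈ V := by
      obtain ⟨x, hx, hx1⟩ := (Subgroup.nontrivial_iff_exists_ne_one _).1
        ((Subgroup.nontrivial_iff_ne_bot _).2 (inf_centralizer_ne_bot E.two
          (E.two.to_le hVT) hTV fun h => by rw [h, Subgroup.card_bot] at h16; omega))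
      rw [← hzw x (hVT hx.1) (by rw [← pow_two]; exact X.hV.2 x hx.1) hx1
        (Subgroup.mem_centralizer_iff.1 hx.2)]
      exact hx.1
    obtain ⟨u, hu, huz, hcomm⟩ := exists_central_mod E.two hVT hTV hwV hwc (by
      by_contra hcon
      push Not at hcon
      have h1 := Subgroup.card_le_of_le (show V ≤ Subgroup.zpowers w from hcon)
      rw [Nat.card_zpowers, orderOf_eq_prime (by rw [pow_two]; exact hw2) D.w1] at h1
      omega)
    obtain ⟨h, hh⟩ := D.centralizer_conj E' E.two hT'T hTT' hRW hwc (hVT hu)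
      (by rw [← pow_two]; exact X.hV.2 u hu) (fun e => huz (e ▸ one_mem _))
      (fun e => huz (e ▸ Subgroup.mem_zpowers w)) fun t ht => zpowers_cases hw2 (hcomm t ht)
    have hVX : V ≤ T ⊓ Subgroup.centralizer ({u} : Set G) := le_inf hVT fun v hv =>
      Subgroup.mem_centralizer_singleton_iff.2 (Thompson.commute_of_isElementaryAbelian X.hV hv hu)
    have hcard : Nat.card (T ⊓ Subgroup.centralizer ({u} : Set G) : Subgroup G) = Nat.card T' := by
      rw [← hh, Subgroup.card_map_of_injective (f := (MulAut.conj h).toMonoidHom)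
        (MulAut.conj h).injective]
    have heq : V = T ⊓ Subgroup.centralizer ({u} : Set G) :=
      Subgroup.eq_of_le_of_card_ge hVX (by rw [hcard]; exact (D.card_le E').trans h16)
    apply D.not_comm E'
    intro p hp p' hp'
    rw [← hh, ← heq] at hp hp'
    obtain ⟨x, hx, rfl⟩ := hp
    obtain ⟨x', hx', rfl⟩ := hp'
    rw [← map_mul, ← map_mul, Thompson.commute_of_isElementaryAbelian X.hV hx hx']

namespace Setting

variable {T M : Subgroup G}

/-- **Every component has a companion.** -/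
theorem exists_duo (E : Setting T M) (hG : Cfsg.pCore 2 G = ⊥) {K : Subgroup G} (hK : Outer T M K) :
    ∃ M' K₂ w, Setting T M' ∧ Duo T M' K K₂ w := by
  haveI : Fact (Nat.Prime 2) := ⟨Nat.prime_two⟩
  obtain ⟨P, hTP⟩ := E.two.exists_le_sylow
  by_cases hPT : (P : Subgroup G) ≤ T
  swap
  · obtain ⟨K₂, w, D⟩ := E.duo_of_two_step hK P.isPGroup' hTP hPT
    exact ⟨M, K₂, w, E, D⟩
  have hP : (P : Subgroup G) = T := le_antisymm hPT hTP
  have E₀ := E.to_normalizer P hP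
  have hK₀ : Outer T (Subgroup.normalizer (Cfsg.thompsonSubgroupOf 2 T : Set G)) K :=
    ⟨hK.comp, isJComponent_not_le_normalizer E.two hK.comp, hK.core⟩
  by_cases hex : ∃ K₂, Outer T (Subgroup.normalizer (Cfsg.thompsonSubgroupOf 2 T : Set G)) K₂ ∧
      family T K₂ ≠ family T K
  swap
  · push Not at hex
    exact (lonely_false E₀ P hP hK₀ hex hG).elim
  obtain ⟨K₂, hK₂, hne'⟩ := hex
  have hne := hne'.symm
  obtain ⟨hceq, hc2, hz4⟩ := E₀.card_bound hK₀ hK₂ hne
  have hs := fun K' h => E₀.family_eq_singleton hK₀ hK₂ hne h (K' := K')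
  have hs₂ := fun K' h => E₀.family_eq_singleton hK₂ hK₀ hne.symm h (K' := K')
  obtain ⟨w, hw1, hw, hw₂⟩ := E₀.w_agree hK₀ hK₂ hne (by
    intro x hxW hxz hx1 hxc hxc' hnot
    have hTx : T ≤ Subgroup.centralizer ({x} : Set G) := fun t ht => by
      refine Subgroup.mem_centralizer_singleton_iff.2 ?_
      rcases hxW with h | h
      · exact fix_w E.two hK.comp (E₀.normalizes_of_single hK₀ hs) ⟨hxz, h⟩ ht
      · exact fix_w E.two hK₂.comp (E₀.normalizes_of_single hK₂ hs₂) ⟨hxz, h⟩ ht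
    have h2x := centralizer_isTwoLocal (zJ_sq hxz) hx1
    obtain ⟨S, hS⟩ := E₀.hSylow
    obtain ⟨-, K₃, hK₃, hK₃x⟩ := (straddling_main E₀.Z S hS E₀.hT h2x hnot
      (sylowTwoIn_of_sylow P hP hTx) ((Thompson.thompsonSubgroupOf_le 2 T))).2.2.2 hTx
    have hK₃c : x ∈ c0 T K₃ := ⟨hxz, Subgroup.mem_centralizer_iff.2 fun k hk =>
      Subgroup.mem_centralizer_singleton_iff.1 (hK₃x hk)⟩
    have hO₃ : Outer T (Subgroup.normalizer (Cfsg.thompsonSubgroupOf 2 T : Set G)) K₃ := by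
      refine ⟨hK₃, isJComponent_not_le_normalizer E.two hK₃, fun hb => hx1 ?_⟩
      have hxT : x ∈ T := zJ_le T hxz
      have h4 : Subgroup.zpowers x ≤ Cfsg.pCoreOf 2 (K₃ ⊔ T) :=
        CharP.le_opIn (Subgroup.zpowers_le.2 (Subgroup.mem_sup_right hxT))
          ((sup_le hK₃x hTx).trans (centralizer_eq_normalizer_zpowers (zJ_sq hxz) hx1).le)
          (E.two.to_le (Subgroup.zpowers_le.2 hxT))
      rw [hb] at h4
      exact Subgroup.mem_bot.1 (h4 (Subgroup.mem_zpowers x))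
    have hne₃ : family T K₃ ≠ family T K := fun h => hxc (hs K₃ (h ▸ self_mem hK₃) ▸ hK₃c)
    have hs₃ := fun K' h => E₀.family_eq_singleton hO₃ hK₀ hne₃ h (K' := K')
    have hEg : sSup (family T K₃) ⊔ Cfsg.thompsonSubgroupOf 2 T =
        K₃ ⊔ Cfsg.thompsonSubgroupOf 2 T :=
      le_antisymm (sup_le_sup_right (sSup_le fun K' h => (hs₃ K' h).le) _)
        (sup_le_sup_right (le_sSup (self_mem hK₃)) _)
    have hN := E₀.le_normalizer_family hK₃ hO₃.notLe h2x
      (sup_le hK₃x ((Thompson.thompsonSubgroupOf_le 2 T).trans hTx))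
    rw [hEg] at hN
    obtain ⟨A, a, y, F⟩ := exists_frame (pre_of E.two hK₃)
    obtain ⟨e, he, he1⟩ := exists_w E.two hK₃
    refine ⟨Cfsg.wOf K₃, F.W_ea, hK₃.2.2.2.2.1,
      hN.trans ((normalizer_sup_le E.two hK₃).trans (normalizer_le_wOf K₃)), e, he.2, he1, ?_⟩
    have hex' : e ≠ x := fun h => hx1 (by
      have h1 : x ∈ c0 T K₃ ⊓ Cfsg.wOf K₃ := ⟨hK₃c, h ▸ he.2⟩
      rwa [c0_inf E.two hK₃, Subgroup.mem_bot] at h1)
    obtain ⟨hceq₃, -, -⟩ := E₀.card_bound hO₃ hK₀ hne₃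
    have hc : Nat.card (c0 T K) = 2 := by
      have : 1 < Nat.card (c0 T K₃) := Finite.one_lt_card_iff_nontrivial.2
        ((Subgroup.nontrivial_iff_exists_ne_one _).2 ⟨x, hK₃c, hx1⟩)
      omega
    have hz : Nat.card (zJ T) = 4 := by
      have := card_zJ E.two hK.comp
      omega
    obtain ⟨c, hcm, hc1⟩ := (Subgroup.nontrivial_iff_exists_ne_one _).1
      (Finite.one_lt_card_iff_nontrivial.1 (show 1 < Nat.card (c0 T K) by omega))
    obtain ⟨c', hc'm, hc'1⟩ := (Subgroup.nontrivial_iff_exists_ne_one _).1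
      (Finite.one_lt_card_iff_nontrivial.1 (show 1 < Nat.card (c0 T K₂) by omega))
    have hcc : c ≠ c' := fun h =>
      hne (E₀.family_eq_of_c0 hK.comp hK₀.notLe hK₂.comp hcm (h ▸ hc'm) hc1).symm
    have hxe : x = c * c' := by
      rcases four_list (zJ_ea T) hz hcm.1 hc'm.1 hxz hc1 hc'1 hcc with h | h | h | h
      · exact absurd h hx1
      · exact absurd (h ▸ hcm) hxc
      · exact absurd (h ▸ hc'm) hxc'
      · exact h
    rcases four_list (zJ_ea T) hz hcm.1 hc'm.1 he.1 hc1 hc'1 hcc with h | h | h | h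
    · exact absurd h he1
    · exact Or.inl (h ▸ hcm)
    · exact Or.inr (h ▸ hc'm)
    · exact absurd (h.trans hxe.symm) hex')
  exact ⟨_, K₂, w, E₀, hK₀, hK₂, hne, hw1, hw, hw₂⟩

end Setting

end Cfsg.Agent.JComp
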