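import Cfsg.Agent.Lib.JComp.Outside

/-!
The family of `J(T)`-components compatible with `K ∈ 𝒦_{G∖M}(T)` and uniqueness of the maximal
2-local overgroup of `⟨K, J(T)⟩`.
-/

set_option autoImplicit false
set_option linter.style.haveILetI false
set_option linter.unusedSectionVars false
open scoped commutatorElement Pointwise

namespace Cfsg.Agent.JComp

open Cfsg.Agent

universe u

variable {G : Type u} [Group G] [Finite G]

/-- The standing setting relative to `M`. -/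
structure Setting (T M : Subgroup G) : Prop where
  Z : ZN G
  hT : T ∈ Cfsg.maxStraddlingTwoSubgroups M
  hSylow : ∃ S : Sylow 2 G,
    Subgroup.normalizer (Cfsg.thompsonSubgroupOf 2 (S : Subgroup G) : Set G) ≤ M

namespace Setting

variable {T M : Subgroup G} (E : Setting T M)
include E

theorem two : IsPGroup 2 T := E.hT.1.1

theorem ne_bot : T ≠ ⊥ := E.hT.1.2.1

/-- A 2-local containing `J(T)` and not inside `M` is a member of `ℒ(T₀)` with `J(T₀) = J(T)`. -/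
theorem exists_loc_of {N : Subgroup G} (hN : Cfsg.IsTwoLocal N) (hJN : Cfsg.thompsonSubgroupOf 2 T ≤ N)
    (hNM : ¬ N ≤ M) :
    ∃ T₀ V C Aa P, Cfsg.thompsonSubgroupOf 2 T₀ = Cfsg.thompsonSubgroupOf 2 T ∧ T₀ ≠ ⊥ ∧
      Loc N T₀ V C Aa P := by
  haveI : Fact (Nat.Prime 2) := ⟨Nat.prime_two⟩
  obtain ⟨S, hS⟩ := E.hSylow
  obtain ⟨T0, hT0, hJT0⟩ :=
    exists_sylowTwoIn hJN (E.two.to_le (Thompson.thompsonSubgroupOf_le 2 T))
  obtain ⟨hJ, hmem, hLT, -⟩ := straddling_main E.Z S hS E.hT hN hNM hT0 hJT0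
  obtain ⟨V, C, Aa, P, X⟩ := exists_loc E.Z hT0.2.1 hmem.2.1 hLT
  exact ⟨T0, V, C, Aa, P, hJ.symm, hmem.2.1, X⟩

theorem isTwoLocal_W {K : Subgroup G} (hK : Cfsg.IsJComponent T K) :
    Cfsg.IsTwoLocal (Subgroup.normalizer (Cfsg.wOf K : Set G)) := by
  haveI : Fact (Nat.Prime 2) := ⟨Nat.prime_two⟩
  obtain ⟨A', a', y, F⟩ := exists_frame (pre_of E.two hK)
  exact ⟨_, FF.isPGroup_of_ea F.W_ea, wOf_ne_bot hK, rfl⟩

omit E in
theorem J_le_W {K : Subgroup G} (hT : IsPGroup 2 T) (hK : Cfsg.IsJComponent T K) :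
    Cfsg.thompsonSubgroupOf 2 T ≤ Subgroup.normalizer (Cfsg.wOf K : Set G) :=
  (pre_of hT hK).le_normalizer.trans (normalizer_le_wOf K)

/-- Two components in a 2-local outside `M`: each normalizes the `W` of the other. -/
theorem compat {N : Subgroup G} (hN : Cfsg.IsTwoLocal N) (hJN : Cfsg.thompsonSubgroupOf 2 T ≤ N)
    (hNM : ¬ N ≤ M) {K K' : Subgroup G} (hK : Cfsg.IsJComponent T K) (hK' : Cfsg.IsJComponent T K')
    (hKN : K ≤ N) (hK'N : K' ≤ N) : K' ≤ Subgroup.normalizer (Cfsg.wOf K : Set G) := by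
  obtain ⟨T0, V, C, Aa, P, hJ, hT01, X⟩ := E.exists_loc_of hN hJN hNM
  have h1 := isJComponent_congr hK hJ
  have h2 := isJComponent_congr hK' hJ
  obtain ⟨A, a, y, F⟩ := exists_frame (pre_of X.hT.2.1 h1)
  exact fun x hx => X.Aa_normalizes_W E.Z hT01 h1 F hKN (X.K_le_Aa (pre_of X.hT.2.1 h2) hK'N hx)

omit E in
/-- The components normalizing `W_K`. -/
def family (T K : Subgroup G) : Set (Subgroup G) :=
  {K' | Cfsg.IsJComponent T K' ∧ K' ≤ Subgroup.normalizer (Cfsg.wOf K : Set G)}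

omit E in
theorem self_mem {K : Subgroup G} (hK : Cfsg.IsJComponent T K) : K ∈ family T K :=
  ⟨hK, Subgroup.le_normalizer.trans (normalizer_le_wOf K)⟩

theorem family_eq {K K' : Subgroup G} (hK : Cfsg.IsJComponent T K) (hKM : ¬ K ≤ M)
    (hK' : K' ∈ family T K) : family T K' = family T K := by
  set D := Subgroup.normalizer (Cfsg.wOf K : Set G) with hD
  have hKD : K ≤ D := (self_mem hK).2
  have hDM : ¬ D ≤ M := fun h => hKM (hKD.trans h)
  have hcompD : ∀ K₁ K₂, K₁ ∈ family T K → K₂ ∈ family T K →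
      K₂ ≤ Subgroup.normalizer (Cfsg.wOf K₁ : Set G) := fun K₁ K₂ h₁ h₂ =>
    E.compat (E.isTwoLocal_W hK) (J_le_W E.two hK) hDM h₁.1 h₂.1 h₁.2 h₂.2
  set D' := Subgroup.normalizer (Cfsg.wOf K' : Set G) with hD'
  have hKD' : K ≤ D' := hcompD K' K hK' (self_mem hK)
  have hD'M : ¬ D' ≤ M := fun h => hKM (hKD'.trans h)
  ext K''
  constructor
  · rintro ⟨h1, h2⟩
    exact ⟨h1, E.compat (E.isTwoLocal_W hK'.1) (J_le_W E.two hK'.1) hD'M hK h1 hKD' h2⟩
  · intro h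
    exact ⟨h.1, hcompD K' K'' hK' h⟩

/-- Every 2-local overgroup of `⟨K, J(T)⟩` normalizes the group generated by the family. -/
theorem le_normalizer_family {K N : Subgroup G} (hK : Cfsg.IsJComponent T K) (hKM : ¬ K ≤ M)
    (hN : Cfsg.IsTwoLocal N) (hKN : K ⊔ Cfsg.thompsonSubgroupOf 2 T ≤ N) :
    N ≤ Subgroup.normalizer
      ((sSup (family T K) ⊔ Cfsg.thompsonSubgroupOf 2 T : Subgroup G) : Set G) := by
  haveI : Fact (Nat.Prime 2) := ⟨Nat.prime_two⟩
  set J := Cfsg.thompsonSubgroupOf 2 T with hJ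
  set Eg := sSup (family T K) ⊔ J with hEg
  have hK1 : K ≤ N := le_sup_left.trans hKN
  have hJN : J ≤ N := le_sup_right.trans hKN
  have hNM : ¬ N ≤ M := fun h => hKM (hK1.trans h)
  have hfam : ∀ K', Cfsg.IsJComponent T K' → K' ≤ N → K' ∈ family T K := fun K' h1 h2 =>
    ⟨h1, E.compat hN hJN hNM hK h1 hK1 h2⟩
  have hNJ : N ⊓ Subgroup.normalizer (J : Set G) ≤ Subgroup.normalizer (Eg : Set G) := by
    rintro g ⟨hgN, hgJ⟩
    have hJg : J.map (MulAut.conj g).toMonoidHom = J := Subgroup.mem_normalizer_iff_map_conj_eq.1 hgJ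
    have hcongr : ∀ K', Cfsg.IsJComponent T K' →
        Cfsg.IsJComponent T (K'.map (MulAut.conj g).toMonoidHom) := fun K' h => by
      refine isJComponent_congr (isJComponent_map g h) ?_
      rw [Thompson.thompsonSubgroupOf_map_of_injective T (MulAut.conj g).toMonoidHom
        (MulAut.conj g).injective, ← hJ, hJg]
    have hKg : K.map (MulAut.conj g).toMonoidHom ∈ family T K :=
      hfam _ (hcongr K hK) ((Subgroup.map_mono hK1).trans
        (Subgroup.mem_normalizer_iff_map_conj_eq.1 (Subgroup.le_normalizer hgN)).le)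
    rw [Subgroup.mem_normalizer_iff_map_conj_eq]
    refine Subgroup.eq_of_le_of_card_ge ?_ (Subgroup.card_map_of_injective (MulAut.conj g).injective).ge
    rw [hEg, Subgroup.map_sup, (Subgroup.mem_normalizer_iff_map_conj_eq.1 hgJ), sSup_eq_iSup',
      Subgroup.map_iSup]
    refine sup_le_sup_right (iSup_le fun K' => ?_) _
    refine le_trans ?_ (le_iSup (fun x : family T K => (x : Subgroup G))
      ⟨(K' : Subgroup G).map (MulAut.conj g).toMonoidHom, ?_⟩)
    · exact le_rfl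
    refine (E.family_eq hK hKM hKg).le ⟨hcongr _ K'.2.1, ?_⟩
    rw [wOf_map]
    exact (Subgroup.map_mono K'.2.2).trans (Subgroup.le_normalizer_map _)
  obtain ⟨T0, V, C, Aa, P, hJ0, hT01, X⟩ := E.exists_loc_of hN hJN hNM
  by_contra hcon
  have hCN : C ≤ Subgroup.normalizer (Eg : Set G) := by
    intro c hc
    refine hNJ ⟨X.hCL hc, ?_⟩
    rw [show J = Cfsg.thompsonSubgroupOf 2 T0 from hJ0.symm]
    refine X.mem_normalizer_J_of_comm (X.hCL hc) fun j hj => ?_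
    rw [← commutatorElement_def]
    exact X.hPC (X.comm_J hc (thompson_le_thompson X.hT hj))
  obtain ⟨K', hK', hK'N, hK'M⟩ := X.exists_component_not_le hCN (by rw [hJ0]; exact hNJ) hcon
  refine hK'M (le_trans ?_ Subgroup.le_normalizer)
  exact (le_sSup (hfam K' (isJComponent_congr hK' hJ0.symm) hK'N)).trans le_sup_left

theorem family_core_ne_bot {K : Subgroup G} (hK : Cfsg.IsJComponent T K) (hKM : ¬ K ≤ M) :
    CharP.opIn 2 (sSup (family T K) ⊔ Cfsg.thompsonSubgroupOf 2 T) ≠ ⊥ := by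
  haveI : Fact (Nat.Prime 2) := ⟨Nat.prime_two⟩
  set D := Subgroup.normalizer (Cfsg.wOf K : Set G) with hD
  set Eg := sSup (family T K) ⊔ Cfsg.thompsonSubgroupOf 2 T with hEg
  have hED : Eg ≤ D := sup_le (sSup_le fun K' h => h.2) (J_le_W E.two hK)
  have hKD : K ≤ D := (self_mem hK).2
  have hKE : K ≤ Eg := (le_sSup (self_mem hK)).trans le_sup_left
  obtain ⟨T0, V, C, Aa, P, hJ0, hT01, X⟩ :=
    E.exists_loc_of (E.isTwoLocal_W hK) (J_le_W E.two hK) (fun h => hKM (hKD.trans h))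
  have hsn := (X.isSubnormal E.Z hT01 (isJComponent_congr hK hJ0) hKD).comap (Subgroup.inclusion hED)
  obtain ⟨A', a', y, F⟩ := exists_frame (pre_of E.two hK)
  set Q := Cfsg.pCoreOf 2 K with hQ
  have hQsn : (Q.subgroupOf Eg).IsSubnormal := by
    refine Subgroup.IsSubnormal.step _ (K.subgroupOf Eg) (Subgroup.comap_mono F.pre.core_le) hsn ?_
    refine (Subgroup.normal_subgroupOf_iff_le_normalizer (Subgroup.comap_mono F.pre.core_le)).2 ?_
    intro k hk
    rw [Subgroup.mem_normalizer_iff]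
    intro q
    show ((q : G) ∈ Q) ↔ ((k : G) * (q : G) * (k : G)⁻¹ ∈ Q)
    exact Subgroup.mem_normalizer_iff.1 (CharP.le_normalizer_opIn (p := 2) K hk) _
  have hQE : Q ≤ Eg := F.pre.core_le.trans hKE
  have h1 := Subgroup.map_mono (f := Eg.subtype) (CharP.isPGroup_le_pCore_of_isSubnormal hQsn
    (F.pre.isPGroup_core.of_equiv (Subgroup.subgroupOfEquivOfLe hQE).symm))
  rw [Subgroup.map_subgroupOf_eq_of_le hQE] at h1
  intro h
  apply wOf_ne_bot hK
  rw [← le_bot_iff, ← h]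
  exact F.W_le_core.trans h1

/-- **The maximal 2-local overgroup is unique.** -/
theorem maximal_eq {K L : Subgroup G} (hK : Cfsg.IsJComponent T K) (hKM : ¬ K ≤ M)
    (hL : Cfsg.IsMaximalTwoLocal L) (hKL : K ⊔ Cfsg.thompsonSubgroupOf 2 T ≤ L) :
    L = Subgroup.normalizer ((CharP.opIn 2 (sSup (family T K) ⊔ Cfsg.thompsonSubgroupOf 2 T) :
      Subgroup G) : Set G) :=
  (hL.2 _ ⟨_, CharP.opIn_isPGroup _, E.family_core_ne_bot hK hKM, rfl⟩
    ((E.le_normalizer_family hK hKM hL.1 hKL).trans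
      (CharP.normalizer_le_normalizer_opIn _))).symm

theorem exists_maximal_overgroup {K : Subgroup G} (hK : K ∈ Cfsg.jComponentsOutside M T) :
    ∃ L : Subgroup G, Cfsg.IsMaximalTwoLocal L ∧ K ⊔ T ≤ L ∧ (K.subgroupOf L).IsSubnormal ∧
      Cfsg.IsSylowTwoIn T L ∧ L ∈ Cfsg.jOvergroups T := by
  haveI : Fact (Nat.Prime 2) := ⟨Nat.prime_two⟩
  obtain ⟨⟨hKc, -⟩, hKM, hcore⟩ := hK
  obtain ⟨L, hL⟩ := (Set.toFinite {N : Subgroup G | Cfsg.IsTwoLocal N ∧ K ⊔ T ≤ N}).exists_maximal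
    ⟨_, ⟨_, CharP.opIn_isPGroup _, hcore, rfl⟩, CharP.le_normalizer_opIn (p := 2) _⟩
  obtain ⟨hL2, hKTL⟩ := hL.prop
  have hTL : T ≤ L := le_sup_right.trans hKTL
  have hLM : ¬ L ≤ M := fun h => hKM ((le_sup_left.trans hKTL).trans h)
  obtain ⟨S, hS⟩ := E.hSylow
  obtain ⟨T0, hT0, hTT0⟩ := exists_sylowTwoIn hTL E.two
  obtain ⟨hLT, -⟩ := (straddling_main E.Z S hS E.hT hL2 hLM hT0
    ((Thompson.thompsonSubgroupOf_le 2 T).trans hTT0)).2.2.2 hTL
  obtain ⟨V, C, Aa, P, X⟩ := exists_loc E.Z E.two E.ne_bot hLT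
  exact ⟨L, ⟨hL2, fun N hN hLN => le_antisymm (hL.le_of_ge ⟨hN, hKTL.trans hLN⟩ hLN) hLN⟩, hKTL,
    X.isSubnormal E.Z E.ne_bot hKc (le_sup_left.trans hKTL), hLT.1, hLT⟩

end Setting

end Cfsg.Agent.JComp
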