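import Cfsg.Agent.Lib.JComp.Main
import Mathlib.GroupTheory.IndexNormal

/-!
A fours-group `W` with small support: an offending elementary abelian 2-group normalizes it.
-/

set_option autoImplicit false
set_option linter.style.haveILetI false
set_option linter.unusedSectionVars false
open scoped commutatorElement Pointwise

namespace Cfsg.Agent.JComp

open Cfsg.Agent

universe u

theorem le_one_of_four_pow {k : ℕ} (h : 4 ^ k ≤ k * 4) : k ≤ 1 := by
  by_contra hk
  obtain ⟨j, rfl⟩ : ∃ j, k = j + 2 := ⟨k - 2, by omega⟩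
  have h1 : ∀ j : ℕ, (j + 2) * 4 < 4 ^ (j + 2) := by
    intro j
    induction j with
    | zero => norm_num
    | succ n ih => rw [pow_succ]; omega
  have := h1 j
  omega

/-- A `3`-group of automorphisms of a group of order `2, 4, 8` or `16` is abelian. -/
theorem comm_of_threeGroup {U : Type*} [Group U] [Finite U] (hU : Nat.card U ∣ 16)
    {R : Subgroup (MulAut U)} (hR : IsPGroup 3 R) :
    ∀ r ∈ R, ∀ s ∈ R, ∀ u : U, r (s u) = s (r u) := by
  classical
  haveI : Fact (Nat.Prime 3) := ⟨Nat.prime_three⟩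
  haveI : Finite R := inferInstance
  set D : Subgroup R := ⁅(⊤ : Subgroup R), (⊤ : Subgroup R)⁆ with hD
  have hsmall : ∀ u : U, Nat.card (MulAction.orbit R u) ≤ 3 → ∀ d ∈ D, d • u = u := by
    intro u hu
    obtain ⟨n, hn⟩ := hR.card_orbit u
    have hindex : (MulAction.stabilizer R u).index = 3 ^ n := by
      rw [MulAction.index_stabilizer, ← Nat.card_coe_set_eq, hn]
    intro d hd
    rcases (show n = 0 ∨ n = 1 ∨ 2 ≤ n by omega) with rfl | rfl | h2
    · have h1 : MulAction.stabilizer R u = ⊤ := Subgroup.index_eq_one.1 (by simpa using hindex)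
      have h3 : d ∈ MulAction.stabilizer R u := h1 ▸ Subgroup.mem_top d
      exact h3
    · rw [pow_one] at hindex
      obtain ⟨m, hm⟩ := IsPGroup.iff_card.1 hR
      have hm0 : m ≠ 0 := by
        intro h
        have h5 := Subgroup.index_dvd_card (MulAction.stabilizer R u)
        rw [hindex, hm, h, pow_zero] at h5
        exact absurd (Nat.le_of_dvd one_pos h5) (by norm_num)
      haveI hN : (MulAction.stabilizer R u).Normal :=
        Subgroup.normal_of_index_eq_minFac_card (by rw [hindex, hm, Nat.Prime.pow_minFac Nat.prime_three hm0])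
      haveI : IsCyclic (R ⧸ MulAction.stabilizer R u) :=
        isCyclic_of_prime_card (p := 3) (by rw [← Subgroup.index]; exact hindex)
      have hle : D ≤ MulAction.stabilizer R u := by
        rw [hD, Subgroup.commutator_le]
        intro a _ b _
        rw [← QuotientGroup.eq_one_iff, ← QuotientGroup.mk'_apply, map_commutatorElement,
          commutatorElement_eq_one_iff_mul_comm]
        letI := IsCyclic.commGroup (α := R ⧸ MulAction.stabilizer R u)
        exact mul_comm _ _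
      exact hle hd
    · exfalso
      have : 3 ^ 2 ≤ 3 ^ n := Nat.pow_le_pow_right (by norm_num) h2
      rw [hn] at hu
      omega
  let F : Subgroup U :=
    { carrier := {u | ∀ d ∈ D, d • u = u}
      one_mem' := fun d _ => map_one (d : MulAut U)
      mul_mem' := fun {a b} ha hb d hd => by
        show (d : MulAut U) (a * b) = a * b
        rw [map_mul, show (d : MulAut U) a = a from ha d hd, show (d : MulAut U) b = b from hb d hd]
      inv_mem' := fun {a} ha d hd => by
        show (d : MulAut U) a⁻¹ = a⁻¹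
        rw [map_inv, show (d : MulAut U) a = a from ha d hd] }
  suffices hF : ∀ u : U, u ∈ F by
    intro r hr s hs u
    have hd : ⁅(⟨r, hr⟩ : R), ⟨s, hs⟩⁆ ∈ D :=
      Subgroup.commutator_mem_commutator (Subgroup.mem_top _) (Subgroup.mem_top _)
    have h := hF (s (r u)) _ hd
    have h' : (r * s * r⁻¹ * s⁻¹ : MulAut U) (s (r u)) = s (r u) := h
    simpa [MulAut.mul_apply] using h'
  by_contra hcon
  push Not at hcon
  obtain ⟨u, hu⟩ := hcon
  haveI : D.Normal := Subgroup.commutator_normal ⊤ ⊤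
  have hinv : ∀ v ∈ F, ∀ r : R, r • v ∈ F := by
    intro v hv r d hd
    have h1 := hv (r⁻¹ * d * r⁻¹⁻¹) (Subgroup.Normal.conj_mem ‹D.Normal› d hd r⁻¹)
    rw [inv_inv, mul_smul, mul_smul, inv_smul_eq_iff] at h1
    exact h1
  have hbig : ∀ v, v ∉ F → 9 ≤ Nat.card (MulAction.orbit R v) := by
    intro v hv
    obtain ⟨n, hn⟩ := hR.card_orbit v
    rw [hn]
    by_contra h9
    refine hv (hsmall v ?_)
    rw [hn]
    rcases (show n = 0 ∨ n = 1 ∨ 2 ≤ n by omega) with rfl | rfl | h2
    · norm_num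
    · norm_num
    · exfalso
      have : 3 ^ 2 ≤ 3 ^ n := Nat.pow_le_pow_right (by norm_num) h2
      omega
  haveI := Fintype.ofFinite U
  have hdis : ∀ v, v ∉ F → MulAction.orbit R v ⊆ (F : Set U)ᶜ := by
    rintro v hv _ ⟨r, rfl⟩ h
    apply hv
    have := hinv _ h r⁻¹
    rwa [inv_smul_smul] at this
  set O := MulAction.orbit R u with hO
  have hOc : (O : Set U) = (F : Set U)ᶜ := by
    refine Set.Subset.antisymm (hdis u hu) fun v hv => ?_
    by_contra hvO
    have hd : Disjoint O (MulAction.orbit R v) := by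
      rw [Set.disjoint_left]
      intro w h1 h2
      exact hvO (by
        rw [hO, ← MulAction.orbit_eq_iff.2 h1, MulAction.orbit_eq_iff.2 h2]
        exact MulAction.mem_orbit_self v)
    have h1 := Set.ncard_union_eq hd (Set.toFinite _) (Set.toFinite _)
    have h2 := Set.ncard_le_card (O ∪ MulAction.orbit R v)
    have h3 := hbig u hu
    have h4 := hbig v hv
    have h5 := Nat.le_of_dvd (by norm_num) hU
    rw [Nat.card_coe_set_eq] at h3 h4
    rw [← hO] at h3
    omega
  obtain ⟨n, hn⟩ := hR.card_orbit u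
  have h1 : Nat.card F + 3 ^ n = Nat.card U := by
    rw [← hn, ← hO, Nat.card_coe_set_eq O, hOc]
    exact Set.ncard_add_ncard_compl _
  have h2 := Subgroup.card_subgroup_dvd_card F
  have h3 := hbig u hu
  rw [hn] at h3
  have h4 := Nat.le_of_dvd (by norm_num) hU
  have h5 : 0 < Nat.card F := Nat.card_pos
  have hn2 : n = 2 := by
    rcases (show n ≤ 1 ∨ n = 2 ∨ 3 ≤ n by omega) with h | h | h
    · have : 3 ^ n ≤ 3 ^ 1 := Nat.pow_le_pow_right (by norm_num) h
      omega
    · exact h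
    · have : 3 ^ 3 ≤ 3 ^ n := Nat.pow_le_pow_right (by norm_num) h
      omega
  subst hn2
  generalize Nat.card F = f at h1 h2 h5
  generalize Nat.card U = m at h1 h2 h4 hU
  have hm : m = f + 9 := by omega
  subst hm
  have hf : f ≤ 7 := by omega
  interval_cases f <;> simp at h2 hU ⊢

/-- The orbit bound: an abelian group acting, with a "rank-one" endomorphism `σ`. -/
theorem orbit_bound {V A : Type*} [CommGroup V] [Finite V] [Group A] [Finite A]
    (ρ : A →* MulAut V) (W : Subgroup V) (N : Subgroup A) (σ : V →* V)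
    (hσW : ∀ v, σ v ∈ W) (hinj : ∀ w ∈ W, σ w = 1 → w = 1)
    (hN : ∀ n ∈ N, ∀ w ∈ W, ρ n w ∈ W) (hoff : ∀ x, x ∉ N → ∀ w ∈ W, σ (ρ x w) = 1)
    (Fa Fb Cw : Subgroup V) (hFa : ∀ v ∈ Fa, ∀ x, ρ x v = v)
    (hFb : ∀ x, ∀ w ∈ W, ρ x w ∈ Fb) (hCw : ∀ w ∈ W, (∀ n ∈ N, ρ n w = w) → w ∈ Cw) :
    Nat.card W ^ N.index ≤ Fa.relIndex Fb * Nat.card Cw := by
  classical
  haveI := Fintype.ofFinite (A ⧸ N)
  let φ : ((A ⧸ N) → W) →* V :=
    { toFun := fun f => ∏ q, ρ q.out (f q : V)
      map_one' := by simp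
      map_mul' := fun f g => by simp [Finset.prod_mul_distrib] }
  have key : ∀ f : (A ⧸ N) → W, ∀ j : A ⧸ N, ∀ n ∈ N,
      σ (ρ (n * j.out⁻¹) (φ f)) = σ (ρ n (f j : V)) := by
    intro f j n hn
    show σ (ρ (n * j.out⁻¹) (∏ q, ρ q.out (f q : V))) = _
    rw [map_prod, map_prod, Finset.prod_eq_single j]
    · rw [← MulAut.mul_apply, ← map_mul, mul_assoc, inv_mul_cancel, mul_one]
    · intro q _ hqj
      rw [← MulAut.mul_apply, ← map_mul]
      refine hoff _ (fun h => hqj ?_) _ (f q).2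
      have h1 : j.out⁻¹ * q.out ∈ N := by
        have := mul_mem (inv_mem hn) h
        rwa [mul_assoc, inv_mul_cancel_left] at this
      have h2 := (QuotientGroup.eq (s := N) (a := j.out) (b := q.out)).2 h1
      rw [QuotientGroup.out_eq', QuotientGroup.out_eq'] at h2
      exact h2.symm
    · exact fun h => absurd (Finset.mem_univ j) h
  set i0 : A ⧸ N := QuotientGroup.mk 1 with hi0
  have hfix : ∀ f ∈ Fa.comap φ, ∀ j : A ⧸ N, ∀ n ∈ N, ρ n (f j : V) = (f i0 : V) := by
    intro f hf j n hn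
    have h1 := key f j n hn
    rw [hFa _ hf] at h1
    have h2 := key f i0 1 (one_mem N)
    rw [hFa _ hf, h1, map_one, MulAut.one_apply] at h2
    have h3 := hinj _ (mul_mem (hN n hn _ (f j).2) (inv_mem (f i0).2))
      (by rw [map_mul, map_inv, h2, mul_inv_cancel])
    exact mul_inv_eq_one.1 h3
  have hle : Nat.card (Fa.comap φ) ≤ Nat.card Cw := by
    have hmem : ∀ f ∈ Fa.comap φ, (f i0 : V) ∈ Cw := fun f hf =>
      hCw _ (f i0).2 fun n hn => hfix f hf i0 n hn
    refine Nat.card_le_card_of_injective (fun f => (⟨(f.1 i0 : V), hmem f.1 f.2⟩ : Cw)) ?_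
    rintro ⟨f, hf⟩ ⟨g, hg⟩ h
    have h' : (f i0 : V) = (g i0 : V) := congrArg (fun x : Cw => (x : V)) h
    apply Subtype.ext
    funext j
    apply Subtype.ext
    have hf' := hfix f hf j 1 (one_mem N)
    have hg' := hfix g hg j 1 (one_mem N)
    rw [map_one, MulAut.one_apply] at hf' hg'
    rw [hf', hg', h']
  have hcard : Nat.card ((A ⧸ N) → W) = Nat.card W ^ N.index := Nat.card_fun
  have hrange : φ.range ≤ Fb := by
    rintro _ ⟨f, rfl⟩
    exact Subgroup.prod_mem _ fun q _ => hFb _ _ (f q).2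
  rw [← hcard, ← Subgroup.card_mul_index (Fa.comap φ), Subgroup.index_comap, mul_comm]
  refine Nat.mul_le_mul ?_ hle
  exact Subgroup.relIndex_le_of_le_right hrange Subgroup.index_ne_zero_of_finite

variable {G : Type u} [Group G] [Finite G]

/-- Conjugates of `y` by elements moving `W = [V, y]` centralize `W`. -/
theorem conj_centralizes {V W : Subgroup G} {y a : G} (hV : Cfsg.IsElementaryAbelian 2 V)
    (hWV : W ≤ V) (hW4 : Nat.card W = 4) (ha : a ∈ Subgroup.normalizer (V : Set G))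
    (hyV : ∀ v ∈ V, ⁅y, v⁆ ∈ W) (hfpf : ∀ w ∈ W, y * w = w * y → w = 1)
    (h3 : ∀ g ∈ Subgroup.closure {y, a * y * a⁻¹}, ∃ k : ℕ,
      g ^ (3 ^ k) ∈ Subgroup.centralizer (V : Set G))
    (haW : a ∉ Subgroup.normalizer (W : Set G)) :
    ∀ w ∈ W, (a * y * a⁻¹) * w = w * (a * y * a⁻¹) := by
  haveI : Fact (Nat.Prime 2) := ⟨Nat.prime_two⟩
  set y' := a * y * a⁻¹ with hy'
  set W' := W.map (MulAut.conj a).toMonoidHom with hW'
  set U := W ⊔ W' with hU
  have hW'V : W' ≤ V := (Subgroup.map_mono hWV).trans (Subgroup.mem_normalizer_iff_map_conj_eq.1 ha).le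
  have hUV : U ≤ V := sup_le hWV hW'V
  have hy'V : ∀ v ∈ V, ⁅y', v⁆ ∈ W' := by
    intro v hv
    refine ⟨⁅y, a⁻¹ * v * a⁆, hyV _ ?_, ?_⟩
    · have := (Subgroup.mem_normalizer_iff.1 (inv_mem ha) v).1 hv
      rwa [inv_inv] at this
    · simp only [MulEquiv.coe_toMonoidHom, MulAut.conj_apply, hy', commutatorElement_def]
      group
  -- `closure {y, y'}` normalizes `U`
  have hinvar : ∀ g : G, (∀ u ∈ U, ⁅g, u⁆ ∈ U) → g ∈ Subgroup.normalizer (U : Set G) := by
    intro g hg
    rw [Subgroup.mem_normalizer_iff_map_conj_eq]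
    refine Subgroup.eq_of_le_of_card_ge ?_
      (Subgroup.card_map_of_injective (MulAut.conj g).injective).ge
    rintro _ ⟨u, hu, rfl⟩
    have := mul_mem (hg u hu) hu
    rwa [commutatorElement_def, inv_mul_cancel_right] at this
  set M := Subgroup.closure ({y, y'} : Set G) with hM
  have hMU : M ≤ Subgroup.normalizer (U : Set G) := by
    rw [hM, Subgroup.closure_le]
    rintro g (rfl | rfl)
    · exact hinvar _ fun u hu => Subgroup.mem_sup_left (hyV u (hUV hu))
    · exact hinvar _ fun u hu => Subgroup.mem_sup_right (hy'V u (hUV hu))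
  set ψ : M →* MulAut U := U.normalizerMonoidHom.comp (Subgroup.inclusion hMU) with hψ
  have hψ_apply : ∀ (g : M) (u : U), ((ψ g u : U) : G) = (g : G) * u * (g : G)⁻¹ := fun g u => rfl
  have hR : IsPGroup 3 ψ.range := by
    rintro ⟨_, g, rfl⟩
    obtain ⟨k, hk⟩ := h3 _ g.2
    refine ⟨k, Subtype.ext ?_⟩
    show (ψ g) ^ (3 ^ k) = 1
    rw [← map_pow]
    ext u
    rw [hψ_apply, MulAut.one_apply, Subgroup.coe_pow,
      Subgroup.mem_centralizer_iff.1 hk _ (hUV u.2) |>.symm, mul_inv_cancel_right]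
  have hW'4 : Nat.card W' = 4 := by
    rw [hW', Subgroup.card_map_of_injective (MulAut.conj a).injective, hW4]
  have hU16 : Nat.card U ∣ 16 := by
    refine ⟨Nat.card (W ⊓ W' : Subgroup G), ?_⟩
    rw [hU, card_sup_inf hV hWV hW'V, hW4, hW'4]
  have hcomm : ∀ u ∈ U, y * (y' * u * y'⁻¹) * y⁻¹ = y' * (y * u * y⁻¹) * y'⁻¹ := by
    intro u hu
    have hy : y ∈ M := Subgroup.subset_closure (Set.mem_insert _ _)
    have hy'' : y' ∈ M := Subgroup.subset_closure (Set.mem_insert_of_mem _ rfl)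
    have h := congrArg Subtype.val (comm_of_threeGroup hU16 hR (ψ ⟨y, hy⟩) ⟨_, rfl⟩
      (ψ ⟨y', hy''⟩) ⟨_, rfl⟩ ⟨u, hu⟩)
    simpa only [hψ_apply] using h
  have hWsurj : ∀ w ∈ W, ∃ u ∈ W, ⁅y, u⁆ = w := by
    intro w hw
    let f : W → W := fun u => ⟨⁅y, (u : G)⁆, hyV _ (hWV u.2)⟩
    have hf : Function.Injective f := by
      intro u v huv
      have h : ⁅y, (u : G)⁆ = ⁅y, (v : G)⁆ := congrArg Subtype.val huv
      have huV : Commute (u : G) v := Thompson.commute_of_isElementaryAbelian hV (hWV u.2) (hWV v.2)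
      have h1 : (u⁻¹ * v : W) = 1 := by
        apply Subtype.ext
        refine hfpf _ (u⁻¹ * v : W).2 ?_
        push_cast
        rw [commutatorElement_def, commutatorElement_def] at h
        have h' : y * (u : G) * y⁻¹ = y * (v : G) * y⁻¹ * (v : G)⁻¹ * u := by
          rw [← h, inv_mul_cancel_right]
        have h2 : y * ((u : G)⁻¹ * v) * y⁻¹ = (u : G)⁻¹ * v := by
          calc y * ((u : G)⁻¹ * v) * y⁻¹ = (y * u * y⁻¹)⁻¹ * (y * v * y⁻¹) := by group
            _ = (u : G)⁻¹ * v := by rw [h']; group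
        calc y * ((u : G)⁻¹ * v) = y * ((u : G)⁻¹ * v) * y⁻¹ * y := by group
          _ = _ := by rw [h2]
      exact inv_mul_eq_one.1 h1
    obtain ⟨u, hu⟩ := Finite.surjective_of_injective hf ⟨w, hw⟩
    exact ⟨u, u.2, congrArg Subtype.val hu⟩
  have hy'W : ∀ w ∈ W, y' * w * y'⁻¹ ∈ W := by
    intro w hw
    obtain ⟨u, hu, rfl⟩ := hWsurj w hw
    have huU : u ∈ U := Subgroup.mem_sup_left hu
    have hmem : y' * u * y'⁻¹ ∈ V := hUV (by
      have := (Subgroup.mem_normalizer_iff.1
        (hMU (Subgroup.subset_closure (Set.mem_insert_of_mem _ rfl) : y' ∈ M)) u).1 huU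
      exact this)
    have e : y' * ⁅y, u⁆ * y'⁻¹ = ⁅y, y' * u * y'⁻¹⁆ := by
      rw [commutatorElement_def, commutatorElement_def, hcomm u huU]
      group
    rw [e]
    exact hyV _ hmem
  have hyW' : ∀ w ∈ W', y * w * y⁻¹ ∈ W' := by
    rintro _ ⟨w, hw, rfl⟩
    obtain ⟨u, hu, rfl⟩ := hWsurj w hw
    have huU : a * u * a⁻¹ ∈ U := Subgroup.mem_sup_right ⟨u, hu, rfl⟩
    have hmem : y * (a * u * a⁻¹) * y⁻¹ ∈ V := hUV
      ((Subgroup.mem_normalizer_iff.1
        (hMU (Subgroup.subset_closure (Set.mem_insert _ _) : y ∈ M)) _).1 huU)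
    have e : y * (MulAut.conj a).toMonoidHom ⁅y, u⁆ * y⁻¹ = ⁅y', y * (a * u * a⁻¹) * y⁻¹⁆ := by
      rw [MulEquiv.coe_toMonoidHom, map_commutatorElement, MulAut.conj_apply, MulAut.conj_apply,
        ← hy', commutatorElement_def, commutatorElement_def, ← hcomm _ huU]
      group
    rw [e]
    exact hy'V _ hmem
  have hD : W ⊓ W' = ⊥ := by
    by_contra hne
    obtain ⟨z, hz, hz1⟩ := SetLike.exists_of_lt (bot_lt_iff_ne_bot.2 hne)
    rw [Subgroup.mem_bot] at hz1
    have hz' : y * z * y⁻¹ ∈ W ⊓ W' := by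
      refine ⟨?_, hyW' z hz.2⟩
      have := mul_mem (hyV z (hWV hz.1)) hz.1
      rwa [commutatorElement_def, inv_mul_cancel_right] at this
    have hne2 : y * z * y⁻¹ ≠ z := fun h => hz1 (hfpf z hz.1 (mul_inv_eq_iff_eq_mul.1 h))
    have hne3 : y * z * y⁻¹ ≠ 1 := fun h => hz1 (by
      have := congrArg (fun x => y⁻¹ * x * y) h
      simpa [mul_assoc] using this)
    obtain ⟨D, hDdef⟩ : ∃ D, W ⊓ W' = D := ⟨_, rfl⟩
    rw [hDdef] at hz hz'
    have hle : 2 < Nat.card D := by
      have h3 : ({(1 : G), z, y * z * y⁻¹} : Set G).ncard = 3 :=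
        Set.ncard_eq_three.2 ⟨1, z, y * z * y⁻¹, Ne.symm hz1, hne3.symm, hne2.symm, rfl⟩
      have h4 : ({(1 : G), z, y * z * y⁻¹} : Set G).ncard ≤ (D : Set G).ncard := by
        refine Set.ncard_le_ncard ?_ (Set.toFinite _)
        rintro x (rfl | rfl | rfl)
        · exact one_mem D
        · exact hz
        · exact hz'
      rw [h3, ← Nat.card_coe_set_eq] at h4
      simp only [SetLike.coe_sort_coe] at h4
      exact h4
    have hDW : D ≤ W := hDdef ▸ inf_le_left
    have hDW' : D ≤ W' := hDdef ▸ inf_le_right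
    have hd := Subgroup.card_dvd_of_le hDW
    rw [hW4] at hd
    have hd4 : Nat.card D = 4 := by
      have := Nat.le_of_dvd (by norm_num) hd
      rcases (show Nat.card D = 3 ∨ Nat.card D = 4 by omega) with h | h
      · rw [h] at hd; norm_num at hd
      · exact h
    have h1 := Subgroup.eq_of_le_of_card_ge hDW (by rw [hd4, hW4])
    have h2 := Subgroup.eq_of_le_of_card_ge hDW' (by rw [hd4, hW'4])
    exact haW (Subgroup.mem_normalizer_iff_map_conj_eq.2 (h2.symm.trans h1))
  intro w hw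
  have h1 : ⁅y', w⁆ ∈ W ⊓ W' := by
    refine ⟨?_, hy'V w (hWV hw)⟩
    rw [commutatorElement_def]
    exact Subgroup.mul_mem _ (hy'W w hw) (Subgroup.inv_mem _ hw)
  rw [hD, Subgroup.mem_bot] at h1
  exact commutatorElement_eq_one_iff_mul_comm.1 h1

end Cfsg.Agent.JComp
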