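import Cfsg.Agent.Lib.JComp.Straddle

/-!
A member of `ℒ(T)` outside `M ⊇ N(J(T))` contains a `J(T)`-component outside `M`.
-/

set_option autoImplicit false
set_option linter.style.haveILetI false
set_option linter.unusedSectionVars false
open scoped commutatorElement Pointwise

namespace Cfsg.Agent.JComp

open Cfsg.Agent

universe u

variable {G : Type u} [Group G] [Finite G]

namespace Loc

variable {L T V C Aa P : Subgroup G} (X : Loc L T V C Aa P)
include X

theorem P_le_C : P ≤ C := X.hPC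

/-- An element centralizing `J(T)` modulo `C` normalizes `J(T)`. -/
theorem mem_normalizer_J_of_comm {g : G} (hgL : g ∈ L)
    (h : ∀ j ∈ Cfsg.thompsonSubgroupOf 2 T, g * j * g⁻¹ * j⁻¹ ∈ C) :
    g ∈ Subgroup.normalizer (Cfsg.thompsonSubgroupOf 2 T : Set G) := by
  haveI : Fact (Nat.Prime 2) := ⟨Nat.prime_two⟩
  haveI := X.Pnormal
  set J := Cfsg.thompsonSubgroupOf 2 T with hJ
  have hJT : J ≤ T := Thompson.thompsonSubgroupOf_le 2 T
  set S := J ⊔ P with hS
  have hST : S ≤ T := sup_le hJT X.P_le_T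
  set π := QuotientGroup.mk' (P.subgroupOf L) with hπ
  have hone : ∀ x : L, (x : G) ∈ P → π x = 1 := fun x hx => (QuotientGroup.eq_one_iff x).2 hx
  have hof : ∀ x : L, π x = 1 → (x : G) ∈ P := fun x hx => (QuotientGroup.eq_one_iff x).1 hx
  have key : ∀ j ∈ J, g * j * g⁻¹ ∈ S := by
    intro j hj
    set c := g * j * g⁻¹ * j⁻¹ with hc
    have hcC : c ∈ C := h j hj
    have hjL : j ∈ L := X.J_le hj
    obtain ⟨k, hk⟩ := IsPGroup.iff_orderOf.1 X.hT.2.1 ⟨j, hJT hj⟩
    rw [Subgroup.orderOf_mk] at hk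
    have hcomm : Commute (π ⟨c, X.hCL hcC⟩) (π ⟨j, hjL⟩) := by
      refine commutatorElement_eq_one_iff_mul_comm.1 ?_
      rw [← map_commutatorElement]
      exact hone _ (X.comm_J hcC (thompson_le_thompson X.hT hj))
    have h1 : π (⟨g, hgL⟩ * ⟨j, hjL⟩ * (⟨g, hgL⟩ : L)⁻¹) = π ⟨c, X.hCL hcC⟩ * π ⟨j, hjL⟩ := by
      rw [← map_mul]
      congr 1
      apply Subtype.ext
      show g * j * g⁻¹ = c * j
      rw [hc, inv_mul_cancel_right]
    have hjp : (⟨j, hjL⟩ : L) ^ (2 ^ k) = 1 := Subtype.ext (by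
      rw [Subgroup.coe_pow, Subgroup.coe_one, ← hk, pow_orderOf_eq_one])
    have h2 : (π ⟨c, X.hCL hcC⟩) ^ (2 ^ k) = 1 := by
      have h3 : π (⟨g, hgL⟩ * ⟨j, hjL⟩ * (⟨g, hgL⟩ : L)⁻¹) ^ (2 ^ k) =
          (π ⟨c, X.hCL hcC⟩ * π ⟨j, hjL⟩) ^ (2 ^ k) := by rw [h1]
      rw [← map_pow, conj_pow, hjp, mul_one, mul_inv_cancel, map_one, hcomm.mul_pow,
        ← map_pow π ⟨j, hjL⟩, hjp, map_one, mul_one] at h3
      exact h3.symm
    have hcP : c ∈ P := X.mem_P_of_pow hcC (k := k) (hof (⟨c, X.hCL hcC⟩ ^ (2 ^ k))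
      (by rw [map_pow]; exact h2))
    rw [show g * j * g⁻¹ = c * j by rw [hc, inv_mul_cancel_right]]
    exact mul_mem (Subgroup.mem_sup_right hcP) (Subgroup.mem_sup_left hj)
  have hgS : g ∈ Subgroup.normalizer (S : Set G) := by
    rw [Subgroup.mem_normalizer_iff_map_conj_eq]
    refine Subgroup.eq_of_le_of_card_ge ?_ (Subgroup.card_map_of_injective (MulAut.conj g).injective).ge
    rw [hS, Subgroup.map_sup]
    refine sup_le ?_ ((Subgroup.mem_normalizer_iff_map_conj_eq.1 (X.hPn hgL)).le.trans le_sup_right)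
    rintro _ ⟨j, hj, rfl⟩
    exact key j hj
  have hJS : Cfsg.thompsonSubgroupOf 2 S = J :=
    thompson_eq X.hT (hST.trans X.hT.1) (X.hT.2.1.to_le hST) le_sup_left
  rw [← hJS]
  exact Thompson.normalizer_le_normalizer_thompsonSubgroupOf 2 S hgS

/-- `J(L) ∩ Aa` is not inside an overgroup of `N(J(T))` and `C` not containing `L`. -/
theorem exists_notMem {M : Subgroup G}
    (hNJ : L ⊓ Subgroup.normalizer (Cfsg.thompsonSubgroupOf 2 T : Set G) ≤ M) (hLM : ¬ L ≤ M) :
    ∃ g ∈ Aa, g ∈ Cfsg.thompsonSubgroupOf 2 L ∧ g ∉ M := by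
  haveI : Fact (Nat.Prime 2) := ⟨Nat.prime_two⟩
  by_contra hcon
  push Not at hcon
  set JL := Cfsg.thompsonSubgroupOf 2 L with hJL
  have hJLL : JL ≤ L := Thompson.thompsonSubgroupOf_le 2 L
  have hJJL : Cfsg.thompsonSubgroupOf 2 T ≤ JL := thompson_le_thompson X.hT
  obtain ⟨U, hU, hJU⟩ := exists_sylowTwoIn hJJL (X.hT.2.1.to_le (Thompson.thompsonSubgroupOf_le 2 T))
  have hJUeq : Cfsg.thompsonSubgroupOf 2 U = Cfsg.thompsonSubgroupOf 2 T :=
    thompson_eq X.hT (hU.1.trans hJLL) hU.2.1 hJU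
  have hNU : L ⊓ Subgroup.normalizer (U : Set G) ≤ M := by
    refine le_trans ?_ hNJ
    rw [← hJUeq]
    exact inf_le_inf_left _ (Thompson.normalizer_le_normalizer_thompsonSubgroupOf 2 U)
  have hJLn : L ≤ Subgroup.normalizer (JL : Set G) :=
    Subgroup.le_normalizer.trans (Thompson.normalizer_le_normalizer_thompsonSubgroupOf 2 L)
  have hJM : JL ≤ M := by
    intro x hx
    have hsq : x * x ∈ M := hcon _ (X.sq_mem x hx) (mul_mem hx hx)
    obtain ⟨k, m, hm, hxm⟩ :=
      Nat.exists_eq_pow_mul_and_not_dvd (orderOf_pos x).ne' 2 (by norm_num)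
    -- the 2-part
    have h2part : x ^ m ∈ M := by
      have hz : IsPGroup 2 (Subgroup.zpowers (x ^ m)) := by
        refine IsPGroup.of_card (n := k) ?_
        have hm0 : m ≠ 0 := fun h => hm (h ▸ dvd_zero 2)
        rw [Nat.card_zpowers, orderOf_pow' x hm0, hxm, Nat.gcd_eq_right (dvd_mul_left _ _),
          Nat.mul_div_cancel _ (Nat.pos_of_ne_zero hm0)]
      obtain ⟨n, hn, hle⟩ := exists_conj_le hU (Subgroup.zpowers_le.2 (pow_mem hx m)) hz
      have hu : n * x ^ m * n⁻¹ ∈ U := hle ⟨x ^ m, Subgroup.mem_zpowers _, rfl⟩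
      have hxmJ : x ^ m ∈ JL := pow_mem hx m
      have huM : n * x ^ m * n⁻¹ ∈ M := hNU ⟨hJLL (hU.1 hu), Subgroup.le_normalizer hu⟩
      set v := n * x ^ m * n⁻¹ with hv
      have hvJ : v ∈ JL := mul_mem (mul_mem hn hxmJ) (inv_mem hn)
      have hca : ∀ a ∈ JL, ∀ b ∈ JL, ⁅a, b⁆ ∈ Aa ∧ ⁅a, b⁆ ∈ JL := by
        intro a ha b hb
        constructor
        · rw [show ⁅a, b⁆ = a * a * (a⁻¹ * b * (a⁻¹ * b)) * (b * b)⁻¹ by
            rw [commutatorElement_def]; group]
          exact mul_mem (mul_mem (X.sq_mem a ha)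
            (X.sq_mem _ (mul_mem (inv_mem ha) hb))) (inv_mem (X.sq_mem b hb))
        · rw [commutatorElement_def]
          exact mul_mem (mul_mem (mul_mem ha hb) (inv_mem ha)) (inv_mem hb)
      obtain ⟨h1, h2⟩ := hca n⁻¹ (inv_mem hn) v hvJ
      have := mul_mem (hcon _ h1 h2) huM
      rwa [show ⁅n⁻¹, v⁆ * v = x ^ m by rw [hv, commutatorElement_def]; group] at this
    have h2 : x ^ (2 ^ k) ∈ M := by
      rcases k with _ | k
      · have hodd : Odd (orderOf x) := by rw [hxm, pow_zero, one_mul]; exact Nat.odd_iff.2 (by omega)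
        obtain ⟨i, hi⟩ := exists_pow_eq_self_of_coprime (n := 2) (x := x) (Nat.coprime_two_left.2 hodd)
        rw [pow_zero, pow_one, ← hi, pow_two]
        exact pow_mem hsq i
      · rw [pow_succ', pow_mul, pow_two]
        exact pow_mem hsq _
    exact mem_of_coprime_pow (Nat.Coprime.pow_left k
      (Nat.coprime_two_left.2 (Nat.odd_iff.2 (by omega : m % 2 = 1)))).symm h2part h2
  apply hLM
  intro l hl
  obtain ⟨n, hn, hle⟩ := exists_conj_le hU (X := U.map (MulAut.conj l).toMonoidHom)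
    ((Subgroup.map_mono hU.1).trans (Subgroup.mem_normalizer_iff_map_conj_eq.1 (hJLn hl)).le)
    (hU.2.1.map _)
  have hmem : n * l ∈ Subgroup.normalizer (U : Set G) := by
    rw [Subgroup.mem_normalizer_iff_map_conj_eq]
    refine Subgroup.eq_of_le_of_card_ge ?_
      (Subgroup.card_map_of_injective (MulAut.conj (n * l)).injective).ge
    rintro _ ⟨z, hz, rfl⟩
    refine hle ⟨_, ⟨z, hz, rfl⟩, ?_⟩
    simp [mul_assoc]
  have := mul_mem (inv_mem (hJM hn)) (hNU ⟨mul_mem (hJLL hn) hl, hmem⟩)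
  rwa [inv_mul_cancel_left] at this

/-- A component outside `M`. -/
theorem exists_component_not_le {M : Subgroup G} (hCM : C ≤ M)
    (hNJ : L ⊓ Subgroup.normalizer (Cfsg.thompsonSubgroupOf 2 T : Set G) ≤ M) (hLM : ¬ L ≤ M) :
    ∃ K : Subgroup G, Cfsg.IsJComponent T K ∧ K ≤ L ∧ ¬ K ≤ M := by
  classical
  haveI : Fact (Nat.Prime 2) := ⟨Nat.prime_two⟩
  set J := Cfsg.thompsonSubgroupOf 2 T with hJ
  set JL := Cfsg.thompsonSubgroupOf 2 L with hJL
  have hJJL : J ≤ JL := thompson_le_thompson X.hT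
  haveI := X.Cnormal
  set π := QuotientGroup.mk' (C.subgroupOf L) with hπ
  have hone : ∀ x : L, (x : G) ∈ C → π x = 1 := fun x hx => (QuotientGroup.eq_one_iff x).2 hx
  have hof : ∀ x : L, π x = 1 → (x : G) ∈ C := fun x hx => (QuotientGroup.eq_one_iff x).1 hx
  -- `E`: elements of `Aa ∩ J(L)` that are eigenvectors for a set of elements of `J`
  have heig : ∀ s : Finset G, (∀ j ∈ s, j ∈ J) → ∃ g ∈ Aa, g ∈ JL ∧ g ∉ M ∧
      ∀ j ∈ s, j * g * j⁻¹ * g⁻¹ ∈ C ∨ j * g * j⁻¹ * g ∈ C := by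
    intro s
    induction s using Finset.induction with
    | empty =>
      intro _
      obtain ⟨g, hg1, hg2, hg3⟩ := X.exists_notMem hNJ hLM
      exact ⟨g, hg1, hg2, hg3, fun j hj => absurd hj (Finset.notMem_empty j)⟩
    | @insert j0 s _ ih =>
      intro hs
      obtain ⟨g, hgA, hgJ, hgM, hgs⟩ := ih fun j hj => hs j (Finset.mem_insert_of_mem hj)
      have hj0 : j0 ∈ J := hs j0 (Finset.mem_insert_self _ _)
      have hj0L : j0 ∈ L := X.J_le hj0
      have hgL : g ∈ L := X.hAL hgA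
      set g' := j0 * g * j0⁻¹ with hg'
      have hg'A : g' ∈ Aa := (Subgroup.mem_normalizer_iff.1 (X.hAn hj0L) g).1 hgA
      have hg'J : g' ∈ JL := mul_mem (mul_mem (hJJL hj0) hgJ) (inv_mem (hJJL hj0))
      have hg'L : g' ∈ L := X.hAL hg'A
      -- in the quotient
      let e : L := ⟨g, hgL⟩
      let J0 : L := ⟨j0, hj0L⟩
      have hcE : Commute (π e) (π J0 * π e * (π J0)⁻¹) := by
        rw [← map_inv, ← map_mul, ← map_mul, Commute, SemiconjBy,
          ← commutatorElement_eq_one_iff_mul_comm, ← map_commutatorElement]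
        exact hone _ (X.comm_mem g hgA g' hg'A)
      have hj2 : ∀ a : G, π J0 * (π J0 * π e * (π J0)⁻¹) * (π J0)⁻¹ = π e := by
        intro _
        have h1 : Commute (π (J0 * J0)) (π e) := by
          rw [Commute, SemiconjBy, ← commutatorElement_eq_one_iff_mul_comm, ← map_commutatorElement]
          exact hone _ (X.comm_mem _ (X.sq_mem j0 (hJJL hj0)) g hgA)
        rw [map_mul] at h1
        calc π J0 * (π J0 * π e * (π J0)⁻¹) * (π J0)⁻¹
            = (π J0 * π J0) * π e * (π J0 * π J0)⁻¹ := by group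
          _ = π e := by rw [h1.eq, mul_inv_cancel_right]
      have hold : ∀ j ∈ s, ∀ hjL : j ∈ L, ∀ h : G,
          (h = g * g' ∨ h = g * g'⁻¹) → ∀ hhL : h ∈ L,
          j * h * j⁻¹ * h⁻¹ ∈ C ∨ j * h * j⁻¹ * h ∈ C := by
        intro j hj hjL h hh hhL
        have hjJ : j ∈ J := hs j (Finset.mem_insert_of_mem hj)
        let J1 : L := ⟨j, hjL⟩
        -- `j` and `j0` commute modulo elements acting trivially on `g`
        have hc0 : ⁅j, j0⁆ ∈ Aa := by
          rw [show ⁅j, j0⁆ = j * j * (j⁻¹ * j0 * (j⁻¹ * j0)) * (j0 * j0)⁻¹ by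
            rw [commutatorElement_def]; group]
          exact mul_mem (mul_mem (X.sq_mem j (hJJL hjJ))
            (X.sq_mem _ (mul_mem (inv_mem (hJJL hjJ)) (hJJL hj0)))) (inv_mem (X.sq_mem j0 (hJJL hj0)))
        have hgs' := hgs j hj
        have hact : π J1 * (π J0 * π e * (π J0)⁻¹) * (π J1)⁻¹ =
            π J0 * (π J1 * π e * (π J1)⁻¹) * (π J0)⁻¹ := by
          set z := π J0 * (π J1 * π e * (π J1)⁻¹) * (π J0)⁻¹ with hz
          have h1 : Commute (π ⁅J1, J0⁆) z := by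
            rw [hz, ← map_inv, ← map_inv, ← map_mul, ← map_mul, ← map_mul, ← map_mul, Commute,
              SemiconjBy, ← commutatorElement_eq_one_iff_mul_comm, ← map_commutatorElement]
            exact hone _ (X.comm_mem _ hc0 _ ((Subgroup.mem_normalizer_iff.1 (X.hAn hj0L) _).1
              ((Subgroup.mem_normalizer_iff.1 (X.hAn hjL) g).1 hgA)))
          calc π J1 * (π J0 * π e * (π J0)⁻¹) * (π J1)⁻¹ = π ⁅J1, J0⁆ * z * (π ⁅J1, J0⁆)⁻¹ := by
                rw [hz, map_commutatorElement, commutatorElement_def]; group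
            _ = z := by rw [h1.eq, mul_inv_cancel_right]
        have hcases : π J1 * π e * (π J1)⁻¹ = π e ∨ π J1 * π e * (π J1)⁻¹ = (π e)⁻¹ := by
          rcases hgs' with hc | hc
          · left
            rw [← mul_inv_eq_one, ← map_inv, ← map_inv, ← map_mul, ← map_mul, ← map_mul]
            exact hone _ hc
          · right
            rw [← mul_eq_one_iff_eq_inv, ← map_inv, ← map_mul, ← map_mul, ← map_mul]
            exact hone _ hc
        have hg'eq : π (⟨g', hg'L⟩ : L) = π J0 * π e * (π J0)⁻¹ := by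
          rw [← map_inv, ← map_mul, ← map_mul]
          exact congrArg π (Subtype.ext rfl)
        have goal : π J1 * π ⟨h, hhL⟩ * (π J1)⁻¹ = π ⟨h, hhL⟩ ∨
            π J1 * π ⟨h, hhL⟩ * (π J1)⁻¹ = (π ⟨h, hhL⟩)⁻¹ := by
          rcases hh with rfl | rfl
          · rw [show (⟨g * g', hhL⟩ : L) = e * ⟨g', hg'L⟩ from Subtype.ext rfl, map_mul, hg'eq,
              ← conj_mul, hact]
            rcases hcases with hc | hc <;> rw [hc]
            · exact Or.inl rfl
            · right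
              rw [← conj_inv]
              exact hcE.inv_inv.eq.trans (mul_inv_rev _ _).symm
          · rw [show (⟨g * g'⁻¹, hhL⟩ : L) = e * (⟨g', hg'L⟩ : L)⁻¹ from Subtype.ext rfl, map_mul,
              map_inv, hg'eq, ← conj_mul, ← conj_inv, hact]
            rcases hcases with hc | hc <;> rw [hc]
            · exact Or.inl rfl
            · right
              rw [← conj_inv, inv_inv]
              exact hcE.inv_left.eq.trans ((mul_inv_rev _ _).trans (by rw [inv_inv])).symm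
        rcases goal with hc | hc
        · left
          refine hof (J1 * ⟨h, hhL⟩ * J1⁻¹ * (⟨h, hhL⟩ : L)⁻¹) ?_
          rw [map_mul, map_mul, map_mul, map_inv, map_inv, hc, mul_inv_cancel]
        · right
          refine hof (J1 * ⟨h, hhL⟩ * J1⁻¹ * ⟨h, hhL⟩) ?_
          rw [map_mul, map_mul, map_mul, map_inv, hc, inv_mul_cancel]
      have hg'eq : π (⟨g', hg'L⟩ : L) = π J0 * π e * (π J0)⁻¹ := by
        rw [← map_inv, ← map_mul, ← map_mul]
        exact congrArg π (Subtype.ext rfl)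
      by_cases h1 : g * g' ∈ M
      · have h2 : g * g'⁻¹ ∉ M := by
          intro h2
          have h3 : g * g ∈ M := by
            have h4 : (g * g)⁻¹ * (g * g' * (g * g'⁻¹)) ∈ C := by
              refine hof ((e * e)⁻¹ * (e * ⟨g', hg'L⟩ * (e * (⟨g', hg'L⟩ : L)⁻¹))) ?_
              simp only [map_mul, map_inv, hg'eq]
              have h5 := hcE.eq
              generalize π e = b at h5 ⊢
              generalize π J0 * b * (π J0)⁻¹ = c at h5 ⊢
              calc (b * b)⁻¹ * (b * c * (b * c⁻¹)) = (b * b)⁻¹ * (b * (c * b) * c⁻¹) := by group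
                _ = 1 := by rw [← h5]; group
            have := mul_mem (mul_mem h1 h2) (inv_mem (hCM h4))
            have e : ∀ x y : G, x * (y⁻¹ * x)⁻¹ = y := fun x y => by
              rw [mul_inv_rev, inv_inv, mul_inv_cancel_left]
            rwa [e] at this
          exact hgM (mem_of_coprime_pow (by norm_num : Nat.Coprime 2 3) (by rwa [pow_two])
            (hCM (X.cube_mem g hgA)))
        have hhA : g * g'⁻¹ ∈ Aa := mul_mem hgA (inv_mem hg'A)
        refine ⟨g * g'⁻¹, hhA, mul_mem hgJ (inv_mem hg'J), h2, fun j hj => ?_⟩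
        rcases Finset.mem_insert.1 hj with rfl | hj
        · right
          refine hof (J0 * (e * (⟨g', hg'L⟩ : L)⁻¹) * J0⁻¹ * (e * (⟨g', hg'L⟩ : L)⁻¹)) ?_
          simp only [map_mul, map_inv, hg'eq]
          have h5 := hcE.eq
          have h6 := hj2 g
          generalize π e = b at h5 h6 ⊢
          generalize π J0 = t at h5 h6 ⊢
          calc t * (b * (t * b * t⁻¹)⁻¹) * t⁻¹ * (b * (t * b * t⁻¹)⁻¹)
              = (t * b * t⁻¹) * (t * (t * b * t⁻¹) * t⁻¹)⁻¹ * (b * (t * b * t⁻¹)⁻¹) := by group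
            _ = 1 := by rw [h6]; group
        · exact hold j hj (X.J_le (hs j (Finset.mem_insert_of_mem hj))) _ (Or.inr rfl) (X.hAL hhA)
      · have hhA : g * g' ∈ Aa := mul_mem hgA hg'A
        refine ⟨g * g', hhA, mul_mem hgJ hg'J, h1, fun j hj => ?_⟩
        rcases Finset.mem_insert.1 hj with rfl | hj
        · left
          refine hof (J0 * (e * ⟨g', hg'L⟩) * J0⁻¹ * (e * (⟨g', hg'L⟩ : L))⁻¹) ?_
          simp only [map_mul, map_inv, hg'eq]
          have h5 := hcE.eq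
          have h6 := hj2 g
          generalize π e = b at h5 h6 ⊢
          generalize π J0 = t at h5 h6 ⊢
          calc t * (b * (t * b * t⁻¹)) * t⁻¹ * (b * (t * b * t⁻¹))⁻¹
              = (t * b * t⁻¹) * (t * (t * b * t⁻¹) * t⁻¹) * (b * (t * b * t⁻¹))⁻¹ := by group
            _ = (t * b * t⁻¹) * b * (b * (t * b * t⁻¹))⁻¹ := by rw [h6]
            _ = 1 := by rw [← h5, mul_inv_cancel]
        · exact hold j hj (X.J_le (hs j (Finset.mem_insert_of_mem hj))) _ (Or.inl rfl) (X.hAL hhA)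
  obtain ⟨g, hgA, hgJ, hgM, hgj⟩ := heig (Set.toFinite (J : Set G)).toFinset
    fun j hj => (Set.Finite.mem_toFinset _).1 hj
  have hgall : ∀ j ∈ J, j * g * j⁻¹ * g⁻¹ ∈ C ∨ j * g * j⁻¹ * g ∈ C := fun j hj =>
    hgj j ((Set.Finite.mem_toFinset _).2 hj)
  have hgL : g ∈ L := X.hAL hgA
  -- some member of a max elementary abelian subgroup inverts `g`
  obtain ⟨A, hA, t, ht, hti⟩ : ∃ A, Thompson.IsMaxEAIn 2 T A ∧ ∃ t ∈ A, t * g * t⁻¹ * g ∈ C := by
    by_contra hcon
    push Not at hcon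
    apply hgM
    refine hNJ ⟨hgL, X.mem_normalizer_J_of_comm hgL ?_⟩
    set D := ((Subgroup.centralizer ({π ⟨g, hgL⟩} : Set (L ⧸ C.subgroupOf L))).comap π).map L.subtype
      with hD
    have hle : J ≤ D := by
      rw [hJ, Thompson.thompsonSubgroupOf_eq]
      refine sSup_le fun A hA a ha => ⟨⟨a, X.mem_L_of_A hA ha⟩, ?_, rfl⟩
      refine Subgroup.mem_centralizer_singleton_iff.2 ?_
      refine (commutatorElement_eq_one_iff_mul_comm.1 ?_)
      rw [← map_commutatorElement]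
      refine hone _ ?_
      show ⁅a, g⁆ ∈ C
      rw [commutatorElement_def]
      exact (hgall a (Thompson.le_thompsonSubgroupOf hA ha)).resolve_right (hcon A hA a ha)
    intro j hj
    obtain ⟨j', hj', rfl⟩ := hle hj
    have h := Subgroup.mem_centralizer_singleton_iff.1 hj'
    refine hof (⟨g, hgL⟩ * j' * (⟨g, hgL⟩ : L)⁻¹ * j'⁻¹) ?_
    rw [map_mul, map_mul, map_mul, map_inv, map_inv, ← h, mul_inv_cancel_right, mul_inv_cancel]
  obtain ⟨K, hK, hKL, hKM⟩ := X.component_of_pair hA ht hgA hgJ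
    (fun h => hgM (hCM h)) hti hgall
  exact ⟨K, hK, hKL, fun h => hgM (hKM M hCM h)⟩

end Loc

/-- **`𝒦_{G∖M}(T)` is nonempty.** -/
theorem jComponentsOutside_nonempty (Z : ZN G) (S : Sylow 2 G) {M : Subgroup G}
    (hMJ : Subgroup.normalizer (Cfsg.thompsonSubgroupOf 2 (S : Subgroup G) : Set G) ≤ M)
    {T : Subgroup G} (hT : T ∈ Cfsg.maxStraddlingTwoSubgroups M) :
    (Cfsg.jComponentsOutside M T).Nonempty := by
  haveI : Fact (Nat.Prime 2) := ⟨Nat.prime_two⟩
  obtain ⟨hT2, hT1, hTM, L, hL2, hTL, hLM⟩ := hT.1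
  obtain ⟨T0, hT0, hTT0⟩ := exists_sylowTwoIn hTL hT2
  have hJ0 : Cfsg.thompsonSubgroupOf 2 T ≤ T0 := (Thompson.thompsonSubgroupOf_le 2 T).trans hTT0
  obtain ⟨hLT, -⟩ := (straddling_main Z S hMJ hT hL2 hLM hT0 hJ0).2.2.2 hTL
  obtain ⟨V, C, Aa, P, X⟩ := exists_loc Z hT2 hT1 hLT
  have hNJ := normalizer_thompson_le S hMJ hT
  have hCM : C ≤ M := by
    intro c hc
    refine hNJ (X.mem_normalizer_J_of_comm (X.hCL hc) fun j hj => ?_)
    rw [← commutatorElement_def]
    exact X.hPC (X.comm_J hc (thompson_le_thompson X.hT hj))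
  obtain ⟨K, hK, hKL, hKM⟩ := X.exists_component_not_le hCM (inf_le_right.trans hNJ) hLM
  refine ⟨K, ⟨hK, fun U hJU hU => ?_⟩, hKM, ?_⟩
  · have hW2 : IsPGroup 2 (Cfsg.wOf K) := by
      obtain ⟨A', a', y, F⟩ := exists_frame (pre_of hT2 hK)
      exact FF.isPGroup_of_ea F.W_ea
    have hN2 : Cfsg.IsTwoLocal (Subgroup.normalizer (Cfsg.wOf K : Set G)) :=
      ⟨_, hW2, wOf_ne_bot hK, rfl⟩
    exact ((straddling_main Z S hMJ hT hN2
      (fun h => hKM ((Subgroup.le_normalizer.trans (normalizer_le_wOf K)).trans h)) hU hJU).1).symm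
  · intro h
    have hPle : P ≤ Cfsg.pCoreOf 2 (K ⊔ T) :=
      CharP.le_opIn (X.P_le_T.trans le_sup_right)
        ((sup_le hKL X.hT.1).trans X.hPn) X.hP
    rw [h, le_bot_iff] at hPle
    have hc : Subgroup.centralizer ((Cfsg.pCoreOf 2 L : Subgroup G) : Set G) ≤ Cfsg.pCoreOf 2 L := hLT.2.2
    rw [← X.hPeq, hPle] at hc
    apply hT1
    rw [← le_bot_iff]
    refine le_trans (fun x _ => Subgroup.mem_centralizer_iff.2 fun y hy => ?_) hc
    rw [SetLike.mem_coe, Subgroup.mem_bot] at hy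
    rw [hy, one_mul, mul_one]

end Cfsg.Agent.JComp
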