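import Cfsg.Agent.Lib.JComp.PairBasic

/-!
Two components with different families: each is alone in its family, and their fours-groups share
an involution.
-/

set_option autoImplicit false
set_option linter.style.haveILetI false
set_option linter.unusedSectionVars false
open scoped commutatorElement Pointwise

namespace Cfsg.Agent.JComp

open Cfsg.Agent

universe u

variable {G : Type u} [Group G] [Finite G]

/-- A component outside `M` with `O₂(⟨K, T⟩) ≠ 1`. -/
structure Outer (T M K : Subgroup G) : Prop where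
  comp : Cfsg.IsJComponent T K
  notLe : ¬ K ≤ M
  core : Cfsg.pCoreOf 2 (K ⊔ T) ≠ ⊥

theorem four_list {E : Subgroup G} (hE : Cfsg.IsElementaryAbelian 2 E) (h4 : Nat.card E = 4)
    {a b x : G} (ha : a ∈ E) (hb : b ∈ E) (hx : x ∈ E) (ha1 : a ≠ 1) (hb1 : b ≠ 1) (hab : a ≠ b) :
    x = 1 ∨ x = a ∨ x = b ∨ x = a * b := by
  by_contra hcon
  push Not at hcon
  have h := Amalgam.four_product hE h4 ha hb hx ha1 hb1 hcon.1 hab (Ne.symm hcon.2.1)
    (Ne.symm hcon.2.2.1)
  refine hcon.2.2.2 (mul_left_cancel (h.trans ?_) : x = a * b)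
  rw [← pow_two]
  exact (hE.2 _ (mul_mem ha hb)).symm

namespace Setting

variable {T M : Subgroup G} (E : Setting T M)
include E

theorem le_M : T ≤ M := E.hT.1.2.2.1

theorem normalizer_J_le : Subgroup.normalizer (Cfsg.thompsonSubgroupOf 2 T : Set G) ≤ M := by
  obtain ⟨S, hS⟩ := E.hSylow
  exact normalizer_thompson_le S hS E.hT

theorem mem_outside {K : Subgroup G} (hK : Outer T M K) : K ∈ Cfsg.jComponentsOutside M T := by
  refine ⟨⟨hK.comp, fun U hJU hU => ?_⟩, hK.notLe, hK.core⟩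
  obtain ⟨S, hS⟩ := E.hSylow
  exact ((straddling_main E.Z S hS E.hT (E.isTwoLocal_W hK.comp)
    (fun h => hK.notLe ((self_mem hK.comp).2.trans h)) hU hJU).1).symm

theorem exists_L {K : Subgroup G} (hK : Outer T M K) :
    ∃ L V C Aa P, Loc L T V C Aa P ∧ Cfsg.IsMaximalTwoLocal L ∧ L ∈ Cfsg.jOvergroups T ∧ K ⊔ T ≤ L ∧
      (∀ K' ∈ family T K, K' ≤ L) ∧
      ∀ K' : Subgroup G, Cfsg.IsJComponent T K' → K' ≤ L → K' ∈ family T K := by
  obtain ⟨L, hL, hKT, -, -, hLT⟩ := E.exists_maximal_overgroup (E.mem_outside hK)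
  obtain ⟨V, C, Aa, P, X⟩ := exists_loc E.Z E.two E.ne_bot hLT
  have hKJ : K ⊔ Cfsg.thompsonSubgroupOf 2 T ≤ L :=
    (sup_le_sup_left (Thompson.thompsonSubgroupOf_le 2 T) K).trans hKT
  refine ⟨L, V, C, Aa, P, X, hL, hLT, hKT, fun K' hK' => ?_, fun K' h1 h2 => ⟨h1, ?_⟩⟩
  · rw [E.maximal_eq hK.comp hK.notLe hL hKJ]
    exact (((le_sSup hK').trans le_sup_left).trans Subgroup.le_normalizer).trans
      (CharP.normalizer_le_normalizer_opIn _)
  · exact E.compat hL.1 (le_sup_right.trans hKJ)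
      (fun h => hK.notLe ((le_sup_left.trans hKT).trans h)) hK.comp h1 (le_sup_left.trans hKT) h2

theorem core_le_T {K : Subgroup G} (hK : Outer T M K) {K' : Subgroup G} (hK' : K' ∈ family T K) :
    Cfsg.pCoreOf 2 K' ≤ T := by
  obtain ⟨L, V, C, Aa, P, X, -, -, -, hfam, -⟩ := E.exists_L hK
  exact (X.core_le_P (pre_of E.two hK'.1) (hfam _ hK')).trans X.P_le_T

theorem normalizes_of_central {K : Subgroup G} (hK : Outer T M K) {K' : Subgroup G}
    (hK' : K' ∈ family T K) {w : G} (hw : w ∈ zJ T ⊓ Cfsg.wOf K') (hw1 : w ≠ 1)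
    (hwT : ∀ t ∈ T, t * w = w * t) : T ≤ Subgroup.normalizer (K' : Set G) := by
  obtain ⟨L, V, C, Aa, P, X, -, hLT, -, hfam, -⟩ := E.exists_L hK
  refine normalizes_component E.Z E.two E.ne_bot hLT hK'.1 (hfam _ hK') fun h => hw1 ?_
  have : w ∈ T ⊓ Subgroup.centralizer (T : Set G) ⊓ Cfsg.wOf K' :=
    ⟨⟨zJ_le T hw.1, Subgroup.mem_centralizer_iff.2 fun t ht => hwT t ht⟩, hw.2⟩
  rwa [h, Subgroup.mem_bot] at this

theorem family_conj {K : Subgroup G} (hK : Outer T M K) {K' : Subgroup G} (hK' : K' ∈ family T K)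
    {t : G} (ht : t ∈ T) : K'.map (MulAut.conj t).toMonoidHom ∈ family T K := by
  obtain ⟨L, V, C, Aa, P, X, -, -, hKT, hfam, hmem⟩ := E.exists_L hK
  refine hmem _ (isJComponent_map_of_mem ((Subgroup.le_normalizer.trans
    (Thompson.normalizer_le_normalizer_thompsonSubgroupOf 2 T)) ht) hK'.1) ?_
  rintro _ ⟨k, hk, rfl⟩
  have htL : t ∈ L := hKT (Subgroup.mem_sup_right ht)
  exact mul_mem (mul_mem htL (hfam _ hK' hk)) (inv_mem (s := L) htL)

theorem family_pair {K : Subgroup G} (hK : Outer T M K) {K₁ K₂ : Subgroup G} (h₁ : K₁ ∈ family T K)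
    (h₂ : K₂ ∈ family T K) (hne : K₁ ≠ K₂) :
    Cfsg.wOf K₁ ⊓ Cfsg.wOf K₂ = ⊥ ∧ K₂ ≤ Subgroup.centralizer (Cfsg.wOf K₁ : Set G) := by
  obtain ⟨L, V, C, Aa, P, X, -, -, -, hfam, -⟩ := E.exists_L hK
  have hd : Cfsg.wOf K₁ ⊓ Cfsg.wOf K₂ = ⊥ := by
    by_contra h
    apply hne
    have he := X.W_eq_of_inf E.Z E.ne_bot X.hT E.ne_bot h₁.1 h₂.1 (hfam _ h₁) (hfam _ h₂) h
    exact le_antisymm (X.unique E.Z E.ne_bot X.hT E.ne_bot h₂.1 h₁.1 (hfam _ h₂) (hfam _ h₁) he.symm)
      (X.unique E.Z E.ne_bot X.hT E.ne_bot h₁.1 h₂.1 (hfam _ h₁) (hfam _ h₂) he)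
  obtain ⟨A, a, y, F⟩ := exists_frame (pre_of E.two h₁.1)
  obtain ⟨A', a', m, F'⟩ := exists_frame (pre_of E.two h₂.1)
  have hWV := (X.W_facts E.Z E.ne_bot h₁.1 F (hfam _ h₁)).2
  have hf' := (X.W_facts E.Z E.ne_bot h₂.1 F' (hfam _ h₂)).1
  have hmN := X.Aa_normalizes_W E.Z E.ne_bot h₁.1 F (hfam _ h₁) (X.K_le_Aa F'.pre (hfam _ h₂) F'.hy)
  refine ⟨hd, F'.K_le.trans (sup_le ?_ (Subgroup.zpowers_le.2 ?_))⟩
  · intro q hq
    refine Subgroup.mem_centralizer_iff.2 fun x hx => ?_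
    exact (mul_inv_eq_iff_eq_mul.1
      (X.fix_V (X.hPC (X.core_le_P F'.pre (hfam _ h₂) hq)) (hWV hx))).symm
  · refine Subgroup.mem_centralizer_iff.2 fun x hx => ?_
    have h1 : m * x * m⁻¹ * x⁻¹ ∈ Cfsg.wOf K₁ ⊓ Cfsg.wOf K₂ :=
      ⟨Subgroup.mul_mem _ ((Subgroup.mem_normalizer_iff.1 hmN x).1 hx) (Subgroup.inv_mem _ hx), hf' x (hWV hx)⟩
    rw [hd, Subgroup.mem_bot] at h1
    exact (mul_inv_eq_iff_eq_mul.1 (mul_inv_eq_one.1 h1)).symm

theorem w_mem_c0 {K : Subgroup G} (hK : Outer T M K) {K₁ K₂ : Subgroup G} (h₁ : K₁ ∈ family T K)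
    (h₂ : K₂ ∈ family T K) (hne : K₁ ≠ K₂) {w : G} (hw : w ∈ zJ T ⊓ Cfsg.wOf K₁) : w ∈ c0 T K₂ :=
  ⟨hw.1, Subgroup.le_centralizer_iff.1 (E.family_pair hK h₁ h₂ hne).2 hw.2⟩

/-- Components centralizing a common involution of `Ω₁(Z(J))` lie in one family. -/
theorem mem_family_of_common {K K₂ : Subgroup G} (hK : Cfsg.IsJComponent T K) (hKM : ¬ K ≤ M)
    (hK₂ : Cfsg.IsJComponent T K₂) {Y : Subgroup G} (hY : IsPGroup 2 Y) (hY1 : Y ≠ ⊥)
    (hJY : Cfsg.thompsonSubgroupOf 2 T ≤ Subgroup.normalizer (Y : Set G))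
    (h : K ≤ Subgroup.normalizer (Y : Set G)) (h₂ : K₂ ≤ Subgroup.normalizer (Y : Set G)) :
    K₂ ∈ family T K :=
  ⟨hK₂, E.compat ⟨Y, hY, hY1, rfl⟩ hJY (fun hh => hKM (h.trans hh)) hK hK₂ h h₂⟩

theorem mem_family_of_c0 {K K₂ : Subgroup G} (hK : Cfsg.IsJComponent T K) (hKM : ¬ K ≤ M)
    (hK₂ : Cfsg.IsJComponent T K₂) {x : G} (hx : x ∈ c0 T K) (hx₂ : x ∈ c0 T K₂) (hx1 : x ≠ 1) :
    K₂ ∈ family T K := by
  refine E.mem_family_of_common (Y := Subgroup.zpowers x) hK hKM hK₂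
    (E.two.to_le (Subgroup.zpowers_le.2 (zJ_le T hx.1))) (Subgroup.zpowers_ne_bot.2 hx1) ?_ ?_ ?_
  all_goals refine le_trans ?_ (Subgroup.centralizer_le_normalizer _)
  · rw [Subgroup.le_centralizer_iff, Subgroup.zpowers_le]
    exact Subgroup.mem_centralizer_iff.2 fun j hj => zJ_comm hx.1 hj
  · rw [Subgroup.le_centralizer_iff, Subgroup.zpowers_le]; exact hx.2
  · rw [Subgroup.le_centralizer_iff, Subgroup.zpowers_le]; exact hx₂.2

theorem family_eq_of_c0 {K K₂ : Subgroup G} (hK : Cfsg.IsJComponent T K) (hKM : ¬ K ≤ M)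
    (hK₂ : Cfsg.IsJComponent T K₂) {x : G} (hx : x ∈ c0 T K) (hx₂ : x ∈ c0 T K₂) (hx1 : x ≠ 1) :
    family T K₂ = family T K :=
  E.family_eq hK hKM (E.mem_family_of_c0 hK hKM hK₂ hx hx₂ hx1)

theorem card_bound {K K₂ : Subgroup G} (hK : Outer T M K) (hK₂ : Outer T M K₂)
    (hne : family T K ≠ family T K₂) :
    Nat.card (c0 T K) = Nat.card (c0 T K₂) ∧ Nat.card (c0 T K) ≤ 2 ∧ Nat.card (zJ T) ≤ 4 := by
  have h0 : c0 T K ⊓ c0 T K₂ = ⊥ := by
    rw [eq_bot_iff]
    intro x hx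
    rw [Subgroup.mem_bot]
    by_contra hx1
    exact hne (E.family_eq_of_c0 hK.comp hK.notLe hK₂.comp hx.1 hx.2 hx1).symm
  have h1 := card_inf_le (zJ_ea T) (inf_le_left : c0 T K ≤ zJ T) (inf_le_left : c0 T K₂ ≤ zJ T) h0
  have h2 := card_zJ E.two hK.comp
  have h3 := card_zJ E.two hK₂.comp
  have heq : Nat.card (c0 T K) = Nat.card (c0 T K₂) := by omega
  rw [← c0, ← c0, ← heq, h2] at h1
  have hle : Nat.card (c0 T K) ≤ 2 := Nat.le_of_mul_le_mul_left (by rw [mul_comm _ 2]; exact h1) Nat.card_pos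
  exact ⟨heq, hle, by omega⟩

/-- The configuration of two parabolics. -/
theorem amal_of {K K₂ : Subgroup G} (hK : Cfsg.IsJComponent T K) (hK₂ : Cfsg.IsJComponent T K₂)
    (h : K₂ ∉ family T K) (hM : ¬ K ≤ M ∨ ¬ K₂ ≤ M)
    (hTK : T ≤ Subgroup.normalizer (K : Set G)) (hTK₂ : T ≤ Subgroup.normalizer (K₂ : Set G))
    (hQ : Cfsg.pCoreOf 2 K ≤ T) (hQ₂ : Cfsg.pCoreOf 2 K₂ ≤ T) {w w₂ : G}
    (hw : w ∈ Cfsg.wOf K) (hw1 : w ≠ 1) (hwT : ∀ t ∈ T, t * w = w * t)
    (hw₂ : w₂ ∈ Cfsg.wOf K₂) (hw₂1 : w₂ ≠ 1) (hw₂T : ∀ t ∈ T, t * w₂ = w₂ * t) :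
    Amalgam.Amal T (fun b => if b then K ⊔ T else K₂ ⊔ T)
      (fun b => if b then Cfsg.wOf K else Cfsg.wOf K₂) (fun b => if b then w else w₂) where
  side b := by
    cases b
    · exact side_of E.two hK₂ hTK₂ hQ₂ hw₂ hw₂1 hw₂T
    · exact side_of E.two hK hTK hQ hw hw1 hwT
  free Y hYT hY := by
    by_contra hY1
    have h1 := hY true
    have h2 := hY false
    have hJY : Cfsg.thompsonSubgroupOf 2 T ≤ Subgroup.normalizer (Y : Set G) :=
      (Thompson.thompsonSubgroupOf_le 2 T).trans (le_sup_right.trans h1)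
    rcases hM with hM | hM
    · exact h (E.mem_family_of_common hK hM hK₂ (E.two.to_le hYT) hY1 hJY (le_sup_left.trans h1)
        (le_sup_left.trans h2))
    · have hmem := E.mem_family_of_common hK₂ hM hK (E.two.to_le hYT) hY1 hJY (le_sup_left.trans h2)
        (le_sup_left.trans h1)
      exact h ((E.family_eq hK₂ hM hmem).ge (self_mem hK₂))

omit E in
/-- The shape of `T` when the involutions agree. -/
theorem shape_of_amal {P W : Bool → Subgroup G} {w : Bool → G} (A : Amalgam.Amal T P W w)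
    (he : w false = w true) :
    (∀ b, Amalgam.Qb T W b ≤ W b ⊔ zJ T) ∧ T ≤ W true ⊔ W false ⊔ zJ T ∧
      ∃ u ∈ W true, ∃ v ∈ W false, ⁅u, v⁆ = w true := by
  obtain ⟨ht, hf⟩ := A.not_le_of_eq he
  have hnc : ∀ b, ∃ u ∈ W b, u ∈ T ∧ u ∉ Subgroup.centralizer (W (!b) : Set G) := by
    intro b
    have h : ¬ W b ≤ Amalgam.Qb T W (!b) := by cases b <;> assumption
    obtain ⟨u, hu, hu'⟩ := SetLike.not_le_iff_exists.1 h
    exact ⟨u, hu, (A.side b).hWT hu, fun hc => hu' ⟨(A.side b).hWT hu, hc⟩⟩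
  set D0 := Amalgam.Qb T W true ⊓ Amalgam.Qb T W false with hD0
  have hD0b : ∀ b, Amalgam.Qb T W b ⊓ Amalgam.Qb T W (!b) = D0 := by
    intro b; cases b
    · exact inf_comm _ _
    · rfl
  have hdec : ∀ b, ∀ q ∈ Amalgam.Qb T W b, ∃ u ∈ W b, ∃ d ∈ D0, q = u * d := by
    intro b q hq
    by_cases hqC : q ∈ Subgroup.centralizer (W (!b) : Set G)
    · exact ⟨1, one_mem _, q, (hD0b b).le ⟨hq, hq.1, hqC⟩, (one_mul q).symm⟩
    obtain ⟨u, hu, huT, huC⟩ := hnc b
    refine ⟨u⁻¹, inv_mem hu, u * q, (hD0b b).le ⟨Subgroup.mul_mem _ (A.W_le_Qb b hu) hq,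
      (A.side (!b)).mul_mem_Q huT hq.1 huC hqC⟩, (inv_mul_cancel_left u q).symm⟩
  have hDW : ∀ b, ∀ d ∈ D0, ∀ u ∈ W b, u * d = d * u := fun b d hd u hu =>
    Subgroup.mem_centralizer_iff.1 ((hD0b b).ge hd).1.2 u hu
  have hsq : ∀ b, Amalgam.sqClosure (Amalgam.Qb T W b) = Amalgam.sqClosure D0 := by
    intro b
    refine le_antisymm ?_ (Amalgam.sqClosure_mono (by rw [← hD0b b]; exact inf_le_left))
    rw [Amalgam.sqClosure, Subgroup.closure_le]
    rintro _ ⟨q, hq, rfl⟩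
    obtain ⟨u, hu, d, hd, rfl⟩ := hdec b q hq
    refine Subgroup.subset_closure ⟨d, hd, ?_⟩
    show d * d = u * d * (u * d)
    calc d * d = (u * u) * (d * d) := by rw [(A.side b).sq hu, one_mul]
      _ = u * (d * u) * d := by rw [← hDW b d hd u hu]; group
      _ = u * d * (u * d) := by group
  have hY : Amalgam.sqClosure D0 = ⊥ := by
    refine A.free _ ?_ fun b => ?_
    · rw [Amalgam.sqClosure, Subgroup.closure_le]
      rintro _ ⟨d, hd, rfl⟩
      exact mul_mem hd.1.1 hd.1.1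
    · rw [← hsq b]
      exact (A.side b).hQn.trans (Amalgam.normalizer_le_sqClosure _)
  have hd2 : ∀ d ∈ D0, d * d = 1 := fun d hd => by
    have h : d * d ∈ Amalgam.sqClosure D0 := Subgroup.subset_closure ⟨d, hd, rfl⟩
    rwa [hY, Subgroup.mem_bot] at h
  have hgen : ∀ t ∈ T, t ∈ W true ⊔ W false ⊔ D0 := by
    intro t ht'
    have hle : ∀ b, ∀ q ∈ Amalgam.Qb T W b, q ∈ W true ⊔ W false ⊔ D0 := by
      intro b q hq
      obtain ⟨u, hu, d, hd, rfl⟩ := hdec b q hq
      refine mul_mem (Subgroup.mem_sup_left ?_) (Subgroup.mem_sup_right hd)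
      cases b
      · exact Subgroup.mem_sup_right hu
      · exact Subgroup.mem_sup_left hu
    by_cases htC : t ∈ Subgroup.centralizer (W true : Set G)
    · exact hle true t ⟨ht', htC⟩
    obtain ⟨v, hv, hvT, hvC⟩ := hnc false
    have := mul_mem (hle true _ ((A.side true).mul_mem_Q ht' hvT htC hvC))
      (inv_mem (Subgroup.mem_sup_left (Subgroup.mem_sup_right hv) : v ∈ W true ⊔ W false ⊔ D0))
    rwa [mul_inv_cancel_right] at this
  have hDZ : D0 ≤ zJ T := by
    intro d hd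
    refine mem_zJ_of_central hd.1.1 (fun t ht' => ?_) (hd2 d hd)
    have hle : W true ⊔ W false ⊔ D0 ≤ Subgroup.centralizer ({d} : Set G) := by
      refine sup_le (sup_le ?_ ?_) ?_ <;> intro z hz <;> rw [Subgroup.mem_centralizer_singleton_iff]
      · exact hDW true d hd z hz
      · exact hDW false d hd z hz
      · calc z * d = (z * d) * ((d * z) * (d * z)) := by rw [hd2 _ (mul_mem hd hz), mul_one]
          _ = z * (d * d) * z * (d * z) := by group
          _ = d * z := by rw [hd2 d hd, mul_one, hd2 z hz, one_mul]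
    exact Subgroup.mem_centralizer_singleton_iff.1 (hle (hgen t ht'))
  refine ⟨fun b q hq => ?_, fun t ht' => ?_, ?_⟩
  · obtain ⟨u, hu, d, hd, rfl⟩ := hdec b q hq
    exact mul_mem (Subgroup.mem_sup_left hu) (Subgroup.mem_sup_right (hDZ hd))
  · exact sup_le le_sup_left (hDZ.trans le_sup_right) (hgen t ht')
  · obtain ⟨u, hu, huT, huC⟩ := hnc true
    rw [Subgroup.mem_centralizer_iff] at huC
    push Not at huC
    obtain ⟨v, hv, hne⟩ := huC
    refine ⟨u, hu, v, hv, ?_⟩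
    exact ((A.side true).comm_cases' ((A.side false).hWT hv) hu).resolve_left
      fun h => hne (commutatorElement_eq_one_iff_mul_comm.1 h).symm

/-- **A component with a companion of another family is alone in its family.** -/
theorem family_eq_singleton {K K₂ : Subgroup G} (hK : Outer T M K) (hK₂ : Outer T M K₂)
    (hne : family T K ≠ family T K₂) {K' : Subgroup G} (hK' : K' ∈ family T K) : K' = K := by
  by_contra hKK'
  have hKin : K ∈ family T K := self_mem hK.comp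
  obtain ⟨hceq, hc2, hz4⟩ := E.card_bound hK hK₂ hne
  obtain ⟨w, hw, hw1⟩ := exists_w E.two hK.comp
  obtain ⟨w', hw', hw'1⟩ := exists_w E.two hK'.1
  have hwc' : w ∈ c0 T K' := E.w_mem_c0 hK hKin hK' (Ne.symm hKK') hw
  have hw'c : w' ∈ c0 T K := E.w_mem_c0 hK hK' hKin hKK' hw'
  have hc0K : Nat.card (c0 T K) = 2 := by
    have : 1 < Nat.card (c0 T K) := Finite.one_lt_card_iff_nontrivial.2
      ((Subgroup.nontrivial_iff_exists_ne_one _).2 ⟨w', hw'c, hw'1⟩)
    omega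
  have hz : Nat.card (zJ T) = 4 := by rw [card_zJ E.two hK.comp, hc0K]
  have hww' : w ≠ w' := fun h => hw1 (by
    have h1 : w ∈ Cfsg.wOf K ⊓ Cfsg.wOf K' := ⟨hw.2, h ▸ hw'.2⟩
    rwa [(E.family_pair hK hKin hK' (Ne.symm hKK')).1, Subgroup.mem_bot] at h1)
  have hlist : ∀ x ∈ zJ T, x = 1 ∨ x = w ∨ x = w' ∨ x = w * w' := fun x hx =>
    four_list (zJ_ea T) hz hw.1 hw'.1 hx hw1 hw'1 hww'
  obtain ⟨c2, hc2m, hc21⟩ : ∃ c2 ∈ c0 T K₂, c2 ≠ 1 := by
    refine (Subgroup.nontrivial_iff_exists_ne_one _).1 ?_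
    exact Finite.one_lt_card_iff_nontrivial.1 (by omega)
  have hfK' : family T K' = family T K := E.family_eq hK.comp hK.notLe hK'
  have hc2eq : c2 = w * w' := by
    rcases hlist c2 hc2m.1 with h | h | h | h
    · exact absurd h hc21
    · exfalso; subst h
      have h1 := E.mem_family_of_c0 hK₂.comp hK₂.notLe hK'.1 hc2m hwc' hc21
      exact hne (hfK'.symm.trans (E.family_eq hK₂.comp hK₂.notLe h1))
    · exfalso; subst h
      exact hne (E.family_eq_of_c0 hK.comp hK.notLe hK₂.comp hw'c hc2m hc21).symm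
    · exact h
  obtain ⟨w2, hw2, hw21⟩ := exists_w E.two hK₂.comp
  have hw2ne : w2 ≠ c2 := fun h => hc21 (by
    have h1 : c2 ∈ c0 T K₂ ⊓ Cfsg.wOf K₂ := ⟨hc2m, h ▸ hw2.2⟩
    rwa [c0_inf E.two hK₂.comp, Subgroup.mem_bot] at h1)
  have hw2cases : w2 = w ∨ w2 = w' := by
    rcases hlist w2 hw2.1 with h | h | h | h
    · exact absurd h hw21
    · exact Or.inl h
    · exact Or.inr h
    · exact absurd (h.trans hc2eq.symm) hw2ne
  have huniq : ∀ K'' : Subgroup G, Cfsg.IsJComponent T K'' → ∀ a ∈ zJ T ⊓ Cfsg.wOf K'', ∀ b ∈ zJ T ⊓ Cfsg.wOf K'',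
      a ≠ 1 → b ≠ 1 → a = b := fun K'' h a ha b hb => eq_of_card_two (card_zJ_inf E.two h) ha hb
  have hmapw : ∀ (K'' : Subgroup G) (t a : G), t ∈ T → a ∈ zJ T ⊓ Cfsg.wOf K'' →
      t * a * t⁻¹ ∈ zJ T ⊓ Cfsg.wOf (K''.map (MulAut.conj t).toMonoidHom) := by
    intro K'' t a ht ha
    refine ⟨(Subgroup.mem_normalizer_iff.1 (((Subgroup.le_normalizer.trans
      (Thompson.normalizer_le_normalizer_thompsonSubgroupOf 2 T)).trans
        (normalizer_le_omegaCenterOf _)) ht) a).1 ha.1, ?_⟩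
    rw [wOf_map]
    exact ⟨a, ha.2, rfl⟩
  -- `T` centralizes `w`
  have hTw : ∀ t ∈ T, t * w * t⁻¹ = w := by
    intro t ht
    by_contra htw
    have htw' : t * w * t⁻¹ ≠ 1 := fun h => hw1 (conj_eq_one_iff.1 h)
    set K'' := K.map (MulAut.conj t).toMonoidHom with hK''def
    have hK'' : K'' ∈ family T K := E.family_conj hK hKin ht
    have hK''ne : K'' ≠ K := fun h => htw (huniq K hK.comp _ (h ▸ hmapw K t w ht hw) w hw htw' hw1)
    have hK''eq : K'' = K' := by
      by_contra h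
      have h1 := E.w_mem_c0 hK hK'' hKin hK''ne (hmapw K t w ht hw)
      have h2 := E.w_mem_c0 hK hK'' hK' h (hmapw K t w ht hw)
      have e1 := eq_of_card_two hc0K h1 hw'c htw' hw'1
      have hc0K' : Nat.card (c0 T K') = 2 := by
        have := card_zJ E.two hK'.1
        omega
      have e2 := eq_of_card_two hc0K' h2 hwc' htw' hw1
      exact hww' (e2.symm.trans e1)
    have hK'M : ¬ K' ≤ M := by
      rw [← hK''eq]
      intro h
      apply hK.notLe
      intro k hk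
      have h1 : t * k * t⁻¹ ∈ M := h ⟨k, hk, rfl⟩
      have := mul_mem (mul_mem (inv_mem (E.le_M ht)) h1) (E.le_M ht)
      rwa [show t⁻¹ * (t * k * t⁻¹) * t = k by group] at this
    have hK2fix : K₂.map (MulAut.conj t).toMonoidHom = K₂ := by
      by_contra h
      have hm := E.family_conj hK₂ (self_mem hK₂.comp) ht
      have h1 := E.w_mem_c0 hK₂ (self_mem hK₂.comp) hm (Ne.symm h) hw2
      have hfm : family T (K₂.map (MulAut.conj t).toMonoidHom) = family T K₂ :=
        E.family_eq hK₂.comp hK₂.notLe hm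
      rcases hw2cases with e | e <;> rw [e] at h1
      · have := E.family_eq_of_c0 hK'.1 hK'M hm.1 hwc' h1 hw1
        exact hne (hfK'.symm.trans (this.symm.trans hfm))
      · have := E.family_eq_of_c0 hK.comp hK.notLe hm.1 hw'c h1 hw'1
        exact hne (this.symm.trans hfm)
    have hfix : t * w2 * t⁻¹ = w2 :=
      huniq K₂ hK₂.comp _ (hK2fix ▸ hmapw K₂ t w2 ht hw2) w2 hw2 (fun h => hw21 (conj_eq_one_iff.1 h)) hw21
    rcases hw2cases with e | e <;> rw [e] at hfix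
    · exact htw hfix
    · have h3 : t * w * t⁻¹ = w' :=
        huniq K' hK'.1 _ (hK''eq ▸ hmapw K t w ht hw) w' hw' htw' hw'1
      exact hww' (mul_left_cancel (mul_right_cancel (h3.trans hfix.symm)))
  have hTw' : ∀ t ∈ T, t * w' * t⁻¹ = w' := by
    intro t ht
    have h1 : t * w' * t⁻¹ ∈ zJ T ⊓ Cfsg.wOf (K'.map (MulAut.conj t).toMonoidHom) := hmapw K' t w' ht hw'
    have hne1 : t * w' * t⁻¹ ≠ 1 := fun h => hw'1 (conj_eq_one_iff.1 h)
    rcases hlist _ h1.1 with h | h | h | h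
    · exact absurd h hne1
    · exfalso; apply hww'
      refine (mul_left_cancel (a := t) (mul_right_cancel (b := t⁻¹) ?_) : w' = w).symm
      rw [h, hTw t ht]
    · exact h
    · exfalso
      -- `K'^t` would share an involution with `c2`
      have hm := E.family_conj hK hK' ht
      have hmne : K'.map (MulAut.conj t).toMonoidHom ≠ K := by
        intro e
        apply hww'
        have hww : t * w' * t⁻¹ = w := huniq K hK.comp _ (e ▸ h1) w hw hne1 hw1
        exact (mul_left_cancel (mul_right_cancel (hww.trans (hTw t ht).symm))).symm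
      have h2 := E.w_mem_c0 hK hm hKin hmne h1
      have := eq_of_card_two hc0K h2 hw'c hne1 hw'1
      rw [h] at this
      exact hw1 (mul_eq_right.1 this)
  have hcomm : ∀ a : G, (∀ t ∈ T, t * a * t⁻¹ = a) → ∀ t ∈ T, t * a = a * t := fun a h t ht =>
    mul_inv_eq_iff_eq_mul.1 (h t ht)
  have hTw2 : ∀ t ∈ T, t * w2 = w2 * t := by
    rcases hw2cases with e | e <;> rw [e]
    · exact hcomm w hTw
    · exact hcomm w' hTw'
  -- choose the component sharing the involution of `K₂`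
  obtain ⟨Ks, hKs, hws⟩ : ∃ Ks ∈ family T K, w2 ∈ zJ T ⊓ Cfsg.wOf Ks := by
    rcases hw2cases with e | e
    · exact ⟨K, hKin, e ▸ hw⟩
    · exact ⟨K', hK', e ▸ hw'⟩
  have hK2ns : K₂ ∉ family T Ks := by
    intro h
    rw [E.family_eq hK.comp hK.notLe hKs] at h
    exact hne (E.family_eq hK.comp hK.notLe h).symm
  have A := E.amal_of hKs.1 hK₂.comp hK2ns (Or.inr hK₂.notLe)
    (E.normalizes_of_central hK hKs hws hw21 hTw2)
    (E.normalizes_of_central hK₂ (self_mem hK₂.comp) hw2 hw21 hTw2)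
    (E.core_le_T hK hKs) (E.core_le_T hK₂ (self_mem hK₂.comp))
    hws.2 hw21 hTw2 hw2.2 hw21 hTw2
  have hQ := (shape_of_amal A rfl).1 true
  simp only [if_pos] at hQ
  -- both fours-groups of the family lie in `C_T(W(Ks))`
  have hWT : ∀ K₁ ∈ family T K, Cfsg.wOf K₁ ≤ T := fun K₁ h => by
    obtain ⟨A₁, a₁, y₁, F₁⟩ := exists_frame (pre_of E.two h.1)
    exact F₁.W_le_core.trans (E.core_le_T hK h)
  have hle : ∀ K₁ ∈ family T K, Cfsg.wOf K₁ ≤ Cfsg.wOf Ks ⊔ zJ T := by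
    intro K₁ h x hx
    refine hQ ⟨hWT K₁ h hx, ?_⟩
    obtain ⟨A₁, a₁, y₁, F₁⟩ := exists_frame (pre_of E.two h.1)
    by_cases hh : K₁ = Ks
    · subst hh
      exact Subgroup.mem_centralizer_iff.2 fun z hz =>
        Thompson.commute_of_isElementaryAbelian F₁.W_ea hz hx
    · exact Subgroup.centralizer_le (SetLike.coe_subset_coe.2 (wOf_le_self' Ks))
        (Subgroup.le_centralizer_iff.1 (E.family_pair hK h hKs hh).2 hx)
  obtain ⟨As, as_, ys, Fs⟩ := exists_frame (pre_of E.two hKs.1)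
  obtain ⟨A1, a1, y1, F1⟩ := exists_frame (pre_of E.two hK.comp)
  obtain ⟨A2, a2, y2, F2⟩ := exists_frame (pre_of E.two hK'.1)
  have hEea : Cfsg.IsElementaryAbelian 2 (Cfsg.wOf Ks ⊔ zJ T) := by
    refine sup_ea Fs.W_ea (zJ_ea T) ?_
    rw [Subgroup.le_centralizer_iff]
    intro z hz
    refine Subgroup.mem_centralizer_iff.2 fun x hx => ?_
    refine (?_ : Commute x z).eq
    have hzc : ∀ t ∈ T, t * z = z * t := by
      intro t ht
      rcases hlist z hz with e | e | e | e <;> subst e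
      · simp
      · exact hcomm _ hTw t ht
      · exact hcomm _ hTw' t ht
      · exact ((show Commute t w from hcomm _ hTw t ht).mul_right (hcomm _ hTw' t ht)).eq
    exact hzc x (hWT Ks hKs hx)
  have h16 : 16 ≤ Nat.card (Cfsg.wOf Ks ⊔ zJ T : Subgroup G) := by
    have h := card_sup_inf hEea (hle K hKin) (hle K' hK')
    rw [(E.family_pair hK hKin hK' (Ne.symm hKK')).1, Subgroup.card_bot, mul_one,
      hK.comp.2.2.2.2.1, hK'.1.2.2.2.2.1] at h
    have := Subgroup.card_le_of_le (sup_le (hle K hKin) (hle K' hK'))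
    omega
  have h8 := card_sup_inf hEea (le_sup_left : Cfsg.wOf Ks ≤ _) (le_sup_right : zJ T ≤ _)
  have hinf : Nat.card (zJ T ⊓ Cfsg.wOf Ks : Subgroup G) = 2 := card_zJ_inf E.two hKs.1
  rw [inf_comm (Cfsg.wOf Ks), hinf, hz, hKs.1.2.2.2.2.1] at h8
  omega
where
  wOf_le_self' (K : Subgroup G) : Cfsg.wOf K ≤ K :=
    Subgroup.commutator_le.2 fun u hu k hk => by
      have huK : u ∈ K := CharP.opIn_le K (omegaCenterOf_le _ hu)
      rw [commutatorElement_def]
      exact mul_mem (mul_mem (mul_mem huK hk) (inv_mem huK)) (inv_mem hk)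

/-- The involutions agree. -/
theorem w_agree {K K₂ : Subgroup G} (hK : Outer T M K) (hK₂ : Outer T M K₂)
    (hne : family T K ≠ family T K₂)
    (h3 : ∀ x : G, (x ∈ Cfsg.wOf K ∨ x ∈ Cfsg.wOf K₂) → x ∈ zJ T → x ≠ 1 → x ∉ c0 T K → x ∉ c0 T K₂ →
      ¬ Subgroup.centralizer ({x} : Set G) ≤ Subgroup.normalizer (Cfsg.thompsonSubgroupOf 2 T : Set G) →
      ∃ W3 : Subgroup G, Cfsg.IsElementaryAbelian 2 W3 ∧ Nat.card W3 = 4 ∧
        Subgroup.centralizer ({x} : Set G) ≤ Subgroup.normalizer (W3 : Set G) ∧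
        ∃ c ∈ W3, c ≠ 1 ∧ (c ∈ c0 T K ∨ c ∈ c0 T K₂)) :
    ∃ w, w ≠ 1 ∧ w ∈ zJ T ⊓ Cfsg.wOf K ∧ w ∈ zJ T ⊓ Cfsg.wOf K₂ := by
  haveI : Fact (Nat.Prime 2) := ⟨Nat.prime_two⟩
  obtain ⟨hceq, hc2, hz4⟩ := E.card_bound hK hK₂ hne
  have hfK : ∀ K' ∈ family T K, K' = K := fun _ h => E.family_eq_singleton hK hK₂ hne h
  have hfK₂ : ∀ K' ∈ family T K₂, K' = K₂ := fun _ h => E.family_eq_singleton hK₂ hK hne.symm h
  obtain ⟨w, hw, hw1⟩ := exists_w E.two hK.comp
  obtain ⟨w₂, hw₂, hw₂1⟩ := exists_w E.two hK₂.comp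
  by_cases hww : w = w₂
  · exact ⟨w, hw1, hw, hww ▸ hw₂⟩
  exfalso
  have hzc := card_zJ E.two hK.comp
  have hc : Nat.card (c0 T K) = 2 := by
    by_contra h
    have h1 : Nat.card (c0 T K) = 1 := by
      have : 0 < Nat.card (c0 T K) := Nat.card_pos
      omega
    rw [h1, mul_one] at hzc
    exact hww (eq_of_card_two hzc hw.1 hw₂.1 hw1 hw₂1)
  obtain ⟨c, hcm, hc1⟩ := (Subgroup.nontrivial_iff_exists_ne_one _).1
    (Finite.one_lt_card_iff_nontrivial.1 (show 1 < Nat.card (c0 T K) by omega))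
  obtain ⟨c', hc'm, hc'1⟩ := (Subgroup.nontrivial_iff_exists_ne_one _).1
    (Finite.one_lt_card_iff_nontrivial.1 (show 1 < Nat.card (c0 T K₂) by omega))
  have hnorm : ∀ K₁, Outer T M K₁ → (∀ K' ∈ family T K₁, K' = K₁) →
      T ≤ Subgroup.normalizer (K₁ : Set G) := fun K₁ h hs t ht =>
    Subgroup.mem_normalizer_iff_map_conj_eq.2 (hs _ (E.family_conj h (self_mem h.comp) ht))
  have hTK := hnorm K hK hfK
  have hTK₂ := hnorm K₂ hK₂ hfK₂
  have hTJ : T ≤ Subgroup.normalizer (zJ T : Set G) :=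
    (Subgroup.le_normalizer.trans (Thompson.normalizer_le_normalizer_thompsonSubgroupOf 2 T)).trans
      (normalizer_le_omegaCenterOf _)
  have hfix : ∀ (K₁ : Subgroup G), T ≤ Subgroup.normalizer (K₁ : Set G) → Cfsg.IsJComponent T K₁ →
      (∀ x ∈ zJ T ⊓ Cfsg.wOf K₁, x ≠ 1 → ∀ t ∈ T, t * x = x * t) ∧
      (∀ x ∈ c0 T K₁, x ≠ 1 → Nat.card (c0 T K₁) = 2 → ∀ t ∈ T, t * x = x * t) := by
    intro K₁ hn hc₁
    constructor
    · intro x hx hx1 t ht
      refine mul_inv_eq_iff_eq_mul.1 (eq_of_card_two (card_zJ_inf E.two hc₁) ?_ hx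
        (fun h => hx1 (conj_eq_one_iff.1 h)) hx1)
      exact ⟨(Subgroup.mem_normalizer_iff.1 (hTJ ht) x).1 hx.1,
        (Subgroup.mem_normalizer_iff.1 ((hn.trans (normalizer_le_wOf K₁)) ht) x).1 hx.2⟩
    · intro x hx hx1 h2 t ht
      refine mul_inv_eq_iff_eq_mul.1 (eq_of_card_two h2 ?_ hx (fun h => hx1 (conj_eq_one_iff.1 h)) hx1)
      refine ⟨(Subgroup.mem_normalizer_iff.1 (hTJ ht) x).1 hx.1, Subgroup.mem_centralizer_iff.2 fun k hk => ?_⟩
      have hk' := (Subgroup.mem_normalizer_iff.1 (hn (inv_mem ht)) k).1 hk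
      rw [inv_inv] at hk'
      have := Subgroup.mem_centralizer_iff.1 hx.2 _ hk'
      calc k * (t * x * t⁻¹) = t * ((t⁻¹ * k * t) * x) * t⁻¹ := by group
        _ = t * x * t⁻¹ * k := by rw [this]; group
  have hne' : K₂ ∉ family T K := fun h => hne (E.family_eq hK.comp hK.notLe h).symm
  have A := E.amal_of hK.comp hK₂.comp hne' (Or.inl hK.notLe) hTK hTK₂
    (E.core_le_T hK (self_mem hK.comp)) (E.core_le_T hK₂ (self_mem hK₂.comp))
    hw.2 hw1 ((hfix K hTK hK.comp).1 w hw hw1) hw₂.2 hw₂1 ((hfix K₂ hTK₂ hK₂.comp).1 w₂ hw₂ hw₂1)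
  have hcne : c ≠ c' := fun h => hne (E.family_eq_of_c0 hK.comp hK.notLe hK₂.comp hcm (h ▸ hc'm) hc1).symm
  have hz : Nat.card (zJ T) = 4 := by omega
  have hcT := (hfix K hTK hK.comp).2 c hcm hc1 hc
  have hc'T := (hfix K₂ hTK₂ hK₂.comp).2 c' hc'm hc'1 (by omega)
  -- centralizers of the `c`'s and conjugation
  have hcen : ∀ K₁, Outer T M K₁ → (∀ K' ∈ family T K₁, K' = K₁) → ∀ x ∈ c0 T K₁, x ≠ 1 →
      ∃ L V C Aa P, Loc L T V C Aa P ∧ L ≤ Subgroup.normalizer (K₁ : Set G) ∧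
        Subgroup.centralizer ({x} : Set G) ≤ L ∧
        ∀ K' : Subgroup G, Cfsg.IsJComponent T K' → K' ≤ L → K' = K₁ := by
    intro K₁ hK₁ hs x hx hx1
    obtain ⟨L, V, C, Aa, P, X, hLmax, -, hKT, -, hmem⟩ := E.exists_L hK₁
    have hKJ : K₁ ⊔ Cfsg.thompsonSubgroupOf 2 T ≤ L :=
      (sup_le_sup_left (Thompson.thompsonSubgroupOf_le 2 T) K₁).trans hKT
    have hEg : sSup (family T K₁) ⊔ Cfsg.thompsonSubgroupOf 2 T = K₁ ⊔ Cfsg.thompsonSubgroupOf 2 T :=
      le_antisymm (sup_le_sup_right (sSup_le fun K' h => (hs K' h).le) _)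
        (sup_le_sup_right (le_sSup (self_mem hK₁.comp)) _)
    refine ⟨L, V, C, Aa, P, X, ?_, ?_, fun K' h1 h2 => hs K' (hmem K' h1 h2)⟩
    · refine (E.le_normalizer_family hK₁.comp hK₁.notLe hLmax.1 hKJ).trans ?_
      rw [hEg]
      exact normalizer_sup_le E.two hK₁.comp
    · rw [E.maximal_eq hK₁.comp hK₁.notLe hLmax hKJ]
      refine le_trans ?_ (CharP.normalizer_le_normalizer_opIn _)
      have hxN : Subgroup.centralizer ({x} : Set G) =
          Subgroup.normalizer ((Subgroup.zpowers x : Subgroup G) : Set G) := by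
        refine le_antisymm ?_ ?_
        · refine le_trans ?_ (Subgroup.centralizer_le_normalizer _)
          rw [Subgroup.zpowers_eq_closure, Subgroup.centralizer_closure]
        · intro g hg
          refine Subgroup.mem_centralizer_singleton_iff.2 (mul_inv_eq_iff_eq_mul.1 ?_)
          have h1 := (Subgroup.mem_normalizer_iff.1 hg x).1 (Subgroup.mem_zpowers x)
          obtain ⟨i, hi⟩ := Subgroup.mem_zpowers_iff.1 h1
          rcases Int.even_or_odd i with ⟨j, hj⟩ | ⟨j, hj⟩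
          · exfalso
            apply hx1
            rw [hj, ← two_mul, zpow_mul, zpow_two, zJ_sq hx.1, one_zpow] at hi
            exact conj_eq_one_iff.1 hi.symm
          · rw [hj, zpow_add, zpow_mul, zpow_two, zJ_sq hx.1, one_zpow, one_mul, zpow_one] at hi
            exact hi.symm
      rw [hxN]
      refine E.le_normalizer_family hK₁.comp hK₁.notLe
        ⟨_, E.two.to_le (Subgroup.zpowers_le.2 (zJ_le T hx.1)), Subgroup.zpowers_ne_bot.2 hx1, rfl⟩ ?_
      rw [← hxN]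
      intro g hg
      exact Subgroup.mem_centralizer_singleton_iff.2 (c0_comm_sup E.two hK₁.comp hx hg)
  set Wf : Bool → Subgroup G := fun b => if b then Cfsg.wOf K else Cfsg.wOf K₂ with hWf
  set cf : Bool → G := fun b => if b then c else c' with hcf
  set Kf : Bool → Subgroup G := fun b => if b then K else K₂ with hKf
  have hO : ∀ b, Outer T M (Kf b) := fun b => by cases b <;> [exact hK₂; exact hK]
  have hs : ∀ b, ∀ K' ∈ family T (Kf b), K' = Kf b := fun b => by cases b <;> [exact hfK₂; exact hfK]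
  have hcfm : ∀ b, cf b ∈ c0 T (Kf b) := fun b => by cases b <;> [exact hc'm; exact hcm]
  have hcf1 : ∀ b, cf b ≠ 1 := fun b => by cases b <;> [exact hc'1; exact hc1]
  have hcfT : ∀ b, ∀ t ∈ T, t * cf b = cf b * t := fun b => by cases b <;> [exact hc'T; exact hcT]
  have D : Amalgam.CData T (Cfsg.thompsonSubgroupOf 2 T) (fun b => if b then K ⊔ T else K₂ ⊔ T) Wf
      (fun b => if b then w else w₂) cf := {
    hT2 := E.two
    hcT := fun b => zJ_le T (hcfm b).1
    hcP := fun b p hp => by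
      have hle : Kf b ⊔ T ≤ Subgroup.centralizer ({cf b} : Set G) := sup_le
        (fun z hz => Subgroup.mem_centralizer_singleton_iff.2
          (Subgroup.mem_centralizer_iff.1 (hcfm b).2 z hz))
        (fun z hz => Subgroup.mem_centralizer_singleton_iff.2 (hcfT b z hz))
      refine Subgroup.mem_centralizer_singleton_iff.1 (hle ?_)
      cases b <;> exact hp
    hc1 := hcf1
    hc2 := fun b => zJ_sq (hcfm b).1
    hne := hcne
    hZ := fun b x hxT hxc hx2 => by
      refine four_list (zJ_ea T) hz (hcfm b).1 (hcfm (!b)).1 (mem_zJ_of_central hxT hxc hx2)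
        (hcf1 b) (hcf1 _) ?_
      cases b
      · exact hcne.symm
      · exact hcne
    hcW := fun b b' g hg => by
      obtain ⟨L, V, C, Aa, P, X, hLN, hCL, huniq⟩ := hcen _ (hO b) (hs b) _ (hcfm b) (hcf1 b)
      have hg' : ∀ k, k * cf b' = cf b' * k → g * k * g⁻¹ ∈ L := fun k hk => hCL
        (Subgroup.mem_centralizer_singleton_iff.2 (by
          rw [← hg]
          calc g * k * g⁻¹ * (g * cf b' * g⁻¹) = g * (k * cf b') * g⁻¹ := by group
            _ = _ := by rw [hk]; group))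
      set T' := T.map (MulAut.conj g).toMonoidHom with hT'
      have hT'L : T' ≤ L := by
        rintro _ ⟨t, ht, rfl⟩
        exact hg' t (hcfT b' t ht)
      obtain ⟨l, hl, hle⟩ := exists_conj_le X.hT hT'L (E.two.map _)
      have heq : T'.map (MulAut.conj l).toMonoidHom = T := by
        refine Subgroup.eq_of_le_of_card_ge hle ?_
        rw [Subgroup.card_map_of_injective (MulAut.conj l).injective, hT',
          Subgroup.card_map_of_injective (MulAut.conj g).injective]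
      have hcomp := isJComponent_map l (isJComponent_map g (hO b').comp)
      rw [← hT', heq] at hcomp
      have hmapK := huniq _ hcomp (by
        rintro _ ⟨_, ⟨k, hk, rfl⟩, rfl⟩
        exact mul_mem (mul_mem hl (hg' k (Subgroup.mem_centralizer_iff.1 (hcfm b').2 k hk)))
          (inv_mem (s := L) hl))
      have hlK : (Kf b).map (MulAut.conj l).toMonoidHom = Kf b :=
        Subgroup.mem_normalizer_iff_map_conj_eq.1 (hLN hl)
      have hgK : (Kf b').map (MulAut.conj g).toMonoidHom = Kf b :=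
        Subgroup.map_injective (MulAut.conj l).injective (hmapK.trans hlK.symm)
      have := congrArg Cfsg.wOf hgK
      rw [wOf_map] at this
      cases b <;> cases b' <;> exact this
    hcent := fun b g hg => by
      obtain ⟨L, V, C, Aa, P, X, hLN, hCL, -⟩ := hcen _ (hO b) (hs b) _ (hcfm b) (hcf1 b)
      have := normalizer_le_wOf _ (hLN (hCL (Subgroup.mem_centralizer_singleton_iff.2 hg)))
      cases b <;> exact this
    hJT := Thompson.thompsonSubgroupOf_le 2 T
    hJ := fun b => by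
      obtain ⟨A', a, y, F⟩ := exists_frame (pre_of E.two (hO b).comp)
      intro h
      have hD2 := (F.main (wOf_ne_bot (hO b).comp)).1
      have hWb : Wf b = Cfsg.wOf (Kf b) := by cases b <;> rfl
      rw [hWb] at h
      rw [inf_eq_left.2 (fun x hx => Subgroup.mem_centralizer_singleton_iff.2
        (Subgroup.mem_centralizer_iff.1 (h F.haJ) x hx))] at hD2
      have := (hO b).comp.2.2.2.2.1
      omega
    hodd := fun b => by
      obtain ⟨A', a, y, F⟩ := exists_frame (pre_of E.two (hO b).comp)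
      refine ⟨y, ?_, fun h => F.hyQ ?_, F.hyo⟩
      · cases b <;> exact Subgroup.mem_sup_left F.hy
      · rw [eq_one_of_odd_two F.hyo E.two h]; exact one_mem _
    hthird := fun b hb hnle => by
      set x := (if b then w else w₂) with hx
      have hxW : x ∈ Cfsg.wOf K ∨ x ∈ Cfsg.wOf K₂ := by
        cases b
        · exact Or.inr hw₂.2
        · exact Or.inl hw.2
      have hxe : x = c * c' := by
        rw [hb]
        cases b
        · exact ((show Commute c' c from hcT c' (zJ_le T hc'm.1))).eq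
        · rfl
      have hnot : ∀ b, x ∉ c0 T (Kf b) := by
        intro d hd
        have hcard : Nat.card (c0 T (Kf d)) = 2 := by cases d <;> [exact hceq ▸ hc; exact hc]
        have hx1' : x ≠ 1 := by
          rw [hxe]; intro h
          exact hcne (by rw [eq_inv_of_mul_eq_one_left h, inv_eq_of_mul_eq_one_right (zJ_sq hc'm.1)])
        have h := eq_of_card_two hcard hd (hcfm d) hx1' (hcf1 d)
        rw [hxe] at h
        cases d
        · exact hc1 (mul_eq_right.1 h)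
        · exact hc'1 (mul_eq_left.1 h)
      obtain ⟨W3, h1, h2, h3', e, he, he1, he2⟩ := h3 x hxW
        (by rw [hxe]; exact mul_mem hcm.1 hc'm.1)
        (by cases b <;> [exact hw₂1; exact hw1]) (hnot true) (hnot false) hnle
      refine ⟨W3, h1, h2, h3', e, he, ?_⟩
      rcases he2 with h | h
      · exact Or.inl (eq_of_card_two hc h hcm he1 hc1)
      · exact Or.inr (eq_of_card_two (hceq ▸ hc) h hc'm he1 hc'1) }
  exact hww (D.w_eq A)

end Setting

end Cfsg.Agent.JComp
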