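import Cfsg.Agent.Lib.JComp.Orbit
import Cfsg.Agent.Lib.Solvable.Fitting

/-!
A component for a conjugate of `T` inside a member of `ℒ(T)` is a component for `T`.
-/

set_option autoImplicit false
set_option linter.style.haveILetI false
set_option linter.unusedSectionVars false
open scoped commutatorElement Pointwise

namespace Cfsg.Agent.JComp

open Cfsg.Agent

universe u

variable {G : Type u} [Group G] [Finite G]

omit [Finite G] in
theorem ea_mono {A B : Subgroup G} (hB : Cfsg.IsElementaryAbelian 2 B) (h : A ≤ B) :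
    Cfsg.IsElementaryAbelian 2 A :=
  ⟨⟨⟨fun a b => Subtype.ext (Thompson.commute_of_isElementaryAbelian hB (h a.2) (h b.2))⟩⟩,
    fun a ha => hB.2 a (h ha)⟩

omit [Finite G] in
theorem card_mul_relIndex' {H K : Subgroup G} (h : H ≤ K) :
    Nat.card H * H.relIndex K = Nat.card K := by
  rw [← Subgroup.relIndex_bot_left, ← Subgroup.relIndex_bot_left]
  exact Subgroup.relIndex_mul_relIndex _ _ _ bot_le h

/-- An offending `A` normalizes `W`. -/
theorem offender_normalizes {V W A : Subgroup G} {y : G} (hV : Cfsg.IsElementaryAbelian 2 V)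
    (hA : Cfsg.IsElementaryAbelian 2 A) (hAV : A ≤ Subgroup.normalizer (V : Set G)) (hWV : W ≤ V)
    (hW4 : Nat.card W = 4) (hyV : ∀ v ∈ V, ⁅y, v⁆ ∈ W) (hfpf : ∀ w ∈ W, y * w = w * y → w = 1)
    (hpair : ∀ a ∈ A, a ∉ Subgroup.normalizer (W : Set G) →
      ∀ w ∈ W, (a * y * a⁻¹) * w = w * (a * y * a⁻¹))
    (hoff : ∀ B : Subgroup G, B ≤ A →
      Nat.card B * Nat.card (V ⊓ Subgroup.centralizer (B : Set G) : Subgroup G) ≤
        Nat.card A * Nat.card (V ⊓ Subgroup.centralizer (A : Set G) : Subgroup G)) :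
    A ≤ Subgroup.normalizer (W : Set G) := by
  haveI : Fact (Nat.Prime 2) := ⟨Nat.prime_two⟩
  have hVc : ∀ a ∈ V, ∀ b ∈ V, a * b = b * a := fun a ha b hb =>
    Thompson.commute_of_isElementaryAbelian hV ha hb
  letI : CommGroup V :=
    { (inferInstance : Group V) with mul_comm := fun a b => Subtype.ext (hVc _ a.2 _ b.2) }
  set B := A ⊓ Subgroup.centralizer (W : Set G) with hB
  set N' := A ⊓ Subgroup.normalizer (W : Set G) with hN'
  have hBN : B ≤ N' := inf_le_inf_left _ (Subgroup.centralizer_le_normalizer _)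
  set C := W ⊓ Subgroup.centralizer (N' : Set G) with hC
  set ρ : A →* MulAut V := V.normalizerMonoidHom.comp (Subgroup.inclusion hAV) with hρ
  have hρ_apply : ∀ (a : A) (v : V), ((ρ a v : V) : G) = (a : G) * v * (a : G)⁻¹ := fun a v => rfl
  let σ : V →* V :=
    { toFun := fun v => ⟨⁅y, (v : G)⁆, hWV (hyV v v.2)⟩
      map_one' := Subtype.ext (commutatorElement_one_right y)
      map_mul' := fun u v => Subtype.ext (by
        show ⁅y, (u : G) * v⁆ = ⁅y, (u : G)⁆ * ⁅y, (v : G)⁆
        have h := hVc _ u.2 _ (hWV (hyV v v.2))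
        calc ⁅y, (u : G) * v⁆ = ⁅y, (u : G)⁆ * ((u : G) * ⁅y, (v : G)⁆ * (u : G)⁻¹) := by
              simp only [commutatorElement_def]; group
          _ = _ := by rw [h, mul_inv_cancel_right]) }
  set Fa := (V ⊓ Subgroup.centralizer (A : Set G)).subgroupOf V with hFa
  set Fb := (V ⊓ Subgroup.centralizer (B : Set G)).subgroupOf V with hFb
  have hWn : ∀ n ∈ N', ∀ w ∈ W, n * w * n⁻¹ ∈ W := fun n hn w hw =>
    (Subgroup.mem_normalizer_iff.1 hn.2 w).1 hw
  have key := orbit_bound ρ (W.subgroupOf V) ((Subgroup.normalizer (W : Set G)).subgroupOf A) σ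
    (fun v => hyV v v.2)
    (fun w hw h => Subtype.ext (hfpf _ hw (commutatorElement_eq_one_iff_mul_comm.1
      (congrArg Subtype.val h))))
    (fun n hn w hw => hWn n ⟨n.2, hn⟩ w hw)
    (fun x hx w hw => Subtype.ext (by
      show ⁅y, ((ρ x w : V) : G)⁆ = 1
      rw [hρ_apply, commutatorElement_eq_one_iff_mul_comm]
      have hx2 : (x : G)⁻¹ = x := inv_eq_of_mul_eq_one_right (by
        rw [← pow_two]; exact hA.2 x x.2)
      have h := hpair _ x.2 hx w hw
      rw [hx2] at h ⊢
      have h1 : (x : G) * x = 1 := by rw [← pow_two]; exact hA.2 x x.2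
      calc y * ((x : G) * w * x) = (x : G) * x * y * (x * w * x) := by rw [h1, one_mul]
        _ = (x : G) * ((x : G) * y * x * w) * x := by group
        _ = (x : G) * ((w : G) * (x * y * x)) * x := by rw [h]
        _ = (x : G) * w * x * y * (x * x) := by group
        _ = _ := by rw [h1, mul_one]))
    Fa Fb (C.subgroupOf V)
    (fun v hv x => Subtype.ext (by
      have h := Subgroup.mem_centralizer_iff.1 hv.2 x x.2
      show (x : G) * (v : G) * (x : G)⁻¹ = v
      exact mul_inv_eq_iff_eq_mul.2 h))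
    (fun x w hw => ⟨(ρ x w).2, Subgroup.mem_centralizer_iff.2 fun b hb => by
      show b * ((x : G) * (w : G) * (x : G)⁻¹) = (x : G) * (w : G) * (x : G)⁻¹ * b
      have hbx : Commute b (x : G) := Thompson.commute_of_isElementaryAbelian hA hb.1 x.2
      have hbw : Commute b (w : G) := (Subgroup.mem_centralizer_iff.1 hb.2 w hw).symm
      exact ((hbx.mul_right hbw).mul_right hbx.inv_right).eq⟩)
    (fun w hw hw' => ⟨hw, Subgroup.mem_centralizer_iff.2 fun n hn => by
      have h := congrArg Subtype.val (hw' ⟨n, hn.1⟩ hn.2)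
      rw [hρ_apply] at h
      exact mul_inv_eq_iff_eq_mul.1 h⟩)
  rw [Nat.card_congr (Subgroup.subgroupOfEquivOfLe hWV).toEquiv, hW4,
    Nat.card_congr (Subgroup.subgroupOfEquivOfLe (inf_le_left.trans hWV : C ≤ V)).toEquiv] at key
  -- the offender bound
  have hr : Fa.relIndex Fb ≤ B.relIndex A := by
    have hle : Fa ≤ Fb := Subgroup.comap_mono
      (inf_le_inf_left _ (Subgroup.centralizer_le (inf_le_left : B ≤ A)))
    have h1 := hoff B inf_le_left
    rw [← Nat.card_congr (Subgroup.subgroupOfEquivOfLe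
        (inf_le_left : V ⊓ Subgroup.centralizer (B : Set G) ≤ V)).toEquiv,
      ← Nat.card_congr (Subgroup.subgroupOfEquivOfLe
        (inf_le_left : V ⊓ Subgroup.centralizer (A : Set G) ≤ V)).toEquiv, ← hFa, ← hFb,
      ← card_mul_relIndex' (H := Fa) (K := Fb) hle,
      ← card_mul_relIndex' (H := B) (K := A) inf_le_left] at h1
    have hb : 0 < Nat.card B * Nat.card Fa := Nat.mul_pos Nat.card_pos Nat.card_pos
    refine Nat.le_of_mul_le_mul_left ?_ hb
    calc Nat.card B * Nat.card Fa * Fa.relIndex Fb = Nat.card B * (Nat.card Fa * Fa.relIndex Fb) :=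
          mul_assoc _ _ _
      _ ≤ Nat.card B * B.relIndex A * Nat.card Fa := h1
      _ = _ := by ring
  have hmul : B.relIndex A = B.relIndex N' * N'.relIndex A :=
    (Subgroup.relIndex_mul_relIndex B N' A hBN inf_le_left).symm
  have hNidx : ((Subgroup.normalizer (W : Set G)).subgroupOf A).index = N'.relIndex A := by
    rw [hN', Subgroup.inf_relIndex_left]
    rfl
  -- `|N' : B| * |C| ≤ 4`
  have hdc : B.relIndex N' * Nat.card C ≤ 4 := by
    by_cases hNW : N' ≤ Subgroup.centralizer (W : Set G)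
    · rw [Subgroup.relIndex_eq_one.2 (le_inf inf_le_left hNW : N' ≤ B), one_mul, ← hW4]
      exact Subgroup.card_le_of_le inf_le_left
    obtain ⟨n0, hn0, hn0'⟩ := SetLike.not_le_iff_exists.1 hNW
    have hW1 : W ≠ ⊥ := fun h => by rw [h, Subgroup.card_bot] at hW4; omega
    have hC1 : C ≠ ⊥ := inf_centralizer_ne_bot (FF.isPGroup_of_ea (ea_mono hA inf_le_left))
      (FF.isPGroup_of_ea (ea_mono hV hWV)) inf_le_right hW1
    obtain ⟨z, hz, hz1⟩ := SetLike.exists_of_lt (bot_lt_iff_ne_bot.2 hC1)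
    rw [Subgroup.mem_bot] at hz1
    have hC2 : Nat.card C = 2 := by
      have hd : Nat.card C ∣ Nat.card W := Subgroup.card_dvd_of_le inf_le_left
      rw [hW4] at hd
      have h1 := (Subgroup.one_lt_card_iff_ne_bot C).2 hC1
      have h4 : Nat.card C ≠ 4 := by
        intro h
        apply hn0'
        have hCW := Subgroup.eq_of_le_of_card_ge (inf_le_left : C ≤ W) (by rw [h, hW4])
        have hWc : W ≤ Subgroup.centralizer (N' : Set G) := hCW ▸ inf_le_right
        exact Subgroup.le_centralizer_iff.1 hWc hn0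
      have := Nat.le_of_dvd (by norm_num) hd
      rcases (show Nat.card C = 2 ∨ Nat.card C = 3 ∨ Nat.card C = 4 by omega) with h | h | h
      · exact h
      · rw [h] at hd; norm_num at hd
      · exact absurd h h4
    have hCeq : ∀ c ∈ C, c = 1 ∨ c = z := by
      intro c hc
      by_contra hcon
      push Not at hcon
      have h3 : ({(1 : G), z, c} : Set G).ncard = 3 :=
        Set.ncard_eq_three.2 ⟨1, z, c, Ne.symm hz1, Ne.symm hcon.1, Ne.symm hcon.2, rfl⟩
      have h4 : ({(1 : G), z, c} : Set G).ncard ≤ (C : Set G).ncard := by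
        refine Set.ncard_le_ncard ?_ (Set.toFinite _)
        rintro x (rfl | rfl | rfl)
        · exact one_mem C
        · exact hz
        · exact hc
      rw [h3, ← Nat.card_coe_set_eq] at h4
      simp only [SetLike.coe_sort_coe] at h4
      omega
    obtain ⟨w, hw, hwC⟩ := SetLike.not_le_iff_exists.1
      (fun h : W ≤ C => by have := Subgroup.card_le_of_le h; omega)
    have hzW : z ∈ W := hz.1
    have hz2 : z * z = 1 := by rw [← pow_two]; exact hV.2 z (hWV hzW)
    -- every element moves `w` to `w` or `z w`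
    have hmove : ∀ n ∈ N', n * w * n⁻¹ = w ∨ n * w * n⁻¹ = z * w := by
      intro n hn
      by_contra hcon
      push Not at hcon
      have hnz : n * z * n⁻¹ = z := mul_inv_eq_iff_eq_mul.2 (Subgroup.mem_centralizer_iff.1 hz.2 n hn)
      have hw1 : w ≠ 1 := fun h => hwC (h ▸ one_mem C)
      have hwz : w ≠ z := fun h => hwC (h ▸ hz)
      have hzw1 : z * w ≠ 1 := fun h => hwz (mul_left_cancel (h.trans hz2.symm))
      have hzwz : z * w ≠ z := fun h => hw1 (mul_eq_left.1 h)
      have hzww : z * w ≠ w := fun h => hz1 (mul_eq_right.1 h)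
      set m := n * w * n⁻¹ with hm
      have hm1 : m ≠ 1 := fun h => hw1 (by
        have := congrArg (fun x => n⁻¹ * x * n) h
        simpa [hm, mul_assoc] using this)
      have hmz : m ≠ z := fun h => hwz (by
        have := congrArg (fun x => n⁻¹ * x * n) (h.trans hnz.symm)
        simpa [hm, mul_assoc] using this)
      have h5 : ({(1 : G), z, w, z * w, m} : Set G).ncard = 5 := by
        rw [Set.ncard_insert_of_notMem (by simp [Ne.symm hz1, Ne.symm hw1, Ne.symm hzw1, Ne.symm hm1]),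
          Set.ncard_insert_of_notMem (by simp [Ne.symm hwz, Ne.symm hzwz, Ne.symm hmz]),
          Set.ncard_insert_of_notMem (by simp [Ne.symm hzww, Ne.symm hcon.1]),
          Set.ncard_insert_of_notMem (by simp [Ne.symm hcon.2]), Set.ncard_singleton]
      have h4 : ({(1 : G), z, w, z * w, m} : Set G).ncard ≤ (W : Set G).ncard := by
        refine Set.ncard_le_ncard ?_ (Set.toFinite _)
        rintro x (rfl | rfl | rfl | rfl | rfl)
        · exact one_mem W
        · exact hzW
        · exact hw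
        · exact mul_mem hzW hw
        · exact hWn n hn w hw
      rw [h5, ← Nat.card_coe_set_eq] at h4
      simp only [SetLike.coe_sort_coe] at h4
      omega
    -- fixing `w` means centralizing `W`
    have hfix : ∀ n ∈ N', n * w * n⁻¹ = w → n ∈ B := by
      intro n hn h
      refine ⟨hn.1, ?_⟩
      set D := W ⊓ Subgroup.centralizer ({n} : Set G) with hD
      have hCD : C ≤ D := inf_le_inf_left _ (Subgroup.centralizer_le (Set.singleton_subset_iff.2 hn))
      have hwD : w ∈ D := ⟨hw, Subgroup.mem_centralizer_singleton_iff.2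
        (mul_inv_eq_iff_eq_mul.1 h).symm⟩
      have hd : Nat.card D ∣ Nat.card W := Subgroup.card_dvd_of_le inf_le_left
      rw [hW4] at hd
      have hlt : C < D := lt_of_le_of_ne hCD fun e => hwC (e ▸ hwD)
      have h2 : 2 < Nat.card D := by
        rw [← hC2]
        exact lt_of_not_ge fun hh => hlt.ne (Subgroup.eq_of_le_of_card_ge hCD hh)
      have h4 := Nat.le_of_dvd (by norm_num) hd
      have hD4 : Nat.card D = 4 := by
        rcases (show Nat.card D = 3 ∨ Nat.card D = 4 by omega) with e | e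
        · rw [e] at hd; norm_num at hd
        · exact e
      have hWD := Subgroup.eq_of_le_of_card_ge (inf_le_left : D ≤ W) (by rw [hD4, hW4])
      refine Subgroup.mem_centralizer_iff.2 fun v hv => ?_
      exact Subgroup.mem_centralizer_singleton_iff.1
        ((hWD.ge hv : v ∈ D).2)
    rw [hC2]
    suffices B.relIndex N' ≤ 2 by omega
    have hn0w : n0 * w * n0⁻¹ = z * w := (hmove n0 hn0).resolve_left
      fun h => hn0' (hfix n0 hn0 h).2
    have hidx : (B.subgroupOf N').index = 2 := by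
      refine Subgroup.index_eq_two_iff.2 ⟨⟨n0, hn0⟩, fun b => ?_⟩
      rcases hmove b b.2 with h | h
      · right
        have hb : b ∈ B.subgroupOf N' := hfix b b.2 h
        refine ⟨hb, fun h' => hn0' ?_⟩
        exact (((Subgroup.mul_mem_cancel_left _ hb).1 h' : (⟨n0, hn0⟩ : N') ∈ B.subgroupOf N') : n0 ∈ B).2
      · left
        refine ⟨?_, fun hb => ?_⟩
        · refine hfix _ (mul_mem b.2 hn0) ?_
          show (b : G) * n0 * w * ((b : G) * n0)⁻¹ = w
          have hbz : (b : G) * z * (b : G)⁻¹ = z :=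
            mul_inv_eq_iff_eq_mul.2 (Subgroup.mem_centralizer_iff.1 hz.2 b b.2)
          calc (b : G) * n0 * w * ((b : G) * n0)⁻¹ = (b : G) * (n0 * w * n0⁻¹) * (b : G)⁻¹ := by group
            _ = ((b : G) * z * (b : G)⁻¹) * ((b : G) * w * (b : G)⁻¹) := by rw [hn0w]; group
            _ = w := by rw [hbz, h, ← mul_assoc, hz2, one_mul]
        · have hb' : (b : G) * w * (b : G)⁻¹ = w :=
            mul_inv_eq_iff_eq_mul.2 (Subgroup.mem_centralizer_iff.1 (show (b : G) ∈ B from hb).2 w hw).symm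
          rw [hb'] at h
          exact hz1 (mul_eq_right.1 h.symm)
    exact hidx.le
  have hk : N'.relIndex A ≤ 1 := by
    refine le_one_of_four_pow ?_
    calc 4 ^ N'.relIndex A ≤ Fa.relIndex Fb * Nat.card C := by rw [← hNidx]; exact key
      _ ≤ B.relIndex N' * N'.relIndex A * Nat.card C := by rw [← hmul]; exact Nat.mul_le_mul_right _ hr
      _ = N'.relIndex A * (B.relIndex N' * Nat.card C) := by ring
      _ ≤ _ := Nat.mul_le_mul_left _ hdc
  have hk1 : N'.relIndex A = 1 := by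
    have : N'.relIndex A ≠ 0 := Subgroup.index_ne_zero_of_finite
    omega
  exact (Subgroup.relIndex_eq_one.1 hk1).trans inf_le_right

omit [Finite G] in
/-- In `X = K R` with `R` a 2-group, every element of odd order lies in a subnormal `K`. -/
theorem odd_mem_of_isSubnormal {X : Type*} [Group X] {K : Subgroup X} (hK : K.IsSubnormal)
    (h : ∀ x : X, ∃ k ∈ K, ∃ r : X, x = k * r ∧ ∃ i : ℕ, r ^ (2 ^ i) = 1) {x : X}
    (hx : Odd (orderOf x)) : x ∈ K := by
  have key : ∀ {H : Subgroup X}, H.IsSubnormal → K ≤ H → x ∈ H := by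
    intro H hH
    induction hH with
    | top => exact fun _ => Subgroup.mem_top x
    | step H H' hle _ hn ih =>
      intro hKH
      have hxH' := ih (hKH.trans hle)
      obtain ⟨k, hk, r, hxr, i, hr⟩ := h x
      have hkH' : k ∈ H' := hle (hKH hk)
      have hrH' : r ∈ H' := by
        have := mul_mem (inv_mem hkH') hxH'
        rwa [hxr, inv_mul_cancel_left] at this
      haveI := hn
      let π := QuotientGroup.mk' (H.subgroupOf H')
      have h1 : π ⟨x, hxH'⟩ = π ⟨r, hrH'⟩ := by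
        have e : (⟨x, hxH'⟩ : H') = ⟨k, hkH'⟩ * ⟨r, hrH'⟩ := Subtype.ext hxr
        have hk1 : π ⟨k, hkH'⟩ = 1 := (QuotientGroup.eq_one_iff (⟨k, hkH'⟩ : H')).2 (hKH hk)
        rw [e, map_mul, hk1, one_mul]
      have h2 : (π ⟨x, hxH'⟩) ^ (2 ^ i) = 1 := by
        rw [h1, ← map_pow]
        exact (congrArg π (Subtype.ext hr : (⟨r, hrH'⟩ : H') ^ (2 ^ i) = 1)).trans (map_one π)
      have h3 : (π ⟨x, hxH'⟩) ^ (orderOf x) = 1 := by
        rw [← map_pow]
        exact (congrArg π (Subtype.ext (pow_orderOf_eq_one x) :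
          (⟨x, hxH'⟩ : H') ^ (orderOf x) = 1)).trans (map_one π)
      have h4 : π ⟨x, hxH'⟩ = 1 := by
        have := mem_of_coprime_pow (S := (⊥ : Subgroup (H' ⧸ H.subgroupOf H')))
          ((Nat.coprime_two_left.2 hx).pow_left i) (by rw [h2]; exact one_mem _)
          (by rw [h3]; exact one_mem _)
        rwa [Subgroup.mem_bot] at this
      exact (QuotientGroup.eq_one_iff (⟨x, hxH'⟩ : H')).1 h4
  exact key hK le_rfl

theorem isJComponent_of_conjugate (Z : ZN G) {T L K : Subgroup G} (hT : IsPGroup 2 T)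
    (hLT : L ∈ Cfsg.jOvergroups T) (hKL : K ≤ L)
    (hKsn : (K.subgroupOf (K ⊔ Cfsg.thompsonSubgroupOf 2 T)).IsSubnormal) (g : G)
    (hKg : K ∈ Cfsg.jComponentsZero (T.map (MulAut.conj g).toMonoidHom)) :
    Cfsg.IsJComponent T K := by
  haveI : Fact (Nat.Prime 2) := ⟨Nat.prime_two⟩
  set T' := T.map (MulAut.conj g).toMonoidHom with hT'
  have hT'2 : IsPGroup 2 T' := hT.map _
  set J := Cfsg.thompsonSubgroupOf 2 T with hJ
  suffices hJW : J ≤ Subgroup.normalizer (Cfsg.wOf K : Set G) by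
    have hback : T'.map (MulAut.conj g⁻¹).toMonoidHom = T := by
      rw [hT', Subgroup.map_map]
      conv_rhs => rw [← Subgroup.map_id T]
      congr 1
      ext x
      simp [mul_assoc]
    have := isJComponent_conj Z hT'2 hKg g⁻¹ (by rw [hback]; exact hJW)
    rwa [hback] at this
  obtain ⟨A', a', y, F⟩ := exists_frame (pre_of hT'2 hKg.1)
  set W := Cfsg.wOf K with hW
  have hW4 : Nat.card W = 4 := hKg.1.2.2.2.2.1
  set H := K ⊔ J with hH
  have hJL : J ≤ L := (Thompson.thompsonSubgroupOf_le 2 T).trans hLT.1.1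
  have hHL : H ≤ L := sup_le hKL hJL
  set R := CharP.opIn 2 H with hR
  have hRH : R ≤ H := CharP.opIn_le H
  have hR2 : IsPGroup 2 R := CharP.opIn_isPGroup H
  have hRn : H ≤ Subgroup.normalizer (R : Set G) := CharP.le_normalizer_opIn H
  set Q := Cfsg.pCoreOf 2 K with hQ
  have hQK : Q ≤ K := F.pre.core_le
  -- `Q ≤ R`
  have hQR : Q ≤ R := by
    have hsn : (Q.subgroupOf H).IsSubnormal := by
      refine Subgroup.IsSubnormal.step _ (K.subgroupOf H) (Subgroup.comap_mono hQK) hKsn ?_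
      refine (Subgroup.normal_subgroupOf_iff_le_normalizer (Subgroup.comap_mono hQK)).2 ?_
      intro k hk
      rw [Subgroup.mem_normalizer_iff]
      intro q
      show ((q : G) ∈ Q) ↔ ((k : G) * (q : G) * (k : G)⁻¹ ∈ Q)
      exact Subgroup.mem_normalizer_iff.1 (CharP.le_normalizer_opIn (p := 2) K hk) _
    have h2 : IsPGroup 2 (Q.subgroupOf H) :=
      F.pre.isPGroup_core.of_equiv (Subgroup.subgroupOfEquivOfLe (hQK.trans le_sup_left)).symm
    have := Subgroup.map_mono (f := H.subtype) (CharP.isPGroup_le_pCore_of_isSubnormal hsn h2)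
    rwa [Subgroup.map_subgroupOf_eq_of_le (hQK.trans le_sup_left)] at this
  -- `R` normalizes `K`
  have hRK : R ≤ Subgroup.normalizer (K : Set G) := by
    set X := K ⊔ R with hX
    have hXH : X ≤ H := sup_le le_sup_left hRH
    have hsn : (K.subgroupOf X).IsSubnormal := hKsn.comap (Subgroup.inclusion hXH)
    have hdec : ∀ x : X, ∃ k ∈ K.subgroupOf X, ∃ r : X, x = k * r ∧ ∃ i : ℕ, r ^ (2 ^ i) = 1 := by
      intro x
      have hx : (x : G) ∈ ((K : Set G) * (R : Set G)) := by
        rw [← Subgroup.coe_mul_of_left_le_normalizer_right K R (le_sup_left.trans hRn)]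
        exact x.2
      obtain ⟨k, hk, r, hr, e⟩ := Set.mem_mul.1 hx
      obtain ⟨i, hi⟩ := IsPGroup.iff_orderOf.1 hR2 ⟨r, hr⟩
      rw [Subgroup.orderOf_mk] at hi
      refine ⟨⟨k, le_sup_left (a := K) hk⟩, hk, ⟨r, le_sup_right (a := K) hr⟩, Subtype.ext e.symm,
        i, Subtype.ext ?_⟩
      rw [Subgroup.coe_pow, Subgroup.coe_one, ← hi, pow_orderOf_eq_one]
    refine fun r hr => ?_
    rw [Subgroup.mem_normalizer_iff_map_conj_eq]
    refine Subgroup.eq_of_le_of_card_ge ?_ (Subgroup.card_map_of_injective (MulAut.conj r).injective).ge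
    conv_lhs => rw [← F.pre.hgen]
    rw [MonoidHom.map_closure, Subgroup.closure_le]
    rintro _ ⟨x, ⟨hxK, ho⟩, rfl⟩
    have hmem : r * x * r⁻¹ ∈ X := mul_mem (mul_mem (Subgroup.mem_sup_right hr)
      (Subgroup.mem_sup_left hxK)) (inv_mem (Subgroup.mem_sup_right hr))
    exact odd_mem_of_isSubnormal hsn hdec (x := ⟨r * x * r⁻¹, hmem⟩) (by
      rw [Subgroup.orderOf_mk, ← MulAut.conj_apply, MulEquiv.orderOf_eq]; exact ho)
  have hKR : K ⊓ R ≤ Q := by
    refine CharP.le_opIn inf_le_left ?_ (hR2.to_le inf_le_right)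
    rw [Subgroup.le_normalizer_iff]
    intro k hk x hx
    exact ⟨Subgroup.mul_mem _ (Subgroup.mul_mem _ hk hx.1) (Subgroup.inv_mem _ hk),
      (Subgroup.mem_normalizer_iff.1 (hRn ((le_sup_left : K ≤ H) hk)) x).1 hx.2⟩
  have hWR : W ≤ R := F.W_le_core.trans hQR
  -- `R` centralizes `W`
  have hRW : R ≤ Subgroup.centralizer (W : Set G) := by
    set D := W ⊓ Subgroup.centralizer (R : Set G) with hD
    have hD1 : D ≠ ⊥ := inf_centralizer_ne_bot hR2 (FF.isPGroup_of_ea F.W_ea)
      (hRK.trans (normalizer_le_wOf K)) (wOf_ne_bot hKg.1)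
    obtain ⟨z, hz, hz1⟩ := SetLike.exists_of_lt (bot_lt_iff_ne_bot.2 hD1)
    rw [Subgroup.mem_bot] at hz1
    have hyz : y * z * y⁻¹ ∈ D := by
      refine ⟨F.conjW (Subgroup.le_normalizer F.hy) hz.1, Subgroup.mem_centralizer_iff.2 fun r hr => ?_⟩
      have hq : ⁅r, y⁆ ∈ Q := hKR ⟨by
          rw [commutatorElement_def]
          exact Subgroup.mul_mem _ ((Subgroup.mem_normalizer_iff.1 (hRK hr) y).1 F.hy) (Subgroup.inv_mem _ F.hy), by
          rw [commutatorElement_def, mul_assoc, mul_assoc, ← mul_assoc y]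
          exact mul_mem hr ((Subgroup.mem_normalizer_iff.1 (hRn ((le_sup_left : K ≤ H) F.hy)) _).1
            (inv_mem hr))⟩
      have hrz : r * z * r⁻¹ = z := mul_inv_eq_iff_eq_mul.2 (Subgroup.mem_centralizer_iff.1 hz.2 r hr)
      have hfix := F.fixW hq (F.conjW (Subgroup.le_normalizer F.hy) hz.1)
      apply mul_inv_eq_iff_eq_mul.1
      calc r * (y * z * y⁻¹) * r⁻¹ = ⁅r, y⁆ * (y * (r * z * r⁻¹) * y⁻¹) * ⁅r, y⁆⁻¹ := by
            simp only [commutatorElement_def]; group
        _ = _ := by rw [hrz, hfix]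
    have hne2 : y * z * y⁻¹ ≠ z := fun h => hz1 (F.fpf hz.1 (mul_inv_eq_iff_eq_mul.1 h))
    have hne3 : y * z * y⁻¹ ≠ 1 := fun h => hz1 (by
      have := congrArg (fun x => y⁻¹ * x * y) h
      simpa [mul_assoc] using this)
    have hle : 2 < Nat.card D := by
      have h3 : ({(1 : G), z, y * z * y⁻¹} : Set G).ncard = 3 :=
        Set.ncard_eq_three.2 ⟨1, z, y * z * y⁻¹, Ne.symm hz1, hne3.symm, hne2.symm, rfl⟩
      have h4 : ({(1 : G), z, y * z * y⁻¹} : Set G).ncard ≤ (D : Set G).ncard := by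
        refine Set.ncard_le_ncard ?_ (Set.toFinite _)
        rintro x (rfl | rfl | rfl)
        · exact one_mem D
        · exact hz
        · exact hyz
      rw [h3, ← Nat.card_coe_set_eq] at h4
      simp only [SetLike.coe_sort_coe] at h4
      exact h4
    have hd : Nat.card D ∣ Nat.card W := Subgroup.card_dvd_of_le inf_le_left
    rw [hW4] at hd
    have h4' := Nat.le_of_dvd (by norm_num) hd
    have hD4 : Nat.card D = 4 := by
      rcases (show Nat.card D = 3 ∨ Nat.card D = 4 by omega) with e | e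
      · rw [e] at hd; norm_num at hd
      · exact e
    have hDW := Subgroup.eq_of_le_of_card_ge (inf_le_left : D ≤ W) (by rw [hD4, hW4])
    exact Subgroup.le_centralizer_iff.1 (hDW.ge.trans inf_le_right)
  set V := Cfsg.omegaCenterOf R with hV
  have hVea := omegaCenterOf_ea R
  have hWV : W ≤ V := fun w hw => OmegaOne.mem
    ⟨hWR hw, Subgroup.le_centralizer_iff.1 hRW hw⟩ (F.W_ea.2 w hw)
  have hHV : H ≤ Subgroup.normalizer (V : Set G) := hRn.trans (normalizer_le_omegaCenterOf R)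
  -- `[V, y] ≤ W`
  have hyV : ∀ v ∈ V, ⁅y, v⁆ ∈ W := by
    have hyH : y ∈ H := (le_sup_left : K ≤ H) F.hy
    have hyN : y ∈ Subgroup.normalizer (K : Set G) := Subgroup.le_normalizer F.hy
    have hΩ : ∀ v ∈ V, ⁅y, v⁆ ∈ Cfsg.omegaCenterOf Q := by
      intro v hv
      have hvR : v ∈ R := omegaCenterOf_le R hv
      have hxV : ⁅y, v⁆ ∈ V := by
        rw [commutatorElement_def]
        exact mul_mem ((Subgroup.mem_normalizer_iff.1 (hHV hyH) v).1 hv) (inv_mem hv)
      have hxK : ⁅y, v⁆ ∈ K := by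
        rw [commutatorElement_def, mul_assoc, mul_assoc, ← mul_assoc v]
        exact mul_mem F.hy ((Subgroup.mem_normalizer_iff.1 (hRK hvR) _).1 (inv_mem F.hy))
      refine OmegaOne.mem ⟨hKR ⟨hxK, omegaCenterOf_le R hxV⟩, Subgroup.mem_centralizer_iff.2
        fun q hq => ?_⟩ (hVea.2 _ hxV)
      exact mul_inv_eq_iff_eq_mul.1 (fix_omegaCenterOf (hQR hq) hxV)
    let f : W → W := fun u => ⟨⁅y, (u : G)⁆, F.mem_W (F.W_le u.2)⟩
    have hsurj : Function.Surjective f := Finite.surjective_of_injective (by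
      intro u v huv
      have h : ⁅y, (u : G)⁆ = ⁅y, (v : G)⁆ := congrArg Subtype.val huv
      refine inv_mul_eq_one.1 (Subtype.ext (F.fpf (u⁻¹ * v : W).2 ?_))
      push_cast
      rw [commutatorElement_def, commutatorElement_def] at h
      have huv' : Commute (u : G) v := Thompson.commute_of_isElementaryAbelian F.W_ea u.2 v.2
      have h' : y * (u : G) * y⁻¹ = y * (v : G) * y⁻¹ * (v : G)⁻¹ * u := by
        rw [← h, inv_mul_cancel_right]
      have h2 : y * ((u : G)⁻¹ * v) * y⁻¹ = (u : G)⁻¹ * v := by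
        calc y * ((u : G)⁻¹ * v) * y⁻¹ = (y * u * y⁻¹)⁻¹ * (y * v * y⁻¹) := by group
          _ = (u : G)⁻¹ * v := by rw [h']; group
      calc y * ((u : G)⁻¹ * v) = y * ((u : G)⁻¹ * v) * y⁻¹ * y := by group
        _ = _ := by rw [h2])
    intro v hv
    set x := ⁅y, v⁆ with hx
    obtain ⟨w, hw⟩ := hsurj ⟨⁅y, x⁆, F.mem_W (hΩ v hv)⟩
    have hw' : ⁅y, (w : G)⁆ = ⁅y, x⁆ := congrArg Subtype.val hw
    have hxV : x ∈ V := (by
      rw [hx, commutatorElement_def]
      exact mul_mem ((Subgroup.mem_normalizer_iff.1 (hHV hyH) v).1 hv) (inv_mem hv))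
    obtain ⟨w2, hw2⟩ := hsurj w
    have hw2' : ⁅y, (w2 : G)⁆ = (w : G) := congrArg Subtype.val hw2
    have hcV : ∀ a ∈ V, ∀ b ∈ V, a * b = b * a := fun a ha b hb =>
      Thompson.commute_of_isElementaryAbelian hVea ha hb
    set c := (w : G)⁻¹ * x with hc
    have hcV' : c ∈ V := mul_mem (inv_mem (hWV w.2)) hxV
    have hcomm : ∀ a ∈ V, ∀ b ∈ V, ⁅y, a * b⁆ = ⁅y, a⁆ * ⁅y, b⁆ := fun a ha b hb => by
      have hb' : ⁅y, b⁆ ∈ V := by
        rw [commutatorElement_def]
        exact mul_mem ((Subgroup.mem_normalizer_iff.1 (hHV hyH) b).1 hb) (inv_mem hb)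
      calc ⁅y, a * b⁆ = ⁅y, a⁆ * (a * ⁅y, b⁆ * a⁻¹) := by
            simp only [commutatorElement_def]; group
        _ = _ := by rw [hcV a ha _ hb', mul_inv_cancel_right]
    have hyc : ⁅y, c⁆ = 1 := by
      have h1 : ⁅y, (w : G)⁆ * ⁅y, c⁆ = ⁅y, x⁆ := by
        rw [← hcomm _ (hWV w.2) _ hcV', hc, mul_inv_cancel_left]
      rwa [hw', mul_eq_left] at h1
    have hv' : ⁅y, v * (w2 : G)⁻¹⁆ = c := by
      have h1 : ⁅y, v * (w2 : G)⁻¹⁆ * (w : G) = x := by
        rw [← hw2', ← hcomm _ (mul_mem hv (inv_mem (hWV w2.2))) _ (hWV w2.2), inv_mul_cancel_right]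
      rw [hc, ← hcV x hxV _ (inv_mem (hWV w.2)), ← h1, mul_inv_cancel_right]
    have hc1 : c = 1 := by
      have hfix : y * c * y⁻¹ = c := by
        rw [commutatorElement_eq_one_iff_mul_comm] at hyc
        rw [hyc, mul_inv_cancel_right]
      have hyv : y * (v * (w2 : G)⁻¹) * y⁻¹ = c * (v * (w2 : G)⁻¹) := by
        rw [← hv', commutatorElement_def, inv_mul_cancel_right]
      have key := conj_pow_of_fix hyv hfix (orderOf y)
      rw [pow_orderOf_eq_one, inv_one, one_mul, mul_one, eq_comm, mul_eq_right] at key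
      obtain ⟨n, hn⟩ := F.hyo
      rwa [hn, pow_succ, pow_mul, hVea.2 c hcV', one_pow, one_mul] at key
    rw [hc, inv_mul_eq_one] at hc1
    rw [← hc1]
    exact w.2
  -- the three-group
  set Cn := (H ⊓ Subgroup.centralizer (V : Set G)).subgroupOf H with hCn
  haveI hCnn : Cn.Normal := by
    refine (Subgroup.normal_subgroupOf_iff_le_normalizer inf_le_left).2 ?_
    intro h hh
    rw [Subgroup.mem_normalizer_iff_map_conj_eq]
    refine Subgroup.eq_of_le_of_card_ge ?_ (Subgroup.card_map_of_injective (MulAut.conj h).injective).ge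
    rintro _ ⟨c, hc, rfl⟩
    show h * c * h⁻¹ ∈ H ⊓ Subgroup.centralizer (V : Set G)
    refine ⟨Subgroup.mul_mem _ (Subgroup.mul_mem _ hh hc.1) (Subgroup.inv_mem _ hh),
      Subgroup.mem_centralizer_iff.2 fun v hv => ?_⟩
    have hv' : h⁻¹ * v * h ∈ V := by
      have := (Subgroup.mem_normalizer_iff.1 (hHV (inv_mem hh)) v).1 hv
      rwa [inv_inv] at this
    have h1 := Subgroup.mem_centralizer_iff.1 hc.2 _ hv'
    calc v * (h * c * h⁻¹) = h * (h⁻¹ * v * h * c) * h⁻¹ := by group
      _ = h * c * h⁻¹ * v := by rw [h1]; group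
  have hVR : R ≤ Subgroup.centralizer (V : Set G) := by
    rw [Subgroup.le_centralizer_iff]
    exact fun v hv => OmegaOne.le_centralizer_center 2 R hv
  set π := QuotientGroup.mk' Cn with hπ
  set Kb := (K.subgroupOf H).map π with hKb
  have hKb3 : IsPGroup 3 Kb := by
    rintro ⟨_, k, hk, rfl⟩
    refine ⟨1, Subtype.ext ?_⟩
    show (π k) ^ (3 ^ 1) = 1
    rw [pow_one, ← map_pow]
    refine (QuotientGroup.eq_one_iff (k ^ 3)).2 ⟨(k ^ 3).2, hVR (hQR ?_)⟩
    haveI hn : ((Cfsg.pCoreOf 2 K).subgroupOf K).Normal :=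
      (Subgroup.normal_subgroupOf_iff_le_normalizer F.pre.core_le).2 (CharP.le_normalizer_opIn K)
    have h3 : Nat.card (K ⧸ (Cfsg.pCoreOf 2 K).subgroupOf K) = 3 := F.pre.hidx
    have h4 : (QuotientGroup.mk' ((Cfsg.pCoreOf 2 K).subgroupOf K) ⟨k, hk⟩) ^ 3 = 1 := by
      rw [← h3]; exact pow_card_eq_one'
    rw [← map_pow, QuotientGroup.mk'_apply, QuotientGroup.eq_one_iff] at h4
    exact h4
  have hM3 : Kb ≤ Cfsg.pCore 3 (H ⧸ Cn) := by
    haveI : Fact (Nat.Prime 3) := ⟨Nat.prime_three⟩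
    exact CharP.isPGroup_le_pCore_of_isSubnormal (hKsn.map (QuotientGroup.mk'_surjective Cn)) hKb3
  -- offenders normalize `W`
  rw [hJ, Thompson.thompsonSubgroupOf_eq]
  refine sSup_le fun A hA => ?_
  have hAH : A ≤ H := (Thompson.le_thompsonSubgroupOf hA).trans le_sup_right
  have hAmax := isMax_of_sylowTwoIn hLT.1 hA
  refine offender_normalizes hVea hA.2.1 (hAH.trans hHV) hWV hW4 hyV
    (fun w hw h => F.fpf hw h) ?_ ?_
  · intro a ha haW
    refine conj_centralizes hVea hWV hW4 (hAH.trans hHV ha) hyV (fun w hw h => F.fpf hw h) ?_ haW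
    intro g' hg'
    set P3 := ((Cfsg.pCore 3 (H ⧸ Cn)).comap π).map H.subtype with hP3
    have hyP : (y : G) ∈ P3 := ⟨⟨y, (le_sup_left : K ≤ H) F.hy⟩, hM3 ⟨_, F.hy, rfl⟩, rfl⟩
    have hle : Subgroup.closure {y, a * y * a⁻¹} ≤ P3 := by
      rw [Subgroup.closure_le]
      rintro x (rfl | rfl)
      · exact hyP
      · refine ⟨⟨a, hAH ha⟩ * ⟨y, (le_sup_left : K ≤ H) F.hy⟩ * (⟨a, hAH ha⟩ : H)⁻¹, ?_, rfl⟩
        show π _ ∈ Cfsg.pCore 3 (H ⧸ Cn)
        rw [map_mul, map_mul, map_inv]
        exact (Cfsg.pCore_normal 3 (H ⧸ Cn)).conj_mem _ (hM3 ⟨_, F.hy, rfl⟩) _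
    obtain ⟨x, hx, rfl⟩ := hle hg'
    haveI : Fact (Nat.Prime 3) := ⟨Nat.prime_three⟩
    obtain ⟨k, hk⟩ := (PBasic.pCore_isPGroup 3 (H ⧸ Cn)) ⟨π x, hx⟩
    refine ⟨k, ?_⟩
    have h1 : π (x ^ (3 ^ k)) = 1 := by
      rw [map_pow]; exact congrArg Subtype.val hk
    have h2 := (QuotientGroup.eq_one_iff (x ^ (3 ^ k))).1 h1
    exact h2.2
  · intro B hB
    set VB := V ⊓ Subgroup.centralizer (B : Set G) with hVB
    set VA := V ⊓ Subgroup.centralizer (A : Set G) with hVA
    have hBea := ea_mono hA.2.1 hB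
    have hXea : Cfsg.IsElementaryAbelian 2 (B ⊔ VB) :=
      sup_ea hBea (ea_mono hVea inf_le_left)
        (Subgroup.le_centralizer_iff.1 inf_le_right)
    have hVH : V ≤ H := (omegaCenterOf_le R).trans hRH
    have hXle : Nat.card (B ⊔ VB : Subgroup G) ≤ Nat.card A := hAmax.2.2 _
      (sup_le ((hB.trans hAH).trans hHL) ((inf_le_left.trans hVH).trans hHL)) hXea
    have hinf : B ⊓ VB ≤ VA := by
      rintro x ⟨hxB, hxV, -⟩
      exact ⟨hxV, Subgroup.mem_centralizer_iff.2 fun b hb =>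
        Thompson.commute_of_isElementaryAbelian hA.2.1 hb (hB hxB)⟩
    rw [← card_sup_inf hXea le_sup_left le_sup_right]
    exact Nat.mul_le_mul hXle (Subgroup.card_le_of_le hinf)

end Cfsg.Agent.JComp
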