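import Cfsg.Agent.Lib.JComp.MaxOver
import Cfsg.Agent.Lib.JComp.AmalgamThird
import Cfsg.Agent.Lib.JComp.Transfer

/-!
The part of `Ω₁(Z(J(T)))` centralized by a component, and the parabolic attached to a component
normalized by `T`.
-/

set_option autoImplicit false
set_option linter.style.haveILetI false
set_option linter.unusedSectionVars false
open scoped commutatorElement Pointwise

namespace Cfsg.Agent.JComp

open Cfsg.Agent

universe u

variable {G : Type u} [Group G] [Finite G]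

/-- `Ω₁(Z(J(T)))`. -/
def zJ (T : Subgroup G) : Subgroup G := Cfsg.omegaCenterOf (Cfsg.thompsonSubgroupOf 2 T)

/-- The part of `Ω₁(Z(J(T)))` centralized by `K`. -/
def c0 (T K : Subgroup G) : Subgroup G := zJ T ⊓ Subgroup.centralizer (K : Set G)

theorem zJ_le_J (T : Subgroup G) : zJ T ≤ Cfsg.thompsonSubgroupOf 2 T := omegaCenterOf_le _

theorem zJ_le (T : Subgroup G) : zJ T ≤ T := (zJ_le_J T).trans (Thompson.thompsonSubgroupOf_le 2 T)

theorem zJ_ea (T : Subgroup G) : Cfsg.IsElementaryAbelian 2 (zJ T) := omegaCenterOf_ea _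

theorem zJ_sq {T : Subgroup G} {x : G} (hx : x ∈ zJ T) : x * x = 1 := by
  rw [← pow_two]; exact (zJ_ea T).2 x hx

theorem zJ_comm {T : Subgroup G} {x j : G} (hx : x ∈ zJ T) (hj : j ∈ Cfsg.thompsonSubgroupOf 2 T) :
    j * x = x * j :=
  Subgroup.mem_centralizer_iff.1 (OmegaOne.le_centralizer_center 2 _ hx) j hj

/-- A central involution of `T` lies in `Ω₁(Z(J(T)))`. -/
theorem mem_zJ_of_central {T : Subgroup G} {x : G} (hx : x ∈ T) (hc : ∀ t ∈ T, t * x = x * t)
    (h2 : x * x = 1) : x ∈ zJ T := by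
  obtain ⟨A, hA⟩ := Thompson.exists_isMaxEAIn 2 T
  have hxJ : x ∈ Subgroup.centralizer (Cfsg.thompsonSubgroupOf 2 T : Set G) :=
    Subgroup.mem_centralizer_iff.2 fun j hj => hc j (Thompson.thompsonSubgroupOf_le 2 T hj)
  have hxA := OmegaOne.mem_of_centralizes hA hx hxJ (by rw [pow_two]; exact h2)
  exact OmegaOne.mem ⟨Thompson.le_thompsonSubgroupOf hA hxA, hxJ⟩ (by rw [pow_two]; exact h2)

theorem card_inf_le {A B E : Subgroup G} (hE : Cfsg.IsElementaryAbelian 2 E) (hA : A ≤ E) (hB : B ≤ E)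
    (h : A ⊓ B = ⊥) : Nat.card A * Nat.card B ≤ Nat.card E := by
  rw [← card_sup_inf hE hA hB, h, Subgroup.card_bot, mul_one]
  exact Subgroup.card_le_of_le (sup_le hA hB)

theorem eq_of_card_two {C : Subgroup G} (h : Nat.card C = 2) {a b : G} (ha : a ∈ C) (hb : b ∈ C)
    (ha1 : a ≠ 1) (hb1 : b ≠ 1) : a = b := by
  by_contra hab
  have h3 : ({(1 : G), a, b} : Set G).ncard = 3 :=
    Set.ncard_eq_three.2 ⟨1, a, b, Ne.symm ha1, Ne.symm hb1, hab, rfl⟩
  have h4 : ({(1 : G), a, b} : Set G).ncard ≤ (C : Set G).ncard := by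
    refine Set.ncard_le_ncard ?_ (Set.toFinite _)
    rintro x (rfl | rfl | rfl)
    · exact one_mem C
    · exact ha
    · exact hb
  rw [h3, ← Nat.card_coe_set_eq] at h4
  simp only [SetLike.coe_sort_coe] at h4
  omega

theorem zJ_map (g : G) (T : Subgroup G) :
    zJ (T.map (MulAut.conj g).toMonoidHom) = (zJ T).map (MulAut.conj g).toMonoidHom := by
  haveI : Fact (Nat.Prime 2) := ⟨Nat.prime_two⟩
  rw [zJ, zJ, Thompson.thompsonSubgroupOf_map_of_injective T (MulAut.conj g).toMonoidHom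
    (MulAut.conj g).injective, Cfsg.omegaCenterOf, Cfsg.omegaCenterOf,
    OmegaOne.map_center (MulAut.conj g).toMonoidHom (MulAut.conj g).injective.injOn]

theorem family_congr {T T' K : Subgroup G}
    (h : Cfsg.thompsonSubgroupOf 2 T' = Cfsg.thompsonSubgroupOf 2 T) :
    Setting.family T' K = Setting.family T K := by
  ext K'
  exact ⟨fun hh => ⟨isJComponent_congr hh.1 h.symm, hh.2⟩, fun hh => ⟨isJComponent_congr hh.1 h, hh.2⟩⟩

/-- Conjugation by elements normalizing `J(T)`. -/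
theorem isJComponent_map_of_mem {T K : Subgroup G} {g : G}
    (hg : g ∈ Subgroup.normalizer (Cfsg.thompsonSubgroupOf 2 T : Set G))
    (hK : Cfsg.IsJComponent T K) : Cfsg.IsJComponent T (K.map (MulAut.conj g).toMonoidHom) := by
  refine isJComponent_congr (isJComponent_map g hK) ?_
  rw [Thompson.thompsonSubgroupOf_map_of_injective T (MulAut.conj g).toMonoidHom (MulAut.conj g).injective]
  exact (Subgroup.mem_normalizer_iff_map_conj_eq.1 hg).symm

section Component

variable {T K : Subgroup G} (hT : IsPGroup 2 T) (hK : Cfsg.IsJComponent T K)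
include hT hK

theorem card_zJ_inf : Nat.card (zJ T ⊓ Cfsg.wOf K : Subgroup G) = 2 := (center_decomp hT hK).1

theorem c0_inf : c0 T K ⊓ Cfsg.wOf K = ⊥ := by
  obtain ⟨A, a, y, F⟩ := exists_frame (pre_of hT hK)
  rw [eq_bot_iff]
  intro x hx
  exact Subgroup.mem_bot.2 (F.fpf hx.2 (Subgroup.mem_centralizer_iff.1 hx.1.2 y F.hy))

theorem c0_comm_sup {x : G} (hx : x ∈ c0 T K) {g : G} (hg : g ∈ K ⊔ Cfsg.thompsonSubgroupOf 2 T) :
    g * x = x * g := by
  have hle : K ⊔ Cfsg.thompsonSubgroupOf 2 T ≤ Subgroup.centralizer ({x} : Set G) := by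
    refine sup_le ?_ ?_ <;> intro z hz <;> rw [Subgroup.mem_centralizer_singleton_iff]
    · exact Subgroup.mem_centralizer_iff.1 hx.2 z hz
    · exact zJ_comm hx.1 hz
  exact Subgroup.mem_centralizer_singleton_iff.1 (hle hg)

theorem card_zJ : Nat.card (zJ T) = 2 * Nat.card (c0 T K) := by
  have hle : c0 T K ⊔ (zJ T ⊓ Cfsg.wOf K) = zJ T := by
    refine le_antisymm (sup_le inf_le_left inf_le_left) ?_
    conv_lhs => rw [zJ, ← (center_decomp hT hK).2]
    refine sup_le ?_ le_sup_right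
    refine le_trans ?_ le_sup_left
    exact inf_le_inf_left _ (inf_le_right.trans (Subgroup.centralizer_le (SetLike.coe_subset_coe.2 le_sup_left)))
  have h := card_sup_inf (zJ_ea T) (inf_le_left : c0 T K ≤ zJ T)
    (inf_le_left : zJ T ⊓ Cfsg.wOf K ≤ zJ T)
  have h0 : c0 T K ⊓ (zJ T ⊓ Cfsg.wOf K) = ⊥ :=
    le_bot_iff.1 ((inf_le_inf_left _ inf_le_right).trans (c0_inf hT hK).le)
  simp only [c0] at h h0 hle ⊢
  rw [hle, card_zJ_inf hT hK, h0, Subgroup.card_bot, mul_one] at h
  rw [h, mul_comm]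

theorem exists_w : ∃ w ∈ zJ T ⊓ Cfsg.wOf K, w ≠ 1 := by
  refine (Subgroup.nontrivial_iff_exists_ne_one _).1 ?_
  exact Finite.one_lt_card_iff_nontrivial.1 (by rw [card_zJ_inf hT hK]; omega)

theorem isJComponent_not_le_normalizer :
    ¬ K ≤ Subgroup.normalizer (Cfsg.thompsonSubgroupOf 2 T : Set G) := by
  intro h
  obtain ⟨A, a, y, F⟩ := exists_frame (pre_of hT hK)
  have h1 : K ≤ Cfsg.thompsonSubgroupOf 2 T := by
    conv_lhs => rw [← hK.2.1]
    rw [Subgroup.commutator_le]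
    intro k hk j hj
    rw [commutatorElement_def]
    exact mul_mem ((Subgroup.mem_normalizer_iff.1 (h hk) j).1 hj) (inv_mem hj)
  apply F.hyQ
  rw [eq_one_of_odd_two F.hyo (hT.to_le (Thompson.thompsonSubgroupOf_le 2 T)) (h1 F.hy)]
  exact one_mem _

theorem normalizer_sup_le :
    Subgroup.normalizer ((K ⊔ Cfsg.thompsonSubgroupOf 2 T : Subgroup G) : Set G) ≤
      Subgroup.normalizer (K : Set G) := by
  intro g hg
  rw [Subgroup.mem_normalizer_iff_map_conj_eq]
  refine Subgroup.eq_of_le_of_card_ge ?_ (Subgroup.card_map_of_injective (MulAut.conj g).injective).ge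
  conv_lhs => rw [← hK.1]
  rw [MonoidHom.map_closure, Subgroup.closure_le]
  rintro _ ⟨x, ⟨hx, ho⟩, rfl⟩
  refine odd_mem_of_sup (hT.to_le (Thompson.thompsonSubgroupOf_le 2 T)) (pre_of hT hK).le_normalizer
    ((Subgroup.mem_normalizer_iff.1 hg x).1 (Subgroup.mem_sup_left hx)) ?_
  rwa [orderOf_injective _ (MulAut.conj g).injective]

/-- The parabolic `K T` attached to a component normalized by `T`. -/
theorem side_of (hTK : T ≤ Subgroup.normalizer (K : Set G)) (hQT : Cfsg.pCoreOf 2 K ≤ T) {w : G}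
    (hw : w ∈ Cfsg.wOf K) (hw1 : w ≠ 1) (hwT : ∀ t ∈ T, t * w = w * t) :
    Amalgam.Side T (K ⊔ T) (Cfsg.wOf K) w := by
  haveI : Fact (Nat.Prime 2) := ⟨Nat.prime_two⟩
  obtain ⟨A, a, y, F⟩ := exists_frame (pre_of hT hK)
  have hW4 : Nat.card (Cfsg.wOf K) = 4 := hK.2.2.2.2.1
  have hTKcap : T ⊓ K = Cfsg.pCoreOf 2 K := by
    refine le_antisymm ?_ (le_inf hQT F.pre.core_le)
    refine CharP.le_opIn inf_le_right ?_ (hT.to_le inf_le_left)
    intro k hk
    refine Amalgam.mem_normalizer_of_cj (Subgroup.eq_of_le_of_card_ge ?_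
      (Subgroup.card_map_of_injective (MulAut.conj k).injective).ge)
    rintro _ ⟨x, hx, rfl⟩
    -- `x` is a 2-element of `K`, hence in the core
    obtain ⟨i, hi⟩ := IsPGroup.iff_orderOf.1 hT ⟨x, hx.1⟩
    rw [Subgroup.orderOf_mk] at hi
    have hxQ : x ∈ Cfsg.pCoreOf 2 K := by
      haveI hn : ((Cfsg.pCoreOf 2 K).subgroupOf K).Normal :=
        (Subgroup.normal_subgroupOf_iff_le_normalizer F.pre.core_le).2 (CharP.le_normalizer_opIn K)
      set π := QuotientGroup.mk' ((Cfsg.pCoreOf 2 K).subgroupOf K)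
      have h3 : orderOf (π ⟨x, hx.2⟩) ∣ 3 := by
        rw [show (3 : ℕ) = Nat.card (K ⧸ (Cfsg.pCoreOf 2 K).subgroupOf K) from F.pre.hidx.symm]
        exact orderOf_dvd_natCard _
      have h2 : orderOf (π ⟨x, hx.2⟩) ∣ 2 ^ i := by
        rw [← hi, ← Subgroup.orderOf_mk x hx.2]
        exact orderOf_map_dvd _ _
      have h := Nat.eq_one_of_dvd_coprimes ((by norm_num : Nat.Coprime 2 3).pow_left i) h2 h3
      rw [orderOf_eq_one_iff] at h
      exact (QuotientGroup.eq_one_iff (⟨x, hx.2⟩ : K)).1 h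
    have := F.pre.conj_core (Subgroup.le_normalizer hk) hxQ
    exact ⟨hQT this, F.pre.core_le this⟩
  have hidx : T.relIndex (K ⊔ T) = 3 := by
    have hPn : K ⊔ T ≤ Subgroup.normalizer (K : Set G) := sup_le Subgroup.le_normalizer hTK
    have h1 : (Nat.card ↥(K ⊔ T : Subgroup G)) = Nat.card T * T.relIndex (K ⊔ T) :=
      (card_mul_relIndex' le_sup_right).symm
    have h2 : (Nat.card ↥(K ⊔ T : Subgroup G)) = Nat.card K * K.relIndex (K ⊔ T) :=
      (card_mul_relIndex' le_sup_left).symm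
    have h3 : Nat.card K = Nat.card (Cfsg.pCoreOf 2 K) * 3 := by
      rw [← card_mul_relIndex' F.pre.core_le, F.pre.hidx]
    haveI : (K.subgroupOf (K ⊔ T)).Normal :=
      (Subgroup.normal_subgroupOf_iff_le_normalizer le_sup_left).2 hPn
    have h4 : K.relIndex (K ⊔ T) = K.relIndex T := by
      have h5 := Subgroup.relIndex_sup_right (T.subgroupOf (K ⊔ T)) (K.subgroupOf (K ⊔ T))
      rw [Subgroup.relIndex_subgroupOf le_sup_right, ← Subgroup.subgroupOf_sup le_sup_right le_sup_left,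
        Subgroup.relIndex_subgroupOf (sup_le le_sup_right le_sup_left), sup_comm T K] at h5
      exact h5
    have h6 : Nat.card T = Nat.card (Cfsg.pCoreOf 2 K) * K.relIndex T := by
      rw [← hTKcap, ← card_mul_relIndex' (inf_le_left : T ⊓ K ≤ T), Subgroup.inf_relIndex_left]
    have hpos : 0 < Nat.card T := Nat.card_pos
    rw [h2, h3, h4, h6] at h1
    have h7 : Nat.card (Cfsg.pCoreOf 2 K) * K.relIndex T * 3 =
        Nat.card (Cfsg.pCoreOf 2 K) * K.relIndex T * T.relIndex (K ⊔ T) := by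
      rw [← h1]; ring
    rw [← h6] at h7
    exact (Nat.eq_of_mul_eq_mul_left hpos h7).symm
  have hTW : T ≤ Subgroup.normalizer (Cfsg.wOf K : Set G) := hTK.trans (normalizer_le_wOf K)
  have hfpf : ∀ x ∈ Cfsg.wOf K, y * x = x * y → x = 1 := fun x hx h => F.fpf hx h
  have hWQ : Cfsg.wOf K ≤ T := F.W_le_core.trans hQT
  have haT : a ∈ T := F.hA.1 F.ha
  have hD2 : Nat.card (Cfsg.wOf K ⊓ Subgroup.centralizer ({a} : Set G) : Subgroup G) = 2 :=
    (F.main (wOf_ne_bot hK)).1
  have haW : a ∉ Subgroup.centralizer (Cfsg.wOf K : Set G) := by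
    intro h
    rw [inf_eq_left.2 (fun x hx => Subgroup.mem_centralizer_singleton_iff.2
      (Subgroup.mem_centralizer_iff.1 h x hx))] at hD2
    omega
  refine ⟨F.W_ea, hW4, hWQ, le_sup_right, hidx, sup_le (Subgroup.le_normalizer.trans (normalizer_le_wOf K)) hTW,
    ?_, fun x hx h => hfpf x hx (h y (Subgroup.mem_sup_left F.hy)), fun h => haW (h haT), hw, hw1, hwT, ?_⟩
  · -- `K T` normalizes `C_T(W)`
    refine sup_le ?_ ?_
    swap
    · intro t ht
      refine Amalgam.mem_normalizer_of_cj (Subgroup.eq_of_le_of_card_ge ?_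
        (Subgroup.card_map_of_injective (MulAut.conj t).injective).ge)
      rintro _ ⟨q, ⟨hqT, hqC⟩, rfl⟩
      refine ⟨Subgroup.mul_mem _ (Subgroup.mul_mem _ ht hqT) (Subgroup.inv_mem _ ht),
        Subgroup.mem_centralizer_iff.2 fun x hx => ?_⟩
      have hx' : t⁻¹ * x * t ∈ Cfsg.wOf K := by
        have := (Subgroup.mem_normalizer_iff.1 (hTW (inv_mem ht)) x).1 hx
        rwa [inv_inv] at this
      have := Subgroup.mem_centralizer_iff.1 hqC _ hx'
      show x * (t * q * t⁻¹) = t * q * t⁻¹ * x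
      calc x * (t * q * t⁻¹) = t * ((t⁻¹ * x * t) * q) * t⁻¹ := by group
        _ = t * q * t⁻¹ * x := by rw [this]; group
    intro k hk
    refine Amalgam.mem_normalizer_of_cj (Subgroup.eq_of_le_of_card_ge ?_
      (Subgroup.card_map_of_injective (MulAut.conj k).injective).ge)
    rintro _ ⟨q, ⟨hqT, hqC⟩, rfl⟩
    show k * q * k⁻¹ ∈ T ⊓ Subgroup.centralizer (Cfsg.wOf K : Set G)
    have hkq : k * q * k⁻¹ ∈ Subgroup.centralizer (Cfsg.wOf K : Set G) := by
      refine Subgroup.mem_centralizer_iff.2 fun x hx => ?_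
      have hx' := F.conjW (inv_mem (Subgroup.le_normalizer hk)) hx
      rw [inv_inv] at hx'
      have := Subgroup.mem_centralizer_iff.1 hqC _ hx'
      calc x * (k * q * k⁻¹) = k * ((k⁻¹ * x * k) * q) * k⁻¹ := by group
        _ = k * q * k⁻¹ * x := by rw [this]; group
    have hcK : ⁅k, q⁆ ∈ K := by
      rw [commutatorElement_def, mul_assoc, mul_assoc, ← mul_assoc q]
      exact mul_mem hk ((Subgroup.mem_normalizer_iff.1 (hTK hqT) _).1 (inv_mem hk))
    have hcC : ⁅k, q⁆ ∈ Subgroup.centralizer (Cfsg.wOf K : Set G) := by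
      rw [commutatorElement_def]; exact Subgroup.mul_mem _ hkq (Subgroup.inv_mem _ hqC)
    have hcore : ⁅k, q⁆ ∈ Cfsg.pCoreOf 2 K := by
      obtain ⟨z, hz, hz1⟩ : ∃ z ∈ Cfsg.wOf K, z ≠ 1 := ⟨w, hw, hw1⟩
      obtain ⟨q', hq', h | h | h⟩ := F.dec hcK
      · rw [h]; exact hq'
      · exfalso
        refine hz1 (hfpf z hz ?_)
        have h1 := Subgroup.mem_centralizer_iff.1 hcC z hz
        rw [h] at h1
        have h2 : q' * z = z * q' := mul_inv_eq_iff_eq_mul.1 (F.fixW hq' hz)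
        calc y * z = y * (z * q') * q'⁻¹ := by group
          _ = y * q' * z * q'⁻¹ := by rw [← h2]; group
          _ = z * y := by rw [← h1]; group
      · exfalso
        refine hz1 (hfpf z hz ?_)
        have h1 := Subgroup.mem_centralizer_iff.1 hcC z hz
        rw [h] at h1
        have h2 : q' * z = z * q' := mul_inv_eq_iff_eq_mul.1 (F.fixW hq' hz)
        have h3 : y⁻¹ * z = z * y⁻¹ := by
          calc y⁻¹ * z = y⁻¹ * (z * q') * q'⁻¹ := by group
            _ = y⁻¹ * q' * z * q'⁻¹ := by rw [← h2]; group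
            _ = z * y⁻¹ := by rw [← h1]; group
        calc y * z = y * (z * y⁻¹) * y := by group
          _ = z * y := by rw [← h3]; group
    refine ⟨?_, hkq⟩
    have := mul_mem (hQT hcore) hqT
    rwa [commutatorElement_def, inv_mul_cancel_right] at this
  · intro x hx hxT
    by_contra hcon
    push Not at hcon
    apply haW
    refine Subgroup.mem_centralizer_iff.2 fun v hv => ?_
    set D := Cfsg.wOf K ⊓ Subgroup.centralizer ({a} : Set G) with hD
    have hD2' : Nat.card D ≤ 2 := hD2.le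
    have h3 : ({(1 : G), w, x} : Set G).ncard = 3 :=
      Set.ncard_eq_three.2 ⟨1, w, x, Ne.symm hw1, Ne.symm hcon.1, Ne.symm hcon.2, rfl⟩
    have h4 : ({(1 : G), w, x} : Set G).ncard ≤ (D : Set G).ncard := by
      refine Set.ncard_le_ncard ?_ (Set.toFinite _)
      rintro z (rfl | rfl | rfl)
      · exact one_mem D
      · exact ⟨hw, Subgroup.mem_centralizer_singleton_iff.2 (hwT a haT).symm⟩
      · exact ⟨hx, Subgroup.mem_centralizer_singleton_iff.2 (hxT a haT).symm⟩
    rw [h3, ← Nat.card_coe_set_eq] at h4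
    simp only [SetLike.coe_sort_coe] at h4
    omega

end Component

end Cfsg.Agent.JComp
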