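import Cfsg.Agent.Lib.JComp.Shape
import Mathlib.GroupTheory.IndexNormal
import Mathlib.GroupTheory.SpecificGroups.Cyclic
import Mathlib.GroupTheory.GroupAction.Quotient

/-!
The parabolic `K T` is `S₄` or `S₄ × 2`.
-/

set_option autoImplicit false
set_option linter.style.haveILetI false
set_option linter.unusedSectionVars false
open scoped commutatorElement Pointwise

namespace Cfsg.Agent.JComp

open Cfsg.Agent

universe u

variable {G : Type u} [Group G] [Finite G]

theorem relIndex_sup_of_normalizes {A B : Subgroup G}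
    (hB : B ≤ Subgroup.normalizer (A : Set G)) : A.relIndex (A ⊔ B) = A.relIndex B := by
  haveI : (A.subgroupOf (A ⊔ B)).Normal :=
    (Subgroup.normal_subgroupOf_iff_le_normalizer le_sup_left).2 (sup_le Subgroup.le_normalizer hB)
  have h := Subgroup.relIndex_sup_right (B.subgroupOf (A ⊔ B)) (A.subgroupOf (A ⊔ B))
  rw [Subgroup.relIndex_subgroupOf le_sup_right, ← Subgroup.subgroupOf_sup le_sup_right le_sup_left,
    Subgroup.relIndex_subgroupOf (sup_le le_sup_right le_sup_left), sup_comm B A] at h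
  exact h

theorem card_sup_le_of_normalizes {A B : Subgroup G}
    (hB : B ≤ Subgroup.normalizer (A : Set G)) :
    Nat.card (A ⊔ B : Subgroup G) ≤ Nat.card A * Nat.card B := by
  rw [← card_mul_relIndex' (le_sup_left : A ≤ A ⊔ B), relIndex_sup_of_normalizes hB]
  exact Nat.mul_le_mul_left _ (Nat.le_of_dvd Nat.card_pos (Subgroup.relIndex_dvd_card A B))

namespace Duo

variable {T M K K₂ : Subgroup G} {w : G} (E : Setting T M) (D : Duo T M K K₂ w)
include E D

/-- **The parabolic is `S₄` or `S₄ × 2`.** -/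
theorem nonempty_mulEquiv :
    (Nat.card (c0 T K) = 1 → Nonempty (↥(K ⊔ T) ≃* Equiv.Perm (Fin 4))) ∧
    (Nat.card (c0 T K) = 2 →
      Nonempty (↥(K ⊔ T) ≃* Equiv.Perm (Fin 4) × Multiplicative (ZMod 2))) := by
  classical
  haveI : Fact (Nat.Prime 2) := ⟨Nat.prime_two⟩
  have S := D.side E
  set L := K ⊔ T with hL
  set W := Cfsg.wOf K with hW
  obtain ⟨A, a, y, F⟩ := exists_frame (pre_of E.two D.o1.comp)
  have haT : a ∈ T := F.hA.1 F.ha
  have ha2 : a * a = 1 := by rw [← pow_two]; exact F.hA.2.1.2 a F.ha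
  have haL : a ∈ L := Subgroup.mem_sup_right haT
  have hyL : y ∈ L := Subgroup.mem_sup_left F.hy
  have haW : a ∉ Subgroup.centralizer (W : Set G) := by
    intro h
    have hD2 := (F.main (wOf_ne_bot D.o1.comp)).1
    rw [inf_eq_left.2 (fun x hx => Subgroup.mem_centralizer_singleton_iff.2
      (Subgroup.mem_centralizer_iff.1 h x hx))] at hD2
    have := D.o1.comp.2.2.2.2.1
    omega
  have hyT : y ∉ T := fun h => F.hyQ (by rw [eq_one_of_odd_two F.hyo E.two h]; exact one_mem _)
  -- `y` has order 3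
  have hy3 : y ^ 3 = 1 := by
    haveI : ((Cfsg.pCoreOf 2 L).subgroupOf L).Normal :=
      (Subgroup.normal_subgroupOf_iff_le_normalizer (CharP.opIn_le L)).2 (CharP.le_normalizer_opIn L)
    have h6 := ((Cfsg.pCoreOf 2 L).subgroupOf L).pow_index_mem (⟨y, hyL⟩ : L)
    rw [show ((Cfsg.pCoreOf 2 L).subgroupOf L).index = 6 from (D.parabolic E).2.2.1,
      Subgroup.mem_subgroupOf, Subgroup.coe_pow] at h6
    have h1 : y ^ 6 = 1 := eq_one_of_odd_two
      (by
        obtain ⟨m, hm⟩ := F.hyo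
        obtain ⟨r, hr⟩ := orderOf_pow_dvd (x := y) 6
        rcases Nat.even_or_odd (orderOf (y ^ 6)) with he | ho
        · exfalso
          have : Even (orderOf y) := by rw [hr]; exact he.mul_right r
          exact (Nat.not_even_iff_odd.2 ⟨m, hm⟩) this
        · exact ho) (CharP.opIn_isPGroup L) h6
    have h2 := orderOf_dvd_of_pow_eq_one h1
    have h3 : orderOf y ∣ 3 := by
      have hc : (orderOf y).Coprime 2 := Nat.coprime_two_right.2 F.hyo
      exact hc.dvd_of_dvd_mul_left (show orderOf y ∣ 2 * 3 from h2)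
    exact orderOf_dvd_iff_pow_eq_one.1 h3
  set Y := Subgroup.zpowers y with hY
  have hY3 : Nat.card Y ≤ 3 := by
    rw [hY, Nat.card_zpowers]
    exact Nat.le_of_dvd (by norm_num) (orderOf_dvd_of_pow_eq_one hy3)
  set H := L ⊓ Subgroup.normalizer (Y : Set G) with hH
  have hHL : H ≤ L := inf_le_left
  have haY : a ∈ Subgroup.normalizer (Y : Set G) := by
    rw [Subgroup.mem_normalizer_iff_map_conj_eq, hY, MonoidHom.map_zpowers]
    rw [MonoidHom.coe_coe, MulAut.conj_apply, F.hay, Subgroup.zpowers_inv]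
  have haH : a ∈ H := ⟨haL, haY⟩
  have hyH : y ∈ H := ⟨hyL, Subgroup.le_normalizer (Subgroup.mem_zpowers y)⟩
  have hcH : c0 T K ≤ H := fun c hc => by
    refine ⟨Subgroup.mem_sup_right (zJ_le T hc.1), ?_⟩
    refine Subgroup.centralizer_le_normalizer _ ?_
    rw [hY, Subgroup.zpowers_eq_closure, Subgroup.centralizer_closure]
    exact Subgroup.mem_centralizer_singleton_iff.2 (Subgroup.mem_centralizer_iff.1 hc.2 y F.hy).symm
  have hWL : W ≤ L := (D.W_le E).trans le_sup_right
  have hWH : W ⊓ H = ⊥ := by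
    rw [eq_bot_iff]
    rintro e ⟨he, -, heY⟩
    rw [Subgroup.mem_bot]
    refine F.fpf he ?_
    have h1 : e * y * e⁻¹ * y⁻¹ ∈ Y :=
      mul_mem ((Subgroup.mem_normalizer_iff.1 heY y).1 (Subgroup.mem_zpowers y))
        (inv_mem (Subgroup.mem_zpowers y))
    have h2 : e * y * e⁻¹ * y⁻¹ ∈ W := by
      rw [show e * y * e⁻¹ * y⁻¹ = e * (y * e⁻¹ * y⁻¹) by group]
      exact mul_mem he (S.conjW hyL (inv_mem he))
    have h3 : e * y * e⁻¹ * y⁻¹ = 1 := by
      refine eq_one_of_odd_two ?_ (E.two.to_le (D.W_le E)) h2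
      obtain ⟨r, hr⟩ : orderOf (e * y * e⁻¹ * y⁻¹) ∣ 3 := by
        obtain ⟨i, hi⟩ := Subgroup.mem_zpowers_iff.1 h1
        refine orderOf_dvd_of_pow_eq_one ?_
        rw [← hi, ← zpow_natCast, ← zpow_mul, mul_comm, zpow_mul, zpow_natCast, hy3, one_zpow]
      exact Nat.Odd.of_mul_left (n := r) (hr ▸ (by decide : Odd 3))
    exact (mul_inv_eq_iff_eq_mul.1 (mul_inv_eq_one.1 h3)).symm
  -- `L = W H`
  have hgen : ∀ X : Subgroup G, X ≤ L → W ≤ X → c0 T K ≤ X → a ∈ X → y ∈ X → L ≤ X := by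
    intro X hXL hWX hcX haX hyX
    have hQX : T ⊓ Subgroup.centralizer (W : Set G) ≤ X := by
      rw [D.Q_eq E, ← zJ_decomp E.two D.o1.comp]
      exact sup_le hWX (sup_le hcX (inf_le_right.trans hWX))
    have hTX : T ≤ X := fun t ht => by
      by_cases htC : t ∈ Subgroup.centralizer (W : Set G)
      · exact hQX ⟨ht, htC⟩
      have := mul_mem (hQX (S.mul_mem_Q ht haT htC haW)) haX
      rwa [mul_assoc, ha2, mul_one] at this
    exact (S.eq_of_between hTX hXL hyX hyT).ge
  have hsup : W ⊔ H = L :=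
    le_antisymm (sup_le hWL hHL) (hgen _ (sup_le hWL hHL) le_sup_left (hcH.trans le_sup_right)
      (Subgroup.mem_sup_right haH) (Subgroup.mem_sup_right hyH))
  have hcardL : Nat.card L = 24 * Nat.card (c0 T K) := by
    rw [← card_mul_relIndex' (le_sup_right : T ≤ L), S.hidx, D.card_T E]
    ring
  have hcardH : Nat.card H * 4 = Nat.card L := by
    have h1 := card_mul_relIndex' (le_sup_left : W ≤ W ⊔ H)
    rw [relIndex_sup_of_normalizes (hHL.trans S.hWn), hsup, ← Subgroup.inf_relIndex_right,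
      hWH, Subgroup.relIndex_bot_left, S.hW4] at h1
    rw [← h1, mul_comm]
  set HL := H.subgroupOf L with hHLdef
  have hidx : Nat.card (L ⧸ HL) = 4 := by
    have h1 : Nat.card H * H.relIndex L = Nat.card L := card_mul_relIndex' hHL
    have hpos : 0 < Nat.card H := Nat.card_pos
    rw [← hcardH] at h1
    exact Nat.eq_of_mul_eq_mul_left hpos h1
  set ψ : L →* Equiv.Perm (Fin 4) :=
    (((Finite.equivFin (L ⧸ HL)).trans (finCongr hidx)).permCongrHom.toMonoidHom).comp
      (MulAction.toPermHom L (L ⧸ HL)) with hψ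
  have hker : ∀ n : L, ψ n = 1 → (n : G) ∈ c0 T K := by
    intro n hn
    have hn1 : n ∈ HL.normalCore := by
      rw [Subgroup.normalCore_eq_ker]
      refine MonoidHom.mem_ker.2
        ((Equiv.permCongrHom ((Finite.equivFin (L ⧸ HL)).trans (finCongr hidx))).injective ?_)
      rw [map_one]
      exact hn
    have hle := Subgroup.normalCore_le HL
    have hnC : (n : G) ∈ Subgroup.centralizer (W : Set G) := by
      refine Subgroup.mem_centralizer_iff.2 fun e he => ?_
      have h1 : (⟨e, hWL he⟩ : L) * n * (⟨e, hWL he⟩ : L)⁻¹ * n⁻¹ ∈ HL.normalCore :=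
        mul_mem ((Subgroup.normalCore_normal HL).conj_mem n hn1 _) (inv_mem hn1)
      have h2 : e * (n : G) * e⁻¹ * (n : G)⁻¹ ∈ W ⊓ H := by
        refine ⟨?_, hle h1⟩
        rw [show e * (n : G) * e⁻¹ * (n : G)⁻¹ = e * ((n : G) * e⁻¹ * (n : G)⁻¹) by group]
        exact mul_mem he (S.conjW n.2 (inv_mem he))
      rw [hWH, Subgroup.mem_bot] at h2
      exact mul_inv_eq_iff_eq_mul.1 (mul_inv_eq_one.1 h2)
    have hnQ : (n : G) ∈ W ⊔ c0 T K := by
      have h := (D.Q_eq E).le (S.cent_le n.2 hnC)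
      rw [← zJ_decomp E.two D.o1.comp] at h
      have hle' : W ⊔ (c0 T K ⊔ (zJ T ⊓ W)) ≤ W ⊔ c0 T K :=
        sup_le le_sup_left (sup_le le_sup_right (inf_le_right.trans le_sup_left))
      exact hle' h
    obtain ⟨e, he, c, hc, hec⟩ : ∃ e ∈ W, ∃ c ∈ c0 T K, (n : G) = e * c :=
      Amalgam.mem_sup_of_comm (fun x (hx : x ∈ c0 T K) => Subgroup.mem_centralizer_iff.2 fun s hs =>
        D.zJ_central E s (D.W_le E hs) x hx.1) hnQ
    have h3 : e ∈ W ⊓ H := by
      refine ⟨he, ?_⟩
      have h4 : e * c ∈ H := hec ▸ (hle hn1)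
      have := Subgroup.mul_mem _ h4 (Subgroup.inv_mem _ (hcH hc))
      rwa [mul_inv_cancel_right] at this
    rw [hWH, Subgroup.mem_bot] at h3
    rw [hec, h3, one_mul]
    exact hc
  have hperm : Nat.card (Equiv.Perm (Fin 4)) = 24 := by
    rw [Nat.card_perm, Nat.card_fin]
    rfl
  constructor
  · intro hc
    have hinj : Function.Injective ψ := (injective_iff_map_eq_one ψ).2 fun n hn => by
      have h := hker n hn
      rw [Subgroup.card_eq_one.1 hc, Subgroup.mem_bot] at h
      exact Subtype.ext h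
    exact ⟨MulEquiv.ofBijective ψ ((Nat.bijective_iff_injective_and_card _).2
      ⟨hinj, by rw [hcardL, hc, hperm]⟩)⟩
  intro hc
  obtain ⟨c, hcm, hc1⟩ := (Subgroup.nontrivial_iff_exists_ne_one _).1
    (Finite.one_lt_card_iff_nontrivial.1 (show 1 < Nat.card (c0 T K) by omega))
  set H1 := Y ⊔ Subgroup.zpowers a with hH1
  set L0 := W ⊔ H1 with hL0
  have hH1L : H1 ≤ L := sup_le (Subgroup.zpowers_le.2 hyL) (Subgroup.zpowers_le.2 haL)
  have hL0L : L0 ≤ L := sup_le hWL hH1L
  have hcard0 : Nat.card L0 ≤ 24 := by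
    refine (card_sup_le_of_normalizes (hH1L.trans S.hWn)).trans ?_
    rw [S.hW4]
    refine (Nat.mul_le_mul_left 4 ((card_sup_le_of_normalizes (Subgroup.zpowers_le.2 haY)).trans
      (Nat.mul_le_mul hY3 ?_))).trans (le_refl (4 * (3 * 2)))
    rw [Nat.card_zpowers]
    exact Nat.le_of_dvd (by norm_num) (orderOf_dvd_of_pow_eq_one (by rw [pow_two]; exact ha2))
  have hc0L : c ∉ L0 := by
    intro h
    have hle : c0 T K ≤ L0 := fun x hx => by
      by_cases hx1 : x = 1
      · rw [hx1]; exact one_mem _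
      · rw [eq_of_card_two hc hx hcm hx1 hc1]; exact h
    have := Subgroup.card_le_of_le (hgen L0 hL0L le_sup_left hle
      (Subgroup.mem_sup_right (Subgroup.mem_sup_right (Subgroup.mem_zpowers a)))
      (Subgroup.mem_sup_right (Subgroup.mem_sup_left (Subgroup.mem_zpowers y))))
    omega
  have hsup0 : L0 ⊔ c0 T K = L := by
    have hcL : c0 T K ≤ L := hcH.trans hHL
    refine le_antisymm (sup_le hL0L hcL) (hgen _ (sup_le hL0L hcL)
      (le_sup_left.trans le_sup_left) le_sup_right ?_ ?_)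
    · exact Subgroup.mem_sup_left (Subgroup.mem_sup_right (Subgroup.mem_sup_right (Subgroup.mem_zpowers a)))
    · exact Subgroup.mem_sup_left (Subgroup.mem_sup_right (Subgroup.mem_sup_left (Subgroup.mem_zpowers y)))
  have hidx0 : (L0.subgroupOf L).index = 2 := by
    show L0.relIndex L = 2
    refine Subgroup.relIndex_eq_two_iff_exists_notMem_and.2
      ⟨c, hcH.trans hHL hcm, hc0L, fun b hb => ?_⟩
    have hcen : c0 T K ≤ Subgroup.centralizer (L0 : Set G) := fun x hx =>
      Subgroup.mem_centralizer_iff.2 fun l hl => by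
        have hle : L ≤ Subgroup.centralizer ({x} : Set G) := sup_le
          (fun k hk => Subgroup.mem_centralizer_singleton_iff.2
            (Subgroup.mem_centralizer_iff.1 hx.2 k hk))
          (fun t ht => Subgroup.mem_centralizer_singleton_iff.2 (D.zJ_central E t ht x hx.1))
        exact Subgroup.mem_centralizer_singleton_iff.1 (hle (hL0L hl))
    obtain ⟨e, he, x, hx, rfl⟩ : ∃ e ∈ L0, ∃ x ∈ c0 T K, b = e * x :=
      Amalgam.mem_sup_of_comm hcen (hsup0.ge hb)
    by_cases hx1 : x = 1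
    · exact Or.inr (by rw [hx1, mul_one]; exact he)
    · refine Or.inl ?_
      rw [eq_of_card_two hc hx hcm hx1 hc1, mul_assoc, zJ_sq hcm.1, mul_one]
      exact he
  haveI hn0 : (L0.subgroupOf L).Normal := Subgroup.normal_of_index_eq_two hidx0
  have hcard2 : Nat.card (L ⧸ L0.subgroupOf L) = 2 := hidx0
  set Φ := ψ.prod (QuotientGroup.mk' (L0.subgroupOf L)) with hΦ
  have hinj : Function.Injective Φ := (injective_iff_map_eq_one Φ).2 fun n hn => by
    rw [hΦ, MonoidHom.prod_apply, Prod.mk_eq_one] at hn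
    have h := hker n hn.1
    have h0 : (n : G) ∈ L0 := (QuotientGroup.eq_one_iff n).1 hn.2
    by_contra hne
    apply hc0L
    rw [← eq_of_card_two hc h hcm (fun e => hne (Subtype.ext e)) hc1]
    exact h0
  exact ⟨(MulEquiv.ofBijective Φ ((Nat.bijective_iff_injective_and_card _).2
    ⟨hinj, by rw [Nat.card_prod, hperm, hcard2, hcardL, hc]⟩)).trans
      (MulEquiv.prodCongr (MulEquiv.refl _) (mulEquivOfPrimeCardEq (p := 2) hcard2 (by simp)))⟩

end Duo

end Cfsg.Agent.JComp
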