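import Cfsg.Agent.Lib.JComp.Center
import Cfsg.Agent.Lib.JComp.S4
import Cfsg.Prelude.Def_Transfer

/-!
The two parabolics against a Sylow 2-subgroup containing their common Sylow subgroup: the centre, the swap of the two
sides, and the fusion of the involution centralized by a parabolic.
-/

set_option autoImplicit false
set_option linter.style.haveILetI false
set_option linter.unusedSectionVars false
open scoped commutatorElement Pointwise

namespace Cfsg.Agent.JComp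

open Cfsg.Agent

universe u

variable {G : Type u} [Group G] [Finite G]

theorem component_le_residual {T K : Subgroup G} (h : Cfsg.IsJComponent T K) : K ≤ Cfsg.pResidual 2 G := by
  rw [← h.1, Subgroup.closure_le]
  exact fun x hx => Subgroup.subset_closure (Nat.coprime_two_right.2 hx.2)

theorem wOf_le_component {T K : Subgroup G} (hT : IsPGroup 2 T) (h : Cfsg.IsJComponent T K) :
    Cfsg.wOf K ≤ K := by
  obtain ⟨A, a, y, F⟩ := exists_frame (pre_of hT h)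
  exact F.W_le_core.trans (CharP.opIn_le K)

namespace Duo

variable {T M K K₂ : Subgroup G} {w : G} (E : Setting T M) (D : Duo T M K K₂ w)
include E D

theorem X_le : Cfsg.wOf K ⊔ Cfsg.wOf K₂ ≤ T := sup_le (D.W_le E) (D.W₂_le E)

theorem X_le_residual : Cfsg.wOf K ⊔ Cfsg.wOf K₂ ≤ Cfsg.pResidual 2 G :=
  sup_le ((wOf_le_component E.two D.o1.comp).trans (component_le_residual D.o1.comp))
    ((wOf_le_component E.two D.o2.comp).trans (component_le_residual D.o2.comp))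

theorem le_normalizer_X : T ≤ Subgroup.normalizer (Cfsg.wOf K ⊔ Cfsg.wOf K₂ : Subgroup G) := by
  intro t ht
  rw [Subgroup.mem_normalizer_iff_map_conj_eq, Subgroup.map_sup,
    Subgroup.mem_normalizer_iff_map_conj_eq.1 ((D.side E).hWn (Subgroup.mem_sup_right ht)),
    Subgroup.mem_normalizer_iff_map_conj_eq.1 ((D.side₂ E).hWn (Subgroup.mem_sup_right ht))]

theorem le_sup_c0 : T ≤ (Cfsg.wOf K ⊔ Cfsg.wOf K₂) ⊔ c0 T K := by
  refine (D.gen E).trans (sup_le le_sup_left ?_)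
  conv_lhs => rw [← zJ_decomp E.two D.o1.comp]
  exact sup_le le_sup_right ((inf_le_right.trans le_sup_left).trans le_sup_left)

theorem card_X : Nat.card (Cfsg.wOf K ⊔ Cfsg.wOf K₂ : Subgroup G) = 8 := by
  set X := Cfsg.wOf K ⊔ Cfsg.wOf K₂ with hX
  have hn : Cfsg.wOf K₂ ≤ Subgroup.normalizer (Cfsg.wOf K : Set G) :=
    ((D.W₂_le E).trans le_sup_right).trans (D.side E).hWn
  have h1 := card_mul_relIndex' (le_sup_left : Cfsg.wOf K ≤ X)
  rw [relIndex_sup_of_normalizes hn, ← Subgroup.inf_relIndex_right, (D.side E).hW4] at h1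
  have h2 := card_mul_relIndex' (inf_le_right : Cfsg.wOf K ⊓ Cfsg.wOf K₂ ≤ Cfsg.wOf K₂)
  rw [(D.side₂ E).hW4] at h2
  have h3 : 1 < Nat.card (Cfsg.wOf K ⊓ Cfsg.wOf K₂ : Subgroup G) :=
    Finite.one_lt_card_iff_nontrivial.2
      ((Subgroup.nontrivial_iff_exists_ne_one _).2 ⟨w, ⟨D.m1.2, D.m2.2⟩, D.w1⟩)
  have hle : Nat.card X ≤ 8 := by
    change _ = Nat.card X at h1
    generalize (Cfsg.wOf K ⊓ Cfsg.wOf K₂).relIndex (Cfsg.wOf K₂) = r at h1 h2
    have : 2 * r ≤ Nat.card (Cfsg.wOf K ⊓ Cfsg.wOf K₂ : Subgroup G) * r := Nat.mul_le_mul_right r h3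
    omega
  have hn' : c0 T K ≤ Subgroup.normalizer (X : Set G) :=
    (inf_le_left.trans (zJ_le T)).trans (D.le_normalizer_X E)
  have h4 := (Subgroup.card_le_of_le (D.le_sup_c0 E)).trans (card_sup_le_of_normalizes hn')
  rw [D.card_T E] at h4
  exact le_antisymm hle (Nat.le_of_mul_le_mul_right h4 Nat.card_pos)

/-- The involution centralized by `K T` is outside `X`. -/
theorem c_notMem_X {c : G} (hc : c ∈ c0 T K) (hc1 : c ≠ 1) : c ∉ Cfsg.wOf K ⊔ Cfsg.wOf K₂ := by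
  intro hcX
  obtain ⟨-, hc2, -⟩ := E.card_bound D.o1 D.o2 D.ne
  have h1 : 1 < Nat.card (c0 T K) := Finite.one_lt_card_iff_nontrivial.2
    ((Subgroup.nontrivial_iff_exists_ne_one _).2 ⟨c, hc, hc1⟩)
  have hle : T ≤ Cfsg.wOf K ⊔ Cfsg.wOf K₂ := (D.le_sup_c0 E).trans (sup_le le_rfl fun x hx => by
    by_cases hx1 : x = 1
    · rw [hx1]; exact one_mem _
    · rw [eq_of_card_two (show Nat.card (c0 T K) = 2 by omega) hx hc hx1 hc1]; exact hcX)
  have := Subgroup.card_le_of_le hle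
  rw [D.card_T E, D.card_X E] at this
  omega

theorem c_ne_w {c : G} (hc : c ∈ c0 T K) (hc1 : c ≠ 1) : c ≠ w := fun h =>
  D.c_notMem_X E hc hc1 (h ▸ Subgroup.mem_sup_left D.m1.2)

/-- The companion involution. -/
theorem cw_mem {c : G} (hc : c ∈ c0 T K) (hc1 : c ≠ 1) : c * w ∈ c0 T K₂ ∧ c * w ≠ 1 := by
  have hne : c * w ≠ 1 := fun h => D.c_ne_w E hc hc1
    (by rw [eq_inv_of_mul_eq_one_left h, inv_eq_of_mul_eq_one_right (zJ_sq D.m1.1)])
  refine ⟨?_, hne⟩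
  refine (D.mem_c0_cases E (mul_mem hc.1 D.m1.1) hne fun h => hc1 (mul_eq_right.1 h)).resolve_left
    fun h => D.w1 ?_
  have hw : w ∈ c0 T K ⊓ Cfsg.wOf K := ⟨(Subgroup.mul_mem_cancel_left _ hc).1 h, D.m1.2⟩
  rwa [c0_inf E.two D.o1.comp, Subgroup.mem_bot] at hw

theorem zJ_list {c : G} (hc : c ∈ c0 T K) (hc1 : c ≠ 1) {x : G} (hx : x ∈ zJ T) :
    x = 1 ∨ x = w ∨ x = c ∨ x = c * w := by
  obtain ⟨-, hc2, -⟩ := E.card_bound D.o1 D.o2 D.ne
  have h1 : 1 < Nat.card (c0 T K) := Finite.one_lt_card_iff_nontrivial.2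
    ((Subgroup.nontrivial_iff_exists_ne_one _).2 ⟨c, hc, hc1⟩)
  have h4 : Nat.card (zJ T) = 4 := by have := card_zJ E.two D.o1.comp; omega
  rcases four_list (zJ_ea T) h4 hc.1 D.m1.1 hx hc1 D.w1 (D.c_ne_w E hc hc1) with h | h | h | h
  · exact Or.inl h
  · exact Or.inr (Or.inr (Or.inl h))
  · exact Or.inr (Or.inl h)
  · exact Or.inr (Or.inr (Or.inr h))

theorem zJ_small (h : Nat.card (c0 T K) = 1) {x : G} (hx : x ∈ zJ T) : x = 1 ∨ x = w := by
  have h2 : Nat.card (zJ T) = 2 := by rw [card_zJ E.two D.o1.comp, h]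
  by_cases hx1 : x = 1
  · exact Or.inl hx1
  · exact Or.inr (eq_of_card_two h2 hx D.m1.1 hx1 D.w1)

theorem comm_c {c : G} (hc : c ∈ c0 T K) {k : G} (hk : k ∈ K ⊔ T) : k * c = c * k := by
  have hle : K ⊔ T ≤ Subgroup.centralizer ({c} : Set G) := sup_le
    (fun x hx => Subgroup.mem_centralizer_singleton_iff.2 (Subgroup.mem_centralizer_iff.1 hc.2 x hx))
    (fun t ht => Subgroup.mem_centralizer_singleton_iff.2 (D.zJ_central E t ht c hc.1))
  exact Subgroup.mem_centralizer_singleton_iff.1 (hle hk)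

theorem mem_of_comm {c : G} (hc : c ∈ c0 T K) (hc1 : c ≠ 1) {x : G} (h : x * c = c * x) : x ∈ K ⊔ T := by
  rw [← D.overgroup_eq E]
  exact D.local_le E (centralizer_isTwoLocal (zJ_sq hc.1) hc1)
    (fun y hy => Subgroup.mem_centralizer_singleton_iff.2 (c0_comm_sup E.two D.o1.comp hc hy))
    (Subgroup.mem_centralizer_singleton_iff.2 h)

/-- A 2-subgroup of `N(W)` containing `T` is `T`. -/
theorem mem_T_of_mem_sup {S : Subgroup G} (hS : IsPGroup 2 S) (hTS : T ≤ S) {x : G} (hxS : x ∈ S)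
    (hx : x ∈ K ⊔ T) : x ∈ T := by
  rw [eq_of_two_le (D.parabolic E).2.1 (hS.to_le (sup_le hTS (Subgroup.zpowers_le.2 hxS)))
    (le_sup_left : T ≤ T ⊔ Subgroup.zpowers x) (sup_le le_sup_right (Subgroup.zpowers_le.2 hx))]
  exact Subgroup.mem_sup_right (Subgroup.mem_zpowers x)

theorem inf_Q {x : G} (h1 : x ∈ Cfsg.wOf K ⊔ zJ T) (h2 : x ∈ Cfsg.wOf K₂ ⊔ zJ T) : x ∈ zJ T := by
  have hxT : x ∈ T := sup_le (D.W_le E) (zJ_le T) h1
  refine mem_zJ_of_central hxT (fun t ht => ?_) (by rw [← pow_two]; exact (D.Q_ea E).2 x h1)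
  have hle : T ≤ Subgroup.centralizer ({x} : Set G) := by
    refine (D.gen E).trans (sup_le (sup_le ?_ ?_) ?_) <;> intro y hy <;>
      rw [Subgroup.mem_centralizer_singleton_iff]
    · exact Thompson.commute_of_isElementaryAbelian (D.Q_ea E) (Subgroup.mem_sup_left hy) h1
    · exact Thompson.commute_of_isElementaryAbelian (D.symm.Q_ea E) (Subgroup.mem_sup_left hy) h2
    · exact Thompson.commute_of_isElementaryAbelian (D.Q_ea E) (Subgroup.mem_sup_right hy) h1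
  exact Subgroup.mem_centralizer_singleton_iff.1 (hle ht)

theorem normalizer_Q_le :
    Subgroup.normalizer (Cfsg.wOf K ⊔ zJ T : Subgroup G) ≤ K ⊔ T := by
  have hmax := (D.normalizer_W_maximal E).1
  have heq : Cfsg.pCoreOf 2 (Subgroup.normalizer (Cfsg.wOf K : Set G)) = Cfsg.wOf K ⊔ zJ T :=
    (D.core_eq E).1.trans (D.Q_eq E)
  have hle : Subgroup.normalizer (Cfsg.wOf K : Set G) ≤
      Subgroup.normalizer (Cfsg.wOf K ⊔ zJ T : Subgroup G) :=
    heq ▸ CharP.le_normalizer_opIn (p := 2) (Subgroup.normalizer (Cfsg.wOf K : Set G))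
  refine le_of_eq ((hmax.2 _ ⟨_, E.two.to_le (sup_le (D.W_le E) (zJ_le T)), ?_, rfl⟩ hle).trans (D.overgroup_eq E))
  exact fun h => wOf_ne_bot D.o1.comp (le_bot_iff.1 (h ▸ le_sup_left))

/-- An element of `N(T)` outside `T` swaps the two elementary abelian subgroups. -/
theorem swap_Q {S : Subgroup G} (hS : IsPGroup 2 S) (hTS : T ≤ S) {g : G} (hgS : g ∈ S)
    (hgN : g ∈ Subgroup.normalizer (T : Set G)) (hgT : g ∉ T) {x : G} (hx : x ∈ Cfsg.wOf K ⊔ zJ T) :
    g * x * g⁻¹ ∈ Cfsg.wOf K₂ ⊔ zJ T := by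
  set Q₁ := Cfsg.wOf K ⊔ zJ T with hQ₁
  set Q₂ := Cfsg.wOf K₂ ⊔ zJ T with hQ₂
  by_contra hx2
  have hcase : ∀ y ∈ Q₁, g * y * g⁻¹ ∈ Q₁ ∨ g * y * g⁻¹ ∈ Q₂ := fun y hy => by
    refine D.involution_cases E ((Subgroup.mem_normalizer_iff.1 hgN y).1 (sup_le (D.W_le E) (zJ_le T) hy)) ?_
    rw [show g * y * g⁻¹ * (g * y * g⁻¹) = g * (y * y) * g⁻¹ by group, ← pow_two,
      (D.Q_ea E).2 y hy]
    group
  have hx1 := (hcase x hx).resolve_right hx2
  have hall : ∀ y ∈ Q₁, g * y * g⁻¹ ∈ Q₁ := by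
    intro y hy
    refine (hcase y hy).elim id fun hy2 => ?_
    rcases hcase _ (mul_mem hx hy) with h | h
    · rw [show g * (x * y) * g⁻¹ = g * x * g⁻¹ * (g * y * g⁻¹) by group] at h
      exact (Subgroup.mul_mem_cancel_left _ hx1).1 h
    · rw [show g * (x * y) * g⁻¹ = g * x * g⁻¹ * (g * y * g⁻¹) by group] at h
      exact absurd ((Subgroup.mul_mem_cancel_right _ hy2).1 h) hx2
  have hgQ : g ∈ Subgroup.normalizer (Q₁ : Set G) := Subgroup.mem_normalizer_fintype hall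
  exact hgT (D.mem_T_of_mem_sup E hS hTS hgS (D.normalizer_Q_le E hgQ))

/-- An involution moved only by `w` lies in `T`. -/
theorem mem_T_of_nearly_central {S : Subgroup G} (hS : IsPGroup 2 S) (hTS : T ≤ S) {d : G} (hdS : d ∈ S)
    (hdw : d * w = w * d) (hd : ∀ s ∈ T, s * d * s⁻¹ = d ∨ s * d * s⁻¹ = d * w) : d ∈ T := by
  refine D.mem_T_of_mem_sup E hS hTS hdS (D.normalizer_Q_le E (Subgroup.mem_normalizer_fintype ?_))
  intro x hx
  have hwQ : w ∈ Cfsg.wOf K ⊔ zJ T := Subgroup.mem_sup_left D.m1.2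
  have hxT : x ∈ T := sup_le (D.W_le E) (zJ_le T) hx
  have e : d * x * d⁻¹ = d * (x * d * x⁻¹)⁻¹ * x := by group
  rcases hd x hxT with h | h <;> rw [e, h]
  · rw [mul_inv_cancel, one_mul]
    exact hx
  · rw [hdw, mul_inv_rev, ← mul_assoc, mul_inv_cancel, one_mul]
    exact mul_mem (inv_mem hwQ) hx

end Duo

end Cfsg.Agent.JComp
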