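import Cfsg.Agent.Lib.JComp.ResidualBasic

/-!
A Sylow 2-subgroup over `T`: `w` is central, `T` has index at most 2, and the conjugates of the involution centralized
by a parabolic stay in `T` outside `X`.
-/

set_option autoImplicit false
set_option linter.style.haveILetI false
set_option linter.unusedSectionVars false
open scoped commutatorElement Pointwise

namespace Cfsg.Agent.JComp

open Cfsg.Agent

universe u

variable {G : Type u} [Group G] [Finite G]

namespace Duo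

variable {T M K K₂ : Subgroup G} {w : G} (E : Setting T M) (D : Duo T M K K₂ w)
include E D

section OverSylow

variable (S : Sylow 2 G) (hTS : T ≤ (S : Subgroup G))
include hTS

/-- A central involution of a larger Sylow subgroup is `w`. -/
theorem central_eq (hST : ¬ (S : Subgroup G) ≤ T) {z : G} (hzS : z ∈ (S : Subgroup G))
    (hzc : ∀ s ∈ (S : Subgroup G), s * z = z * s) (h2 : z * z = 1) : z = 1 ∨ z = w := by
  have hzT : z ∈ T := (D.core_eq E).2 (Subgroup.mem_centralizer_iff.2 fun v hv => hzc v (hTS (D.W_le E hv)))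
  have hzJ : z ∈ zJ T := mem_zJ_of_central hzT (fun t ht => hzc t (hTS ht)) h2
  by_cases h1 : Nat.card (c0 T K) = 1
  · exact D.zJ_small E h1 hzJ
  obtain ⟨c, hc, hc1⟩ := (Subgroup.nontrivial_iff_exists_ne_one (c0 T K)).1
    (Finite.one_lt_card_iff_nontrivial.1 (by
      have : 0 < Nat.card (c0 T K) := Nat.card_pos
      omega))
  obtain ⟨hcw, hcw1⟩ := D.cw_mem E hc hc1
  rcases D.zJ_list E hc hc1 hzJ with h | h | h | h
  · exact Or.inl h
  · exact Or.inr h
  · exact absurd (fun s hs => D.mem_T_of_mem_sup E S.isPGroup' hTS hs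
      (D.mem_of_comm E hc hc1 (h ▸ hzc s hs))) hST
  · exact absurd (fun s hs => D.symm.mem_T_of_mem_sup E S.isPGroup' hTS hs
      (D.symm.mem_of_comm E hcw hcw1 (h ▸ hzc s hs))) hST

theorem w_central {s : G} (hs : s ∈ (S : Subgroup G)) : s * w = w * s := by
  by_cases hST : (S : Subgroup G) ≤ T
  · exact D.w_comm E s (hST hs)
  obtain ⟨z, hzS, hz1, hz2, hzc⟩ := exists_central_involution S.isPGroup' fun h => E.ne_bot
    (le_bot_iff.1 (h ▸ hTS))
  obtain rfl := (D.central_eq E S hTS hST hzS hzc hz2).resolve_left hz1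
  exact hzc s hs

theorem centralizer_w_le (hST : ¬ (S : Subgroup G) ≤ T) :
    Subgroup.centralizer ({w} : Set G) ≤ Subgroup.normalizer ((S : Subgroup G) : Set G) := by
  refine le_trans (fun x hx => Subgroup.mem_centralizer_iff.2 fun z hz => ?_) (E.Z.hZ S)
  rcases D.central_eq E S hTS hST (omegaCenterOf_le _ hz) (fun s hs => omega_central hz hs)
    (by rw [← pow_two]; exact (omegaCenterOf_ea _).2 z hz) with rfl | rfl
  · simp
  · exact (Subgroup.mem_centralizer_singleton_iff.1 hx).symm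

variable {c : G} (hc : c ∈ c0 T K) (hc1 : c ≠ 1)
include hc hc1

theorem S_le_of_fix {h : G} (hhS : h ∈ (S : Subgroup G)) (h' : h * c * h⁻¹ = c) : h ∈ T :=
  D.mem_T_of_mem_sup E S.isPGroup' hTS hhS (D.mem_of_comm E hc hc1 (mul_inv_eq_iff_eq_mul.1 h'))

theorem moves {h : G} (hhS : h ∈ (S : Subgroup G)) (hN : h ∈ Subgroup.normalizer (T : Set G)) :
    h * c * h⁻¹ = c ∨ h * c * h⁻¹ = c * w := by
  have hz : h * c * h⁻¹ ∈ zJ T := (Subgroup.mem_normalizer_iff.1
    (normalizer_le_omegaCenterOf _ (Thompson.normalizer_le_normalizer_thompsonSubgroupOf 2 T hN)) c).1 hc.1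
  rcases D.zJ_list E hc hc1 hz with e | e | e | e
  · exact absurd (conj_eq_one_iff.1 e) hc1
  · exfalso
    refine D.c_ne_w E hc hc1 ?_
    have h' : h * w * h⁻¹ = w := mul_inv_eq_iff_eq_mul.2 (D.w_central E S hTS hhS)
    exact mul_left_cancel (mul_right_cancel (e.trans h'.symm))
  · exact Or.inl e
  · exact Or.inr e

/-- An involution with the same behaviour as `c` under `S` lies in `Ω₁(Z(J(T)))`. -/
theorem mem_zJ_of_moves {g : G} (hgS : g ∈ (S : Subgroup G)) (hgN : g ∈ Subgroup.normalizer (T : Set G))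
    (hgT : g ∉ T) {d : G} (hdS : d ∈ (S : Subgroup G)) (hd2 : d * d = 1)
    (hd : ∀ s ∈ T, s * d * s⁻¹ = d ∨ s * d * s⁻¹ = d * w) (hg : g * d * g⁻¹ = d ∨ g * d * g⁻¹ = d * w) :
    d ∈ zJ T := by
  have hdT := D.mem_T_of_nearly_central E S.isPGroup' hTS hdS (D.w_central E S hTS hdS) hd
  have hback : g * d * g⁻¹ ∈ zJ T → d ∈ zJ T := fun h =>
    (Subgroup.mem_normalizer_iff.1
      (normalizer_le_omegaCenterOf _ (Thompson.normalizer_le_normalizer_thompsonSubgroupOf 2 T hgN)) d).2 h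
  rcases D.involution_cases E hdT hd2 with h | h
  · refine hback (D.inf_Q E ?_ (D.swap_Q E S.isPGroup' hTS hgS hgN hgT h))
    rcases hg with e | e <;> rw [e]
    · exact h
    · exact mul_mem h (Subgroup.mem_sup_left D.m1.2)
  · refine hback (D.inf_Q E (D.symm.swap_Q E S.isPGroup' hTS hgS hgN hgT h) ?_)
    rcases hg with e | e <;> rw [e]
    · exact h
    · exact mul_mem h (Subgroup.mem_sup_left D.m2.2)

/-- `T` is normal in `S` and `S` swaps the two sides outside `T`. -/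
theorem le_normalizer_T : (S : Subgroup G) ≤ Subgroup.normalizer (T : Set G) := by
  by_contra hcon
  set T2 := (S : Subgroup G) ⊓ Subgroup.normalizer (T : Set G) with hT2
  have hST : ¬ (S : Subgroup G) ≤ T := fun h => hcon (h.trans Subgroup.le_normalizer)
  obtain ⟨g, hgS, hgN, hgT, -⟩ := exists_two_step S.isPGroup' hTS hST
  have hgc : g * c * g⁻¹ = c * w :=
    (D.moves E S hTS hc hc1 hgS hgN).resolve_left fun h => hgT (D.S_le_of_fix E S hTS hc hc1 hgS h)
  obtain ⟨h, hhS, hhN, hhT2, -⟩ := exists_two_step S.isPGroup' (inf_le_left : T2 ≤ (S : Subgroup G))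
    fun h => hcon (h.trans inf_le_right)
  refine hhT2 ⟨hhS, ?_⟩
  have hhw : h * w * h⁻¹ = w := mul_inv_eq_iff_eq_mul.2 (D.w_central E S hTS hhS)
  have hmov : ∀ s ∈ T2, s * (h * c * h⁻¹) * s⁻¹ = h * c * h⁻¹ ∨ s * (h * c * h⁻¹) * s⁻¹ = h * c * h⁻¹ * w := by
    intro s hs
    have hs' : h⁻¹ * s * h ∈ T2 := (Subgroup.mem_normalizer_iff''.1 hhN s).1 hs
    have e : s * (h * c * h⁻¹) * s⁻¹ = h * ((h⁻¹ * s * h) * c * (h⁻¹ * s * h)⁻¹) * h⁻¹ := by group
    rcases D.moves E S hTS hc hc1 hs'.1 hs'.2 with h' | h' <;> rw [e, h']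
    · exact Or.inl rfl
    · refine Or.inr ?_
      rw [show h * (c * w) * h⁻¹ = h * c * h⁻¹ * (h * w * h⁻¹) by group, hhw]
  have hd : h * c * h⁻¹ ∈ zJ T := by
    refine D.mem_zJ_of_moves E S hTS hc hc1 hgS hgN hgT ?_ ?_ (fun s hs => hmov s ⟨hTS hs, Subgroup.le_normalizer hs⟩)
      (hmov g ⟨hgS, hgN⟩)
    · exact mul_mem (mul_mem hhS (hTS (zJ_le T hc.1))) (inv_mem hhS)
    · rw [show h * c * h⁻¹ * (h * c * h⁻¹) = h * (c * c) * h⁻¹ by group, zJ_sq hc.1]
      group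
  rcases D.zJ_list E hc hc1 hd with e | e | e | e
  · exact absurd (conj_eq_one_iff.1 e) hc1
  · exact absurd (mul_left_cancel (mul_right_cancel (e.trans hhw.symm))) (D.c_ne_w E hc hc1)
  · exact Subgroup.le_normalizer (D.S_le_of_fix E S hTS hc hc1 hhS e)
  · have hgh : g⁻¹ * h ∈ T := by
      refine D.S_le_of_fix E S hTS hc hc1 (mul_mem (inv_mem hgS) hhS) ?_
      rw [show g⁻¹ * h * c * (g⁻¹ * h)⁻¹ = g⁻¹ * (h * c * h⁻¹) * g by group, e, ← hgc]
      group
    have h2 := mul_mem hgN (Subgroup.le_normalizer hgh)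
    rwa [← mul_assoc, mul_inv_cancel, one_mul] at h2

theorem S_move {s : G} (hs : s ∈ (S : Subgroup G)) : s * c * s⁻¹ = c ∨ s * c * s⁻¹ = c * w :=
  D.moves E S hTS hc hc1 hs (D.le_normalizer_T E S hTS hc hc1 hs)

theorem S_swap {s : G} (hs : s ∈ (S : Subgroup G)) (hsT : s ∉ T) : s * c * s⁻¹ = c * w :=
  (D.S_move E S hTS hc hc1 hs).resolve_left fun h => hsT (D.S_le_of_fix E S hTS hc hc1 hs h)

theorem card_S_le : Nat.card (S : Subgroup G) ≤ 2 * Nat.card T := by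
  by_cases hST : (S : Subgroup G) ≤ T
  · exact (Subgroup.card_le_of_le hST).trans (Nat.le_mul_of_pos_left _ two_pos)
  obtain ⟨g, hgS, hgT⟩ := SetLike.not_le_iff_exists.1 hST
  have hg := D.S_swap E S hTS hc hc1 hgS hgT
  have h2 : T.relIndex (S : Subgroup G) = 2 := by
    refine Subgroup.relIndex_eq_two_iff_exists_notMem_and.2 ⟨g, hgS, hgT, fun b hb => ?_⟩
    by_cases hbT : b ∈ T
    · exact Or.inr hbT
    refine Or.inl (D.S_le_of_fix E S hTS hc hc1 (mul_mem hb hgS) ?_)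
    rw [show b * g * c * (b * g)⁻¹ = b * (g * c * g⁻¹) * b⁻¹ by group, hg,
      show b * (c * w) * b⁻¹ = b * c * b⁻¹ * (b * w * b⁻¹) by group, D.S_swap E S hTS hc hc1 hb hbT,
      mul_inv_eq_iff_eq_mul.2 (D.w_central E S hTS hb), mul_assoc, zJ_sq D.m1.1, mul_one]
  rw [← card_mul_relIndex' hTS, h2, mul_comm]

/-- A larger Sylow subgroup carries `W` to `W₂`. -/
theorem swap_W {s : G} (hs : s ∈ (S : Subgroup G)) (hsT : s ∉ T) {x : G} (hx : x ∈ Cfsg.wOf K) :
    s * x * s⁻¹ ∈ Cfsg.wOf K₂ := by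
  by_cases hx1 : x = 1
  · rw [hx1, mul_one, mul_inv_cancel]; exact one_mem _
  obtain ⟨k, hk, rfl⟩ := (D.side E).exists_conj hx hx1
  obtain ⟨hcw, hcw1⟩ := D.cw_mem E hc hc1
  have hsc := D.S_swap E S hTS hc hc1 hs hsT
  have hk2 : s * k * s⁻¹ ∈ K₂ ⊔ T := by
    refine D.symm.mem_of_comm E hcw hcw1 ?_
    rw [← hsc]
    calc s * k * s⁻¹ * (s * c * s⁻¹) = s * (k * c) * s⁻¹ := by group
      _ = s * (c * k) * s⁻¹ := by rw [D.comm_c E hc hk]
      _ = _ := by group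
  have e : s * (k * w * k⁻¹) * s⁻¹ = (s * k * s⁻¹) * (s * w * s⁻¹) * (s * k * s⁻¹)⁻¹ := by group
  rw [e, mul_inv_eq_iff_eq_mul.2 (D.w_central E S hTS hs)]
  exact (D.side₂ E).conjW hk2 D.m2.2

theorem S_normalizes_X :
    (S : Subgroup G) ≤ Subgroup.normalizer (Cfsg.wOf K ⊔ Cfsg.wOf K₂ : Subgroup G) := by
  intro s hs
  by_cases hsT : s ∈ T
  · exact D.le_normalizer_X E hsT
  obtain ⟨hcw, hcw1⟩ := D.cw_mem E hc hc1
  rw [Subgroup.mem_normalizer_iff_map_conj_eq, Subgroup.map_sup]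
  refine Subgroup.eq_of_le_of_card_ge (sup_le ?_ ?_) ?_
  · rintro _ ⟨x, hx, rfl⟩
    exact Subgroup.mem_sup_right (D.swap_W E S hTS hc hc1 hs hsT hx)
  · rintro _ ⟨x, hx, rfl⟩
    exact Subgroup.mem_sup_left (D.symm.swap_W E S hTS hcw hcw1 hs hsT hx)
  · rw [← Subgroup.map_sup]
    exact (Subgroup.card_map_of_injective (MulAut.conj s).injective).ge

/-- `c` is not conjugate to `w`. -/
theorem not_conj (x : G) : x * w * x⁻¹ ≠ c := by
  intro h
  set f := (MulAut.conj x).toMonoidHom with hf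
  have hSC : (S : Subgroup G).map f ≤ K ⊔ T := by
    rintro _ ⟨s, hs, rfl⟩
    refine D.mem_of_comm E hc hc1 ?_
    rw [← h]
    change x * s * x⁻¹ * (x * w * x⁻¹) = x * w * x⁻¹ * (x * s * x⁻¹)
    calc x * s * x⁻¹ * (x * w * x⁻¹) = x * (s * w) * x⁻¹ := by group
      _ = x * (w * s) * x⁻¹ := by rw [D.w_central E S hTS hs]
      _ = _ := by group
  obtain ⟨y, hy, hle⟩ := exists_conj_le (D.parabolic E).2.1 hSC (S.isPGroup'.map f)
  have hST : (S : Subgroup G) = T := by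
    refine (Subgroup.eq_of_le_of_card_ge hTS ?_).symm
    have h1 := Subgroup.card_le_of_le hle
    rwa [Subgroup.card_map_of_injective (f := (MulAut.conj y).toMonoidHom) (MulAut.conj y).injective,
      Subgroup.card_map_of_injective (f := f) (MulAut.conj x).injective] at h1
  obtain ⟨t, ht, htw⟩ := D.exists_sq E
  have hn : y * x * t * (y * x)⁻¹ ∈ T := by
    rw [show y * x * t * (y * x)⁻¹ = y * (x * t * x⁻¹) * y⁻¹ by group]
    exact hle ⟨_, ⟨t, hST.ge ht, rfl⟩, rfl⟩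
  have hyc : y * c * y⁻¹ = c := mul_inv_eq_iff_eq_mul.2 (D.comm_c E hc hy)
  have e : y * x * t * (y * x)⁻¹ * (y * x * t * (y * x)⁻¹) = c := by
    rw [show y * x * t * (y * x)⁻¹ * (y * x * t * (y * x)⁻¹) = y * (x * (t * t) * x⁻¹) * y⁻¹ by group, htw, h, hyc]
  rcases D.sq_cases E hn with h1 | h1
  · exact hc1 (e.symm.trans h1)
  · exact D.c_ne_w E hc hc1 (e.symm.trans h1)

theorem not_conj_cw (x : G) : x * w * x⁻¹ ≠ c * w :=
  D.symm.not_conj E S hTS (D.cw_mem E hc hc1).1 (D.cw_mem E hc hc1).2 x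

/-- An involution of `W ⊔ Ω₁(Z(J(T)))` conjugate to `w` lies in `W`. -/
theorem mem_W_of_conj {x v : G} (hv : v ∈ Cfsg.wOf K ⊔ zJ T) (hxv : x * w * x⁻¹ = v) : v ∈ Cfsg.wOf K := by
  obtain ⟨e, he, z, hz, rfl⟩ : ∃ e ∈ Cfsg.wOf K, ∃ z ∈ zJ T, v = e * z :=
    Amalgam.mem_sup_of_comm (fun a ha => Subgroup.mem_centralizer_iff.2 fun s hs =>
      D.zJ_central E s (D.W_le E hs) a ha) hv
  have key : ∀ e ∈ Cfsg.wOf K, x * w * x⁻¹ ≠ e * c := by
    intro e he hh
    by_cases he1 : e = 1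
    · exact D.not_conj E S hTS hc hc1 x (by rw [hh, he1, one_mul])
    obtain ⟨k, hk, rfl⟩ := (D.side E).exists_conj he he1
    refine D.not_conj_cw E S hTS hc hc1 (k⁻¹ * x) ?_
    rw [show k⁻¹ * x * w * (k⁻¹ * x)⁻¹ = k⁻¹ * (x * w * x⁻¹) * k by group, hh]
    calc k⁻¹ * (k * w * k⁻¹ * c) * k = w * k⁻¹ * (c * k) := by group
      _ = w * k⁻¹ * (k * c) := by rw [D.comm_c E hc hk]
      _ = w * c := by group
      _ = c * w := D.zJ_central E w (D.W_le E D.m1.2) c hc.1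
  rcases D.zJ_list E hc hc1 hz with rfl | rfl | rfl | rfl
  · rwa [mul_one]
  · exact mul_mem he D.m1.2
  · exact absurd hxv (key e he)
  · refine absurd ?_ (key (e * w) (mul_mem he D.m1.2))
    rw [hxv, mul_assoc e w c, D.zJ_central E w (D.W_le E D.m1.2) c hc.1]

/-- The conjugates of `c` in `S` lie in `T` outside `X`. -/
theorem conjugates {x : G} (hx : x⁻¹ * c * x ∈ (S : Subgroup G)) :
    x⁻¹ * c * x ∈ T ∧ x⁻¹ * c * x ∉ Cfsg.wOf K ⊔ Cfsg.wOf K₂ := by
  set t := x⁻¹ * c * x with ht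
  have ht2 : t * t = 1 := by
    rw [ht, show x⁻¹ * c * x * (x⁻¹ * c * x) = x⁻¹ * (c * c) * x by group, zJ_sq hc.1]
    group
  have hT : t ∈ T := by
    by_contra htT
    have hST : ¬ (S : Subgroup G) ≤ T := fun h => htT (h hx)
    -- move `x w x⁻¹` into `T`
    have hcomm : x * w * x⁻¹ * c = c * (x * w * x⁻¹) := by
      calc x * w * x⁻¹ * c = x * (w * t) * x⁻¹ := by rw [ht]; group
        _ = x * (t * w) * x⁻¹ := by rw [D.w_central E S hTS hx]
        _ = _ := by rw [ht]; group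
    have hp : IsPGroup 2 (Subgroup.zpowers (x * w * x⁻¹)) := by
      refine IsPGroup.of_card (n := 1) ?_
      rw [Nat.card_zpowers, orderOf_eq_prime (p := 2) ?_ fun h => D.w1 (conj_eq_one_iff.1 h), pow_one]
      rw [pow_two, show x * w * x⁻¹ * (x * w * x⁻¹) = x * (w * w) * x⁻¹ by group, zJ_sq D.m1.1]
      group
    obtain ⟨y, hy, hle⟩ := exists_conj_le (D.parabolic E).2.1
      (Subgroup.zpowers_le.2 (D.mem_of_comm E hc hc1 hcomm)) hp
    have hw2 : (y * x) * w * (y * x)⁻¹ ∈ T := by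
      rw [show y * x * w * (y * x)⁻¹ = y * (x * w * x⁻¹) * y⁻¹ by group]
      exact hle ⟨_, Subgroup.mem_zpowers _, rfl⟩
    have hsq : (y * x) * w * (y * x)⁻¹ * ((y * x) * w * (y * x)⁻¹) = 1 := by
      rw [show y * x * w * (y * x)⁻¹ * (y * x * w * (y * x)⁻¹) = y * x * (w * w) * (y * x)⁻¹ by group,
        zJ_sq D.m1.1]
      group
    have hcz : (y * x) * t * (y * x)⁻¹ = c := by
      rw [ht, show y * x * (x⁻¹ * c * x) * (y * x)⁻¹ = y * c * y⁻¹ by group]
      exact mul_inv_eq_iff_eq_mul.2 (D.comm_c E hc hy)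
    -- every element fixing `w` and normalizing `S` keeps `c` in `zJ`
    have hfix : ∀ m : G, m * w = w * m → m ∈ Subgroup.normalizer ((S : Subgroup G) : Set G) →
        m * c * m⁻¹ = c ∨ m * c * m⁻¹ = c * w := by
      intro m hmw hmS
      obtain ⟨g, hgS, hgT⟩ := SetLike.not_le_iff_exists.1 hST
      have hmw' : m * w * m⁻¹ = w := mul_inv_eq_iff_eq_mul.2 hmw
      have hmov : ∀ s ∈ (S : Subgroup G), s * (m * c * m⁻¹) * s⁻¹ = m * c * m⁻¹ ∨
          s * (m * c * m⁻¹) * s⁻¹ = m * c * m⁻¹ * w := by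
        intro s hs
        have e : s * (m * c * m⁻¹) * s⁻¹ = m * ((m⁻¹ * s * m) * c * (m⁻¹ * s * m)⁻¹) * m⁻¹ := by group
        rcases D.S_move E S hTS hc hc1 ((Subgroup.mem_normalizer_iff''.1 hmS s).1 hs) with h' | h' <;> rw [e, h']
        · exact Or.inl rfl
        · refine Or.inr ?_
          rw [show m * (c * w) * m⁻¹ = m * c * m⁻¹ * (m * w * m⁻¹) by group, hmw']
      have hd : m * c * m⁻¹ ∈ zJ T := by
        refine D.mem_zJ_of_moves E S hTS hc hc1 hgS (D.le_normalizer_T E S hTS hc hc1 hgS) hgT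
          ((Subgroup.mem_normalizer_iff.1 hmS c).1 (hTS (zJ_le T hc.1))) ?_ (fun s hs => hmov s (hTS hs)) (hmov g hgS)
        rw [show m * c * m⁻¹ * (m * c * m⁻¹) = m * (c * c) * m⁻¹ by group, zJ_sq hc.1]
        group
      rcases D.zJ_list E hc hc1 hd with e | e | e | e
      · exact absurd (conj_eq_one_iff.1 e) hc1
      · exact absurd (mul_left_cancel (mul_right_cancel (e.trans hmw'.symm))) (D.c_ne_w E hc hc1)
      · exact Or.inl e
      · exact Or.inr e
    have hcase : ∀ k : G, k * w * k⁻¹ = (y * x) * w * (y * x)⁻¹ →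
        ((y * x)⁻¹ * k) * w = w * ((y * x)⁻¹ * k) := fun k hk => by
      refine mul_inv_eq_iff_eq_mul.1 ?_
      rw [show (y * x)⁻¹ * k * w * ((y * x)⁻¹ * k)⁻¹ = (y * x)⁻¹ * (k * w * k⁻¹) * (y * x) by group, hk]
      group
    have hw2ne : (y * x) * w * (y * x)⁻¹ ≠ 1 := fun h => D.w1 (conj_eq_one_iff.1 h)
    obtain ⟨hcw, hcw1⟩ := D.cw_mem E hc hc1
    rcases D.involution_cases E hw2 hsq with h | h
    · obtain ⟨k, hk, hkw⟩ := (D.side E).exists_conj (D.mem_W_of_conj E S hTS hc hc1 h rfl) hw2ne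
      have hm := hcase k hkw
      have e : (y * x)⁻¹ * k * c * ((y * x)⁻¹ * k)⁻¹ = t := by
        rw [show (y * x)⁻¹ * k * c * ((y * x)⁻¹ * k)⁻¹ = (y * x)⁻¹ * (k * c * k⁻¹) * (y * x) by group,
          mul_inv_eq_iff_eq_mul.2 (D.comm_c E hc hk), ← hcz]
        group
      rcases hfix _ hm (D.centralizer_w_le E S hTS hST (Subgroup.mem_centralizer_singleton_iff.2 hm)) with h' | h' <;>
        rw [e] at h' <;> refine htT ?_ <;> rw [h']
      · exact zJ_le T hc.1
      · exact zJ_le T (mul_mem hc.1 D.m1.1)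
    · obtain ⟨k, hk, hkw⟩ :=
        (D.side₂ E).exists_conj (D.symm.mem_W_of_conj E S hTS hcw hcw1 h rfl) hw2ne
      set m := (y * x)⁻¹ * k with hmdef
      have hm := hcase k hkw
      have hmN := D.centralizer_w_le E S hTS hST (Subgroup.mem_centralizer_singleton_iff.2 hm)
      have hmT : ∀ a ∈ T, m * a * m⁻¹ ∈ T := by
        intro a ha
        have haS : m * a * m⁻¹ ∈ (S : Subgroup G) := (Subgroup.mem_normalizer_iff.1 hmN a).1 (hTS ha)
        have hac : a * c = c * a := D.zJ_central E a ha c hc.1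
        have hfix' : m * a * m⁻¹ * (m * c * m⁻¹) * (m * a * m⁻¹)⁻¹ = m * c * m⁻¹ := by
          rw [show m * a * m⁻¹ * (m * c * m⁻¹) * (m * a * m⁻¹)⁻¹ = m * (a * c * a⁻¹) * m⁻¹ by group,
            mul_inv_eq_iff_eq_mul.2 hac]
        rcases hfix m hm hmN with h' | h'
        · rw [h'] at hfix'
          exact D.S_le_of_fix E S hTS hc hc1 haS hfix'
        · rw [h'] at hfix'
          exact D.symm.S_le_of_fix E S hTS hcw hcw1 haS hfix'
      have hd : k⁻¹ * c * k ∈ T := by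
        rw [show k⁻¹ * c * k = k⁻¹ * (c * w) * k * (k⁻¹ * w⁻¹ * k) by group]
        refine mul_mem ?_ (D.W₂_le E ?_)
        · rw [show k⁻¹ * (c * w) * k = k⁻¹ * ((c * w) * k) by group, ← D.symm.comm_c E hcw hk]
          rw [← mul_assoc, inv_mul_cancel, one_mul]
          exact zJ_le T (mul_mem hc.1 D.m1.1)
        · have h' := (D.side₂ E).conjW (inv_mem hk) (inv_mem D.m2.2)
          rwa [inv_inv] at h'
      refine htT ?_
      have := hmT _ hd
      rwa [hmdef, show (y * x)⁻¹ * k * (k⁻¹ * c * k) * ((y * x)⁻¹ * k)⁻¹ = (y * x)⁻¹ * c * (y * x) by group,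
        ← hcz, show (y * x)⁻¹ * (y * x * t * (y * x)⁻¹) * (y * x) = t by group] at this
  refine ⟨hT, fun htX => ?_⟩
  have key : ∀ {K' K'' : Subgroup G} {c' : G} (D' : Duo T M K' K'' w), c' ∈ c0 T K' → c' ≠ 1 →
      t ∈ Cfsg.wOf K' ⊔ Cfsg.wOf K'' → t ∈ Cfsg.wOf K' ⊔ zJ T → t ∈ Cfsg.wOf K' := by
    intro K' K'' c' D' hc' hc'1 htX' htQ
    obtain ⟨e, he, z, hz, hez⟩ : ∃ e ∈ Cfsg.wOf K', ∃ z ∈ zJ T, t = e * z :=
      Amalgam.mem_sup_of_comm (fun a ha => Subgroup.mem_centralizer_iff.2 fun s hs =>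
        D'.zJ_central E s (D'.W_le E hs) a ha) htQ
    rw [hez] at htX' ⊢
    have hzX := (Subgroup.mul_mem_cancel_left _ (Subgroup.mem_sup_left he)).1 htX'
    rcases D'.zJ_list E hc' hc'1 hz with rfl | rfl | rfl | rfl
    · rwa [mul_one]
    · exact mul_mem he D'.m1.2
    · exact absurd hzX (D'.c_notMem_X E hc' hc'1)
    · exact absurd ((Subgroup.mul_mem_cancel_right _ (Subgroup.mem_sup_left D'.m1.2)).1 hzX)
        (D'.c_notMem_X E hc' hc'1)
  have ht1 : t ≠ 1 := fun h => hc1 (by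
    rw [show c = x * t * x⁻¹ by rw [ht]; group, h]
    group)
  have hfin : ∀ {k : G}, k * w * k⁻¹ = t → False := fun {k} hk => by
    refine D.not_conj E S hTS hc hc1 (x * k) ?_
    rw [show x * k * w * (x * k)⁻¹ = x * (k * w * k⁻¹) * x⁻¹ by group, hk, ht]
    group
  obtain ⟨hcw, hcw1⟩ := D.cw_mem E hc hc1
  rcases D.involution_cases E hT ht2 with h | h
  · obtain ⟨k, -, hk⟩ := (D.side E).exists_conj (key D hc hc1 htX h) ht1
    exact hfin hk
  · obtain ⟨k, -, hk⟩ := (D.side₂ E).exists_conj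
      (key D.symm hcw hcw1 (by rwa [sup_comm] at htX) h) ht1
    exact hfin hk

end OverSylow

end Duo

end Cfsg.Agent.JComp
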