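import Cfsg.Agent.Lib.Involutions.SwapCount
import Cfsg.Prelude.Def_Involutions

/-!
A strongly embedded subgroup restricts to a normal subgroup of even order.
-/

set_option autoImplicit false
set_option linter.style.haveILetI false

namespace Cfsg.Agent.JComp

variable {G : Type*} [Group G] [Finite G]

/-- Pullback of a strongly embedded subgroup along an injection with normal image. -/
theorem stronglyEmbedded_comap {A : Type*} [Group A] [Finite A] (f : A →* G) (hf : Function.Injective f)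
    (hn : f.range.Normal) (ha : ∃ a : A, orderOf a = 2) {M : Subgroup G} (hM : Cfsg.IsStronglyEmbedded M) :
    Cfsg.IsStronglyEmbedded (M.comap f) := by
  obtain ⟨a, ha⟩ := ha
  obtain ⟨z, hzM, hz⟩ := Invol.exists_invol hM.2.1
  have hfa : orderOf (f a) = 2 := by rw [orderOf_injective f hf, ha]
  obtain ⟨k, hk⟩ := isConj_iff.1 (Invol.se_isConj hM hfa hz)
  obtain ⟨b, hb⟩ : z ∈ f.range := hk ▸ hn.conj_mem _ ⟨a, rfl⟩ k
  have hbz : orderOf b = 2 := by rw [← orderOf_injective f hf, hb, hz]
  refine ⟨fun htop => ?_, ?_, fun g hg => ?_⟩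
  · obtain ⟨g, hg⟩ : ∃ g, g ∉ M := by
      by_contra h
      push Not at h
      exact hM.1 (eq_top_iff.mpr fun g _ => h g)
    have hle : f.range ≤ M := by
      rintro _ ⟨x, rfl⟩
      exact (htop ▸ Subgroup.mem_top x : x ∈ M.comap f)
    have hzg : g * z * g⁻¹ ∈ M := hle (hn.conj_mem _ ⟨b, hb⟩ g)
    exact hg (Invol.se_mem_of_conj hM hz hzM hzg)
  · exact Invol.even_of_invol_mem hbz (show f b ∈ M by rwa [hb])
  · have hle : (M.comap f ⊓ (M.comap f).map (MulAut.conj g).toMonoidHom).map f ≤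
        M ⊓ M.map (MulAut.conj (f g)).toMonoidHom := by
      rintro _ ⟨x, ⟨hx, y, hy, hyx⟩, rfl⟩
      refine ⟨hx, f y, hy, ?_⟩
      rw [← hyx]
      simp
    obtain ⟨r, hr⟩ := Subgroup.card_dvd_of_le hle
    rw [Subgroup.card_map_of_injective hf] at hr
    exact Nat.Odd.of_mul_left (hr ▸ hM.2.2 (f g) hg)

end Cfsg.Agent.JComp
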