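import Cfsg.Agent.Lib.JComp.ResidualFusion
import Cfsg.Agent.Lib.ZCGroup.Residual
import Cfsg.Agent.Lib.TwoGroups.CentFour
import Mathlib.GroupTheory.Transfer
import Mathlib.GroupTheory.SpecificGroups.Dihedral

/-!
The residual `O²(G)`: transfer removes the involution centralized by a parabolic, the traces of the parabolics are
maximal 2-local subgroups isomorphic to `S₄`, and the trace of a Sylow 2-subgroup is dihedral or semidihedral.
-/

set_option autoImplicit false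
set_option linter.style.haveILetI false
set_option linter.unusedSectionVars false
open scoped commutatorElement Pointwise

namespace Cfsg.Agent.JComp

open Cfsg.Agent

universe u v

variable {G : Type u} [Group G] [Finite G]

/-- The transfer of an involution all of whose conjugates in the subgroup have the same value. -/
theorem transfer_of_conjugates {H : Subgroup G} {A : Type v} [CommGroup A] (φ : H →* A)
    {x : G} (hu : x * x = 1) {a : A} (ha : a * a = 1)
    (h : ∀ g : G, ∀ hh : g⁻¹ * x * g ∈ H, φ ⟨_, hh⟩ = a) : φ.transfer x = a ^ H.index := by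
  classical
  letI := H.fintypeQuotientOfFiniteIndex
  rw [MonoidHom.transfer_eq_prod_quotient_orbitRel_zpowers_quot, H.index_eq_sum_minimalPeriod x,
    ← Finset.prod_pow_eq_pow_sum]
  refine Finset.prod_congr rfl fun q _ => ?_
  obtain ⟨j, hj | hj⟩ := Nat.even_or_odd' (Function.minimalPeriod (x • ·) q.out)
  · have e : x ^ Function.minimalPeriod (x • ·) q.out = 1 := by rw [hj, pow_mul, pow_two, hu, one_pow]
    have e2 : a ^ Function.minimalPeriod (x • ·) q.out = 1 := by rw [hj, pow_mul, pow_two, ha, one_pow]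
    rw [e2, ← map_one φ]
    exact congrArg φ (Subtype.ext (by simp [e]))
  · have e : x ^ Function.minimalPeriod (x • ·) q.out = x := by
      rw [hj, pow_succ, pow_mul, pow_two, hu, one_pow, one_mul]
    have e2 : a ^ Function.minimalPeriod (x • ·) q.out = a := by
      rw [hj, pow_succ, pow_mul, pow_two, ha, one_pow, one_mul]
    have hmem : q.out.out⁻¹ * x * q.out.out ∈ H := by
      have := QuotientGroup.out_conj_pow_minimalPeriod_mem H x q.out
      rwa [e] at this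
    rw [e2, ← h _ hmem]
    exact congrArg φ (Subtype.ext (by simp only [e]))

namespace Duo

variable {T M K K₂ : Subgroup G} {w : G} (E : Setting T M) (D : Duo T M K K₂ w)
include E D

/-- **Transfer**: the involution centralized by a parabolic is outside `O²(G)`. -/
theorem c_notMem_residual {c : G} (hc : c ∈ c0 T K) (hc1 : c ≠ 1) : c ∉ Cfsg.pResidual 2 G := by
  classical
  haveI : Fact (Nat.Prime 2) := ⟨Nat.prime_two⟩
  obtain ⟨S, hTS⟩ := E.two.exists_le_sylow
  set X := Cfsg.wOf K ⊔ Cfsg.wOf K₂ with hX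
  have hXS : X ≤ (S : Subgroup G) := (D.X_le E).trans hTS
  haveI : (X.subgroupOf (S : Subgroup G)).Normal :=
    (Subgroup.normal_subgroupOf_iff_le_normalizer hXS).2 (D.S_normalizes_X E S hTS hc hc1)
  obtain ⟨-, hc2, -⟩ := E.card_bound D.o1 D.o2 D.ne
  have hT16 : Nat.card T ≤ 16 := D.card_le E
  have hQc : Nat.card (↥(S : Subgroup G) ⧸ X.subgroupOf (S : Subgroup G)) ≤ 4 := by
    have h1 : Nat.card X * X.relIndex (S : Subgroup G) = Nat.card (S : Subgroup G) := card_mul_relIndex' hXS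
    rw [D.card_X E] at h1
    have h2 := D.card_S_le E S hTS hc hc1
    show X.relIndex (S : Subgroup G) ≤ 4
    omega
  have hQp : IsPGroup 2 (↥(S : Subgroup G) ⧸ X.subgroupOf (S : Subgroup G)) := S.isPGroup'.to_quotient _
  obtain ⟨k, hk⟩ := IsPGroup.iff_card.1 hQp
  have hk2 : k ≤ 2 := by
    by_contra hcon
    have : 2 ^ 3 ≤ 2 ^ k := Nat.pow_le_pow_right two_pos (by omega)
    omega
  have hcomm : ∀ a b : ↥(S : Subgroup G) ⧸ X.subgroupOf (S : Subgroup G), a * b = b * a := by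
    interval_cases k
    · haveI := (Nat.card_eq_one_iff_unique.1 (hk.trans (pow_zero 2))).1
      exact fun a b => Subsingleton.elim _ _
    · haveI := isCyclic_of_prime_card (p := 2) (hk.trans (pow_one 2))
      exact fun a b => (IsCyclic.commutative (α := ↥(S : Subgroup G) ⧸ X.subgroupOf (S : Subgroup G))).is_comm.comm a b
    · exact IsPGroup.commutative_of_card_eq_prime_sq hk
  letI : CommGroup (↥(S : Subgroup G) ⧸ X.subgroupOf (S : Subgroup G)) :=
    { (inferInstance : Group (↥(S : Subgroup G) ⧸ X.subgroupOf (S : Subgroup G))) with mul_comm := hcomm }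
  set φ := QuotientGroup.mk' (X.subgroupOf (S : Subgroup G)) with hφ
  have hcS : c ∈ (S : Subgroup G) := hTS (zJ_le T hc.1)
  have hcc : c * c = 1 := zJ_sq hc.1
  set a := φ ⟨c, hcS⟩ with ha
  have ha1 : a ≠ 1 := fun h => D.c_notMem_X E hc hc1 ((QuotientGroup.eq_one_iff (N := X.subgroupOf (S : Subgroup G)) ⟨c, hcS⟩).1 h : (⟨c, hcS⟩ : (S : Subgroup G)) ∈ X.subgroupOf (S : Subgroup G))
  have ha2 : a * a = 1 := by
    rw [ha, ← map_mul, show (⟨c, hcS⟩ : (S : Subgroup G)) * ⟨c, hcS⟩ = 1 from Subtype.ext hcc, map_one]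
  have hval : φ.transfer c = a ^ (S : Subgroup G).index := by
    refine transfer_of_conjugates φ hcc ha2 fun g hg => ?_
    obtain ⟨hT, hnX⟩ := D.conjugates E S hTS hc hc1 hg
    obtain ⟨e, he, z, hz, hez⟩ : ∃ e ∈ X, ∃ z ∈ c0 T K, g⁻¹ * c * g = e * z :=
      Amalgam.mem_sup_of_comm (fun b (hb : b ∈ c0 T K) => Subgroup.mem_centralizer_iff.2 fun s hs =>
        D.zJ_central E s (D.X_le E hs) b hb.1) ((D.le_sup_c0 E) hT)
    have hz1 : z ≠ 1 := fun h => hnX (by rw [hez, h, mul_one]; exact he)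
    obtain rfl : z = c := eq_of_card_two (by
      have : 1 < Nat.card (c0 T K) := Finite.one_lt_card_iff_nontrivial.2
        ((Subgroup.nontrivial_iff_exists_ne_one _).2 ⟨c, hc, hc1⟩)
      omega) hz hc hz1 hc1
    have he0 : φ ⟨e, hXS he⟩ = 1 :=
      (QuotientGroup.eq_one_iff (N := X.subgroupOf (S : Subgroup G)) ⟨e, hXS he⟩).2 he
    rw [show (⟨g⁻¹ * z * g, hg⟩ : (S : Subgroup G)) = ⟨e, hXS he⟩ * ⟨z, hcS⟩ from Subtype.ext hez, map_mul,
      he0, one_mul]
  have hindex : Odd (S : Subgroup G).index :=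
    Nat.not_even_iff_odd.1 fun h => S.not_dvd_index (even_iff_two_dvd.1 h)
  obtain ⟨j, hj⟩ := hindex
  rw [hj, pow_succ, pow_mul, pow_two, ha2, one_pow, one_mul] at hval
  have hker : Cfsg.pResidual 2 G ≤ φ.transfer.ker := by
    refine (Subgroup.closure_le _).2 fun y hy => MonoidHom.mem_ker.2 ?_
    have h1 : orderOf (φ.transfer y) ∣ orderOf y := orderOf_map_dvd _ _
    obtain ⟨m, hm⟩ := hQp (φ.transfer y)
    have h2 : orderOf (φ.transfer y) ∣ 2 ^ m := orderOf_dvd_of_pow_eq_one hm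
    exact orderOf_eq_one_iff.1 (Nat.eq_one_of_dvd_coprimes (Nat.Coprime.pow_right m hy) h1 h2)
  intro hcH
  exact ha1 (hval.symm.trans (MonoidHom.mem_ker.1 (hker hcH)))

theorem zJ_residual {z : G} (hz : z ∈ zJ T) (hzH : z ∈ Cfsg.pResidual 2 G) : z ∈ Cfsg.wOf K := by
  by_cases h1 : Nat.card (c0 T K) = 1
  · rcases D.zJ_small E h1 hz with rfl | rfl
    · exact one_mem _
    · exact D.m1.2
  obtain ⟨c, hc, hc1⟩ := (Subgroup.nontrivial_iff_exists_ne_one (c0 T K)).1
    (Finite.one_lt_card_iff_nontrivial.1 (by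
      have : 0 < Nat.card (c0 T K) := Nat.card_pos
      omega))
  rcases D.zJ_list E hc hc1 hz with rfl | rfl | rfl | rfl
  · exact one_mem _
  · exact D.m1.2
  · exact absurd hzH (D.c_notMem_residual E hc hc1)
  · exact absurd ((Subgroup.mul_mem_cancel_right _ (D.X_le_residual E (Subgroup.mem_sup_left D.m1.2))).1 hzH)
      (D.c_notMem_residual E hc hc1)

/-- `C_H(W) = W`. -/
theorem centralizer_residual :
    Subgroup.centralizer (Cfsg.wOf K : Set G) ⊓ Cfsg.pResidual 2 G = Cfsg.wOf K := by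
  refine le_antisymm ?_ (le_inf (fun x hx => Subgroup.mem_centralizer_iff.2 fun y hy =>
    Thompson.commute_of_isElementaryAbelian (D.side E).hW hy hx)
    (le_sup_left.trans (D.X_le_residual E)))
  rintro x ⟨hxC, hxH⟩
  have hx : x ∈ Cfsg.wOf K ⊔ zJ T := (D.Q_eq E).le ⟨(D.core_eq E).2 hxC, hxC⟩
  obtain ⟨e, he, z, hz, rfl⟩ : ∃ e ∈ Cfsg.wOf K, ∃ z ∈ zJ T, x = e * z :=
    Amalgam.mem_sup_of_comm (fun a ha => Subgroup.mem_centralizer_iff.2 fun s hs =>
      D.zJ_central E s (D.W_le E hs) a ha) hx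
  refine mul_mem he (D.zJ_residual E hz ?_)
  exact (Subgroup.mul_mem_cancel_left _ (D.X_le_residual E (Subgroup.mem_sup_left he))).1 hxH

theorem K_le : K ≤ (K ⊔ T) ⊓ Cfsg.pResidual 2 G := le_inf le_sup_left (component_le_residual D.o1.comp)

theorem X_le_trace : Cfsg.wOf K ⊔ Cfsg.wOf K₂ ≤ (K ⊔ T) ⊓ Cfsg.pResidual 2 G :=
  le_inf ((D.X_le E).trans le_sup_right) (D.X_le_residual E)

theorem c0_le_centralizer : c0 T K ≤ Subgroup.centralizer (K ⊔ T : Subgroup G) := fun c hc =>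
  Subgroup.mem_centralizer_iff.2 fun k hk => D.comm_c E hc hk

theorem sup_eq : K ⊔ T = (K ⊔ T) ⊓ Cfsg.pResidual 2 G ⊔ c0 T K := by
  refine le_antisymm (sup_le ((D.K_le E).trans le_sup_left) ?_)
    (sup_le inf_le_left ((inf_le_left.trans (zJ_le T)).trans le_sup_right))
  exact (D.le_sup_c0 E).trans (sup_le ((D.X_le_trace E).trans le_sup_left) le_sup_right)

/-- A subgroup of `K T` normalized by its trace on the residual is normalized by `K T`. -/
theorem sup_le_normalizer {P : Subgroup G} (hP : P ≤ K ⊔ T)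
    (h : (K ⊔ T) ⊓ Cfsg.pResidual 2 G ≤ Subgroup.normalizer (P : Set G)) :
    K ⊔ T ≤ Subgroup.normalizer (P : Set G) := by
  rw [D.sup_eq E]
  exact sup_le h (((D.c0_le_centralizer E).trans (Subgroup.centralizer_le (SetLike.coe_subset_coe.2 hP))).trans
    (Subgroup.centralizer_le_normalizer _))

theorem two_le_W {P : Subgroup G} (hP2 : IsPGroup 2 P) (hP : P ≤ (K ⊔ T) ⊓ Cfsg.pResidual 2 G)
    (h : (K ⊔ T) ⊓ Cfsg.pResidual 2 G ≤ Subgroup.normalizer (P : Set G)) : P ≤ Cfsg.wOf K := by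
  intro x hx
  have h1 : x ∈ Cfsg.pCoreOf 2 (K ⊔ T) :=
    CharP.le_opIn (hP.trans inf_le_left) (D.sup_le_normalizer E (hP.trans inf_le_left) h) hP2 hx
  rw [← D.overgroup_eq E, (D.core_eq E).1] at h1
  rw [← D.centralizer_residual E]
  exact ⟨h1.2, (hP hx).2⟩

/-- The trace of `K T` on the residual is `S₄`. -/
theorem trace_mulEquiv :
    Nonempty (↥((K ⊔ T) ⊓ Cfsg.pResidual 2 G) ≃* Equiv.Perm (Fin 4)) := by
  obtain ⟨-, hc2, -⟩ := E.card_bound D.o1 D.o2 D.ne
  have hpos : 0 < Nat.card (c0 T K) := Nat.card_pos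
  set L := (K ⊔ T) ⊓ Cfsg.pResidual 2 G with hL
  rcases (show Nat.card (c0 T K) = 1 ∨ Nat.card (c0 T K) = 2 by omega) with h | h
  · obtain ⟨e⟩ := (D.nonempty_mulEquiv E).1 h
    have hbot : c0 T K = ⊥ := Subgroup.card_eq_one.1 h
    have heq : L = K ⊔ T := by conv_rhs => rw [D.sup_eq E, hbot, sup_bot_eq]
    exact ⟨(MulEquiv.subgroupCongr heq).trans e⟩
  obtain ⟨e⟩ := (D.nonempty_mulEquiv E).2 h
  obtain ⟨c, hc, hc1⟩ := (Subgroup.nontrivial_iff_exists_ne_one _).1
    (Finite.one_lt_card_iff_nontrivial.1 (show 1 < Nat.card (c0 T K) by omega))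
  have hcL : c ∈ K ⊔ T := Subgroup.mem_sup_right (zJ_le T hc.1)
  set f : ↥L →* Equiv.Perm (Fin 4) :=
    (MonoidHom.fst _ _).comp (e.toMonoidHom.comp (Subgroup.inclusion inf_le_left)) with hf
  have hperm : ∀ σ : Equiv.Perm (Fin 4), (∀ τ, σ * τ = τ * σ) → σ = 1 := by decide +kernel
  have hec : (e ⟨c, hcL⟩).1 = 1 := by
    refine hperm _ fun τ => ?_
    have h1 : (⟨c, hcL⟩ : ↥(K ⊔ T)) * e.symm (τ, 1) = e.symm (τ, 1) * ⟨c, hcL⟩ :=
      Subtype.ext (D.comm_c E hc (e.symm (τ, 1)).2).symm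
    have h2 := congrArg (fun z => (e z).1) h1
    simpa using h2
  have hinj : Function.Injective f := (injective_iff_map_eq_one f).2 fun n hn => by
    have hn' : (e ⟨(n : G), n.2.1⟩).1 = 1 := hn
    have hz2 : ∀ a b : Multiplicative (ZMod 2), a ≠ 1 → b ≠ 1 → a = b := by decide
    by_contra hne
    have h1 : (e ⟨(n : G), n.2.1⟩).2 ≠ 1 := fun h' => by
      have e1 : (⟨(n : G), n.2.1⟩ : ↥(K ⊔ T)) = 1 := e.map_eq_one_iff.1 (Prod.ext hn' h')
      exact hne (Subtype.ext (congrArg (fun z : ↥(K ⊔ T) => (z : G)) e1))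
    have h2 : (e ⟨c, hcL⟩).2 ≠ 1 := fun h' =>
      hc1 (congrArg Subtype.val (e.map_eq_one_iff.1 (Prod.ext hec h') : (⟨c, hcL⟩ : ↥(K ⊔ T)) = 1))
    have h3 : (⟨(n : G), n.2.1⟩ : ↥(K ⊔ T)) = ⟨c, hcL⟩ :=
      e.injective (Prod.ext (hn'.trans hec.symm) (hz2 _ _ h1 h2))
    have h4 : (n : G) = c := congrArg (fun z : ↥(K ⊔ T) => (z : G)) h3
    exact D.c_notMem_residual E hc hc1 (h4 ▸ n.2.2)
  have hcard : Nat.card (Equiv.Perm (Fin 4)) ≤ Nat.card ↥L := by
    have h1 : Nat.card ↥(K ⊔ T) = Nat.card (Equiv.Perm (Fin 4)) * 2 := by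
      rw [Nat.card_congr e.toEquiv, Nat.card_prod]; simp
    have h2 : Nat.card ↥(K ⊔ T) ≤ Nat.card ↥L * Nat.card (c0 T K) := by
      conv_lhs => rw [D.sup_eq E]
      exact card_sup_le_of_normalizes (((D.c0_le_centralizer E).trans
        (Subgroup.centralizer_le (SetLike.coe_subset_coe.2 inf_le_left))).trans (Subgroup.centralizer_le_normalizer _))
    rw [h1, h] at h2
    exact Nat.le_of_mul_le_mul_right h2 two_pos
  exact ⟨MulEquiv.ofBijective f ((Nat.bijective_iff_injective_and_card _).2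
    ⟨hinj, le_antisymm (Nat.card_le_card_of_injective f hinj) hcard⟩)⟩

/-- **The trace of `K T` is a maximal 2-local subgroup of the residual.** -/
theorem trace_maximal :
    Cfsg.IsMaximalTwoLocal (((K ⊔ T) ⊓ Cfsg.pResidual 2 G).subgroupOf (Cfsg.pResidual 2 G)) := by
  haveI : Fact (Nat.Prime 2) := ⟨Nat.prime_two⟩
  set H := Cfsg.pResidual 2 G with hH
  set W := Cfsg.wOf K with hW
  set L := (K ⊔ T) ⊓ H with hL
  have hWH : W ≤ H := le_sup_left.trans (D.X_le_residual E)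
  have hWL : W ≤ L := le_sup_left.trans (D.X_le_trace E)
  have hW2 : IsPGroup 2 W := E.two.to_le (D.W_le E)
  have hnorm : L.subgroupOf H = Subgroup.normalizer (W.subgroupOf H : Set H) := by
    rw [← Subgroup.subgroupOf_normalizer_eq hWH, hL, ← D.overgroup_eq E, Subgroup.inf_subgroupOf_right]
  refine ⟨⟨W.subgroupOf H, hW2.comap_subtype, fun h => ?_, hnorm⟩, ?_⟩
  · rw [Subgroup.subgroupOf_eq_bot, disjoint_iff, inf_eq_left.2 hWH] at h
    exact wOf_ne_bot D.o1.comp h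
  rintro N ⟨U, hU, hU1, rfl⟩ hle
  set U' := U.map H.subtype with hU'
  have hU'2 : IsPGroup 2 U' := hU.map _
  have hU'H : U' ≤ H := Subgroup.map_subtype_le _
  have hLU : L ≤ Subgroup.normalizer (U' : Set G) := by
    intro l hl
    refine Subgroup.mem_normalizer_fintype ?_
    rintro _ ⟨v, hv, rfl⟩
    refine ⟨⟨l, hl.2⟩ * v * (⟨l, hl.2⟩ : H)⁻¹, (Subgroup.mem_normalizer_iff.1 (hle ?_) v).1 hv, rfl⟩
    exact hl
  set Y := U' ⊔ W with hY
  have hY2 : IsPGroup 2 Y := IsPGroup.to_sup_of_normal_left' hU'2 hW2 (hWL.trans hLU)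
  have hLW : L ≤ Subgroup.normalizer (W : Set G) := inf_le_left.trans (D.sup_le_normalizer_W E)
  have hLY : L ≤ Subgroup.normalizer (Y : Set G) := by
    intro l hl
    rw [Subgroup.mem_normalizer_iff_map_conj_eq, hY, Subgroup.map_sup,
      Subgroup.mem_normalizer_iff_map_conj_eq.1 (hLU hl), Subgroup.mem_normalizer_iff_map_conj_eq.1 (hLW hl)]
  have hYW : Y ⊓ Subgroup.normalizer (W : Set G) ≤ W := by
    refine D.two_le_W E (hY2.to_le inf_le_left) ?_ ?_
    · intro x hx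
      exact ⟨(D.overgroup_eq E).le hx.2, (sup_le hU'H hWH) hx.1⟩
    · intro l hl
      rw [Subgroup.mem_normalizer_iff_map_conj_eq, Subgroup.map_inf _ _ _ (MulAut.conj l).injective, Subgroup.mem_normalizer_iff_map_conj_eq.1 (hLY hl),
        Subgroup.mem_normalizer_iff_map_conj_eq.1 (Subgroup.le_normalizer (hLW hl))]
  have hUW : U' ≤ W := by
    by_contra hcon
    obtain ⟨g, hgY, hgN, hgW, -⟩ := exists_two_step hY2 (le_sup_right : W ≤ Y)
      fun h => hcon (le_sup_left.trans h)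
    exact hgW (hYW ⟨hgY, hgN⟩)
  have hsupU : K ⊔ T ≤ Subgroup.normalizer (U' : Set G) :=
    D.sup_le_normalizer E (hUW.trans (hWL.trans inf_le_left)) hLU
  have hUeq : U' = W := by
    obtain ⟨x, hx, hx1⟩ := (Subgroup.nontrivial_iff_exists_ne_one U').1 ((Subgroup.nontrivial_iff_ne_bot _).2
      fun h => hU1 ((Subgroup.map_eq_bot_iff_of_injective _ H.subtype_injective).1 h))
    obtain ⟨k, hk, rfl⟩ := (D.side E).exists_conj (hUW hx) hx1
    have hwU : w ∈ U' := (Subgroup.mem_normalizer_iff.1 (hsupU hk) w).2 hx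
    refine le_antisymm hUW fun v hv => ?_
    by_cases hv1 : v = 1
    · rw [hv1]; exact one_mem _
    obtain ⟨k', hk', rfl⟩ := (D.side E).exists_conj hv hv1
    exact (Subgroup.mem_normalizer_iff.1 (hsupU hk') w).1 hwU
  have hUsub : U = W.subgroupOf H := by
    rw [← hUeq, hU', Subgroup.subgroupOf, Subgroup.comap_map_eq_self_of_injective H.subtype_injective]
  rw [hnorm, hUsub]

theorem trace_ne : (K ⊔ T) ⊓ Cfsg.pResidual 2 G ≠ (K₂ ⊔ T) ⊓ Cfsg.pResidual 2 G := by
  intro h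
  have h1 : Cfsg.wOf K₂ ≤ Cfsg.wOf K := by
    refine D.two_le_W E (E.two.to_le (D.W₂_le E)) (le_sup_right.trans (D.X_le_trace E)) ?_
    rw [h]
    exact inf_le_left.trans (D.symm.sup_le_normalizer_W E)
  have h2 : Cfsg.wOf K₂ = Cfsg.wOf K :=
    Subgroup.eq_of_le_of_card_ge h1 (by rw [(D.side E).hW4, (D.side₂ E).hW4])
  refine D.ne (E.family_eq D.o1.comp D.o1.notLe (K' := K₂) ⟨D.o2.comp, ?_⟩).symm
  rw [← h2]
  exact le_sup_left.trans (D.symm.sup_le_normalizer_W E)

theorem card_trace_inf :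
    Nat.card ↥(((K ⊔ T) ⊓ Cfsg.pResidual 2 G) ⊓ ((K₂ ⊔ T) ⊓ Cfsg.pResidual 2 G)) = 8 := by
  set L := (K ⊔ T) ⊓ Cfsg.pResidual 2 G with hL
  set L₂ := (K₂ ⊔ T) ⊓ Cfsg.pResidual 2 G with hL₂
  have h24 : ∀ {P : Subgroup G}, Nonempty (↥P ≃* Equiv.Perm (Fin 4)) → Nat.card P = 24 := fun {P} ⟨e⟩ => by
    rw [Nat.card_congr e.toEquiv, Nat.card_perm, Nat.card_fin]; rfl
  have h8 : 8 ∣ Nat.card ↥(L ⊓ L₂) := D.card_X E ▸ Subgroup.card_dvd_of_le
    (le_inf (D.X_le_trace E) (sup_comm (Cfsg.wOf K₂) (Cfsg.wOf K) ▸ D.symm.X_le_trace E))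
  have hd : Nat.card ↥(L ⊓ L₂) ∣ 24 := h24 (D.trace_mulEquiv E) ▸ Subgroup.card_dvd_of_le inf_le_left
  have hne : Nat.card ↥(L ⊓ L₂) ≠ 24 := fun h => D.trace_ne E
    ((Subgroup.eq_of_le_of_card_ge (inf_le_left : L ⊓ L₂ ≤ L) (by rw [h, h24 (D.trace_mulEquiv E)])).symm.trans
      (Subgroup.eq_of_le_of_card_ge (inf_le_right : L ⊓ L₂ ≤ L₂) (by rw [h, h24 (D.symm.trace_mulEquiv E)])))
  have hle := Nat.le_of_dvd (by norm_num) hd
  obtain ⟨j, hj⟩ := h8
  rw [hj] at hd hne hle ⊢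
  have : 0 < 8 * j := hj ▸ Nat.card_pos
  have hj3 : j ≤ 3 := by omega
  interval_cases j <;> simp_all

/-- **The trace of a Sylow 2-subgroup is dihedral or semidihedral.** -/
theorem sylow_trace (S : Sylow 2 G) :
    (∃ n : ℕ, 2 ≤ n ∧ Nonempty (↥((S : Subgroup G) ⊓ Cfsg.pResidual 2 G) ≃* DihedralGroup n)) ∨
      Cfsg.IsQuasiDihedral ↥((S : Subgroup G) ⊓ Cfsg.pResidual 2 G) := by
  haveI : Fact (Nat.Prime 2) := ⟨Nat.prime_two⟩
  obtain ⟨P, hTP⟩ := E.two.exists_le_sylow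
  obtain ⟨g, hg⟩ := MulAction.exists_smul_eq G S P
  set R := (S : Subgroup G) ⊓ Cfsg.pResidual 2 G with hR
  set R' := (P : Subgroup G) ⊓ Cfsg.pResidual 2 G with hR'
  have hmap : R.map (MulAut.conj g).toMonoidHom = R' := by
    rw [hR, Subgroup.map_inf _ _ _ (MulAut.conj g).injective,
      ZCGroup.map_of_mem_normalizer (show g ∈ Subgroup.normalizer (Cfsg.pResidual 2 G : Set G) by
        rw [Subgroup.normalizer_eq_top]; exact Subgroup.mem_top g), hR', ← hg]
    rfl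
  have e : ↥R ≃* ↥R' :=
    (Subgroup.equivMapOfInjective R _ (MulAut.conj g).injective).trans (MulEquiv.subgroupCongr hmap)
  obtain ⟨x, hx, hxw, hx1⟩ : ∃ x ∈ Cfsg.wOf K, x ≠ w ∧ x ≠ 1 := by
    by_contra hcon
    push Not at hcon
    have hle : Cfsg.wOf K ≤ Subgroup.zpowers w := fun v hv => by
      by_cases hvw : v = w
      · exact hvw ▸ Subgroup.mem_zpowers w
      · rw [hcon v hv hvw]; exact one_mem _
    have := Subgroup.card_le_of_le hle
    rw [(D.side E).hW4, Nat.card_zpowers] at this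
    have h2 := Nat.le_of_dvd two_pos (orderOf_dvd_of_pow_eq_one (by rw [pow_two]; exact zJ_sq D.m1.1 : w ^ 2 = 1))
    omega
  have hWR : Cfsg.wOf K ≤ R' := le_inf ((D.W_le E).trans hTP) (le_sup_left.trans (D.X_le_residual E))
  have hxx : x * x = 1 := (D.side E).sq hx
  set x' : ↥R' := ⟨x, hWR hx⟩ with hx'
  have hcent : (Subgroup.centralizer ({x'} : Set ↥R')).map R'.subtype = Cfsg.wOf K := by
    ext y
    constructor
    · rintro ⟨r, hr, rfl⟩
      have hrx : (r : G) * x = x * r := congrArg Subtype.val (Subgroup.mem_centralizer_singleton_iff.1 hr)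
      have hrw : (r : G) * w = w * r := D.w_central E P hTP r.2.1
      refine (D.centralizer_residual E).le ⟨Subgroup.mem_centralizer_iff.2 fun v hv => ?_, r.2.2⟩
      rcases (D.side E).eq_of_mem hx hxw hx1 hv with rfl | rfl | rfl | rfl
      · simp
      · exact hrw.symm
      · exact hrx.symm
      · exact ((show Commute (r : G) w from hrw).mul_right (show Commute (r : G) x from hrx)).eq.symm
    · exact fun hy => ⟨⟨y, hWR hy⟩, Subgroup.mem_centralizer_singleton_iff.2 (Subtype.ext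
        (Thompson.commute_of_isElementaryAbelian (D.side E).hW hy hx)), rfl⟩
  have hC : Nat.card ↥(Subgroup.centralizer ({x'} : Set ↥R')) = 4 := by
    rw [← Subgroup.card_map_of_injective (f := R'.subtype) R'.subtype_injective, hcent, (D.side E).hW4]
  have hord : orderOf x' = 2 := by
    rw [hx', Subgroup.orderOf_mk]
    exact orderOf_eq_prime (by rw [pow_two]; exact hxx) hx1
  have h8 : 8 ≤ Nat.card ↥R' := (D.card_X E).ge.trans
    (Subgroup.card_le_of_le (le_inf ((D.X_le E).trans hTP) (D.X_le_residual E)))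
  rcases CentFour.dihedral_or_quasiDihedral (P.isPGroup'.to_le inf_le_left) hord hC with ⟨n, ⟨f⟩⟩ | h | h
  · refine Or.inl ⟨n, ?_, ⟨e.trans f⟩⟩
    rw [Nat.card_congr f.toEquiv, DihedralGroup.nat_card] at h8
    omega
  · refine Or.inr ?_
    obtain ⟨n, hn, hcard, a, b, ha, hb, hab⟩ := h
    exact ⟨n, hn, (Nat.card_congr e.toEquiv).trans hcard, e.symm a, e.symm b, by rw [MulEquiv.orderOf_eq, ha],
      by rw [MulEquiv.orderOf_eq, hb], by rw [← map_inv, ← map_mul, ← map_mul, hab, map_pow]⟩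
  · exact absurd (h8.trans (le_of_eq h)) (by norm_num)

end Duo

/-- **The dichotomy**: a strongly embedded subgroup, or two parabolics. -/
theorem se_or_duo (Z : ZN G) (hO : Cfsg.pCore 2 G = ⊥)
    (hSE : ∀ (S : Sylow 2 G) (M : Subgroup G), Cfsg.IsTwoLocal M →
      Subgroup.normalizer (Cfsg.thompsonSubgroupOf 2 (S : Subgroup G) : Set G) ≤ M →
      Cfsg.straddlingTwoSubgroups M = ∅ → ∃ K : Subgroup G, Cfsg.IsStronglyEmbedded K) :
    (∃ K : Subgroup G, Cfsg.IsStronglyEmbedded K) ∨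
      ∃ (T M K K₂ : Subgroup G) (w : G), Setting T M ∧ Duo T M K K₂ w := by
  classical
  haveI : Fact (Nat.Prime 2) := ⟨Nat.prime_two⟩
  obtain ⟨S⟩ : Nonempty (Sylow 2 G) := inferInstance
  set J := Cfsg.thompsonSubgroupOf 2 (S : Subgroup G) with hJ
  have hJ1 : J ≠ ⊥ :=
    Thompson.thompsonSubgroupOf_ne_bot (S.dvd_card_of_dvd_card (even_iff_two_dvd.1 Z.hL.1))
  have hM : Cfsg.IsTwoLocal (Subgroup.normalizer (J : Set G)) :=
    ⟨J, S.isPGroup'.to_le (Thompson.thompsonSubgroupOf_le 2 _), hJ1, rfl⟩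
  by_cases hst : Cfsg.straddlingTwoSubgroups (Subgroup.normalizer (J : Set G)) = ∅
  · exact Or.inl (hSE S _ hM le_rfl hst)
  obtain ⟨T, hT⟩ : (Cfsg.maxStraddlingTwoSubgroups (Subgroup.normalizer (J : Set G))).Nonempty := by
    obtain ⟨T₀, hT₀, hmax⟩ := Set.Finite.exists_maximalFor
      (fun T : Subgroup G => toLex (Cfsg.maxElemAbelianOrder T,
        toLex (Nat.card ↥(Cfsg.thompsonSubgroupOf 2 T), Nat.card ↥T)))
      (Cfsg.straddlingTwoSubgroups (Subgroup.normalizer (J : Set G))) (Set.toFinite _)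
      (Set.nonempty_iff_ne_empty.2 hst)
    refine ⟨T₀, hT₀, fun T hT => ?_⟩
    have h := fun hle => hmax hT hle
    simp only [Prod.Lex.toLex_le_toLex] at h
    refine ⟨?_, fun he => ⟨?_, fun he2 => ?_⟩⟩
    · by_contra hc; have := h (Or.inl (not_le.1 hc)); omega
    · by_contra hc; have := h (Or.inr ⟨he.symm, Or.inl (not_le.1 hc)⟩); omega
    · by_contra hc; have := h (Or.inr ⟨he.symm, Or.inr ⟨he2.symm, (not_le.1 hc).le⟩⟩); omega
  obtain ⟨K, hK⟩ := jComponentsOutside_nonempty Z S le_rfl hT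
  obtain ⟨M', K₂, w, E', D⟩ := exists_duo_of_outside Z hO S le_rfl hT hK
  exact Or.inr ⟨T, M', K, K₂, w, E', D⟩

end Cfsg.Agent.JComp
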