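import Cfsg.Agent.Lib.JComp.Companion

/-!
The structure of `T` and of the maximal overgroups attached to two components with a common
central involution.
-/

set_option autoImplicit false
set_option linter.style.haveILetI false
set_option linter.unusedSectionVars false
open scoped commutatorElement Pointwise

namespace Cfsg.Agent.JComp

open Cfsg.Agent

universe u

variable {G : Type u} [Group G] [Finite G]

theorem omega_central {T : Subgroup G} {x : G} (hx : x ∈ Cfsg.omegaCenterOf T) {t : G} (ht : t ∈ T) :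
    t * x = x * t :=
  mul_inv_eq_iff_eq_mul.1 (fix_omegaCenterOf ht hx)

theorem omega_le_zJ (T : Subgroup G) : Cfsg.omegaCenterOf T ≤ zJ T := fun x hx =>
  mem_zJ_of_central (omegaCenterOf_le T hx) (fun _ ht => omega_central hx ht)
    (by rw [← pow_two]; exact (omegaCenterOf_ea T).2 x hx)

theorem zJ_decomp {T K : Subgroup G} (hT : IsPGroup 2 T) (hK : Cfsg.IsJComponent T K) :
    c0 T K ⊔ (zJ T ⊓ Cfsg.wOf K) = zJ T := by
  refine le_antisymm (sup_le inf_le_left inf_le_left) ?_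
  conv_lhs => rw [zJ, ← (center_decomp hT hK).2]
  refine sup_le ?_ le_sup_right
  refine le_trans ?_ le_sup_left
  exact inf_le_inf_left _
    (inf_le_right.trans (Subgroup.centralizer_le (SetLike.coe_subset_coe.2 le_sup_left)))

/-- A finite group in which the elements of odd order are trivial is a 2-group. -/
theorem isPGroup_two_of_odd {H : Subgroup G} (h : ∀ q ∈ H, Odd (orderOf q) → q = 1) :
    IsPGroup 2 H := by
  refine IsPGroup.iff_orderOf.2 fun g => ?_
  rw [← Subgroup.orderOf_coe]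
  obtain ⟨k, m, hm, hgm⟩ :=
    Nat.exists_eq_pow_mul_and_not_dvd (orderOf_pos (g : G)).ne' 2 (by norm_num)
  refine ⟨k, ?_⟩
  have hg1 : (g : G) ^ (2 ^ k) = 1 := by
    refine h _ (pow_mem g.2 _) ?_
    rw [orderOf_pow' _ (by positivity), hgm, Nat.gcd_eq_right (dvd_mul_right _ _),
      Nat.mul_div_cancel_left _ (by positivity)]
    exact Nat.odd_iff.2 (by omega)
  exact Nat.dvd_antisymm (orderOf_dvd_of_pow_eq_one hg1) (hgm ▸ dvd_mul_right _ _)

namespace Duo

variable {T M K K₂ : Subgroup G} {w : G} (E : Setting T M) (D : Duo T M K K₂ w)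
include E D

theorem single : ∀ K' ∈ Setting.family T K, K' = K := fun _ h =>
  E.family_eq_singleton D.o1 D.o2 D.ne h

theorem le_normalizer : T ≤ Subgroup.normalizer (K : Set G) :=
  E.normalizes_of_single D.o1 (D.single E)

theorem w_comm : ∀ t ∈ T, t * w = w * t := fun _ ht => fix_w E.two D.o1.comp (D.le_normalizer E) D.m1 ht

theorem zJ_central : ∀ t ∈ T, ∀ x ∈ zJ T, t * x = x * t := by
  intro t ht x hx
  have hle : zJ T ≤ Subgroup.centralizer (T : Set G) := by
    conv_lhs => rw [← zJ_decomp E.two D.o1.comp]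
    refine sup_le ?_ ?_ <;> intro y hy <;> refine Subgroup.mem_centralizer_iff.2 fun s hs => ?_
    · exact fix_c0 (D.le_normalizer E) (E.card_bound D.o1 D.o2 D.ne).2.1 hy hs
    · exact fix_w E.two D.o1.comp (D.le_normalizer E) hy hs
  exact Subgroup.mem_centralizer_iff.1 (hle hx) t ht

theorem omega_eq : Cfsg.omegaCenterOf T = zJ T :=
  le_antisymm (omega_le_zJ T) fun x hx => OmegaOne.mem
    ⟨zJ_le T hx, Subgroup.mem_centralizer_iff.2 fun t ht => D.zJ_central E t ht x hx⟩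
    (by rw [pow_two]; exact zJ_sq hx)

theorem amal : Amalgam.Amal T (fun b => if b then K ⊔ T else K₂ ⊔ T)
    (fun b => if b then Cfsg.wOf K else Cfsg.wOf K₂) (fun b => if b then w else w) :=
  E.amal_of D.o1.comp D.o2.comp
    (fun h => D.ne (E.family_eq D.o1.comp D.o1.notLe h).symm) (Or.inl D.o1.notLe)
    (D.le_normalizer E) (D.symm.le_normalizer E)
    (E.core_le_T D.o1 (Setting.self_mem D.o1.comp)) (E.core_le_T D.o2 (Setting.self_mem D.o2.comp))
    D.m1.2 D.w1 (D.w_comm E) D.m2.2 D.w1 (D.w_comm E)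

theorem side : Amalgam.Side T (K ⊔ T) (Cfsg.wOf K) w := by simpa using (D.amal E).side true

theorem side₂ : Amalgam.Side T (K₂ ⊔ T) (Cfsg.wOf K₂) w := by simpa using (D.amal E).side false

theorem W_le : Cfsg.wOf K ≤ T := (D.side E).hWT

theorem W₂_le : Cfsg.wOf K₂ ≤ T := (D.side₂ E).hWT

theorem Q_eq : T ⊓ Subgroup.centralizer (Cfsg.wOf K : Set G) = Cfsg.wOf K ⊔ zJ T := by
  refine le_antisymm ?_ (sup_le (D.side E).W_le_Q (le_inf (zJ_le T) fun x hx => ?_))
  · have h := (Setting.shape_of_amal (D.amal E) rfl).1 true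
    simpa [Amalgam.Qb] using h
  · exact Subgroup.mem_centralizer_iff.2 fun t ht => D.zJ_central E t (D.W_le E ht) x hx

theorem gen : T ≤ Cfsg.wOf K ⊔ Cfsg.wOf K₂ ⊔ zJ T := by
  have h := (Setting.shape_of_amal (D.amal E) rfl).2.1
  simpa using h

theorem exists_v : ∃ v ∈ Cfsg.wOf K₂, v ∈ T ∧ v * v = 1 ∧
    v ∉ Subgroup.centralizer (Cfsg.wOf K : Set G) ∧ ∃ u ∈ Cfsg.wOf K, ⁅u, v⁆ = w := by
  have h := (Setting.shape_of_amal (D.amal E) rfl).2.2
  simp only [if_true, Bool.false_eq_true, if_false] at h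
  obtain ⟨u, hu, v, hv, huv⟩ := h
  refine ⟨v, hv, D.W₂_le E hv, (D.side₂ E).sq hv, fun hc => D.w1 ?_, u, hu, huv⟩
  rw [← huv, commutatorElement_eq_one_iff_mul_comm]
  exact Subgroup.mem_centralizer_iff.1 hc u hu

theorem Q_ea : Cfsg.IsElementaryAbelian 2 (Cfsg.wOf K ⊔ zJ T : Subgroup G) :=
  sup_ea (D.side E).hW (zJ_ea T) fun x hx => Subgroup.mem_centralizer_iff.2 fun z hz =>
    (D.zJ_central E x (D.W_le E hx) z hz).symm

theorem Q_relIndex : (T ⊓ Subgroup.centralizer (Cfsg.wOf K : Set G)).relIndex T = 2 := by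
  obtain ⟨v, -, hvT, -, hvC, -⟩ := D.exists_v E
  rw [Subgroup.relIndex_eq_two_iff_exists_notMem_and]
  refine ⟨v, hvT, fun h => hvC h.2, fun b hb => ?_⟩
  by_cases hbC : b ∈ Subgroup.centralizer (Cfsg.wOf K : Set G)
  · exact Or.inr ⟨hb, hbC⟩
  · exact Or.inl ((D.side E).mul_mem_Q hb hvT hbC hvC)

/-- `|T| = 8 |c₀|`. -/
theorem card_T : Nat.card T = 8 * Nat.card (c0 T K) := by
  have h1 := card_mul_relIndex' (inf_le_left : T ⊓ Subgroup.centralizer (Cfsg.wOf K : Set G) ≤ T)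
  rw [D.Q_relIndex E] at h1
  have h2 := card_sup_inf (D.Q_ea E) (le_sup_left : Cfsg.wOf K ≤ _) (le_sup_right : zJ T ≤ _)
  rw [inf_comm (Cfsg.wOf K), card_zJ_inf E.two D.o1.comp, (D.side E).hW4,
    card_zJ E.two D.o1.comp] at h2
  rw [← h1, D.Q_eq E]
  omega

theorem card_le : Nat.card T ≤ 16 := by
  have := D.card_T E
  have := (E.card_bound D.o1 D.o2 D.ne).2.1
  omega

/-- Squares in `T`. -/
theorem sq_cases {t : G} (ht : t ∈ T) : t * t = 1 ∨ t * t = w := by
  by_cases htC : t ∈ Subgroup.centralizer (Cfsg.wOf K : Set G)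
  · left
    rw [← pow_two]
    exact (D.Q_ea E).2 t ((D.Q_eq E).le ⟨ht, htC⟩)
  obtain ⟨v, hv, hvT, hv2, hvC, -⟩ := D.exists_v E
  have hq : v * t ∈ Cfsg.wOf K ⊔ zJ T := (D.Q_eq E).le ((D.side E).mul_mem_Q hvT ht hvC htC)
  set q := v * t with hqdef
  have ht' : t = v * q := by rw [hqdef, ← mul_assoc, hv2, one_mul]
  obtain ⟨e, he, z, hz, heq⟩ : ∃ e ∈ Cfsg.wOf K, ∃ z ∈ zJ T, q = e * z :=
    Amalgam.mem_sup_of_comm (fun x hx => Subgroup.mem_centralizer_iff.2 fun s hs =>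
      D.zJ_central E s (D.W_le E hs) x hx) hq
  have h : t * t = ⁅v, e⁆ := by
    rw [ht', heq, commutatorElement_def, inv_eq_of_mul_eq_one_right hv2,
      inv_eq_of_mul_eq_one_right ((D.side E).sq he)]
    calc v * (e * z) * (v * (e * z)) = v * e * (z * v) * e * z := by group
      _ = v * e * v * (z * e) * z := by rw [← D.zJ_central E v hvT z hz]; group
      _ = v * e * v * e * (z * z) := by rw [← D.zJ_central E e (D.W_le E he) z hz]; group
      _ = v * e * v * e := by rw [zJ_sq hz, mul_one]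
  rw [h]
  exact (D.side E).comm_cases hvT he

theorem exists_sq : ∃ t ∈ T, t * t = w := by
  obtain ⟨v, -, hvT, hv2, -, u, hu, huv⟩ := D.exists_v E
  refine ⟨u * v, Subgroup.mul_mem _ (D.W_le E hu) hvT, ?_⟩
  rw [← huv, commutatorElement_def, inv_eq_of_mul_eq_one_right hv2,
    inv_eq_of_mul_eq_one_right ((D.side E).sq hu)]
  group

theorem not_comm : ¬ ∀ a ∈ T, ∀ b ∈ T, a * b = b * a := by
  intro h
  obtain ⟨v, -, hvT, -, hvC, -⟩ := D.exists_v E
  exact hvC (Subgroup.mem_centralizer_iff.2 fun x hx => h x (D.W_le E hx) v hvT)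

/-- Every involution of `T` lies in one of the two elementary abelian subgroups. -/
theorem involution_cases {t : G} (ht : t ∈ T) (h2 : t * t = 1) :
    t ∈ Cfsg.wOf K ⊔ zJ T ∨ t ∈ Cfsg.wOf K₂ ⊔ zJ T := by
  by_cases htC : t ∈ Subgroup.centralizer (Cfsg.wOf K : Set G)
  · exact Or.inl ((D.Q_eq E).le ⟨ht, htC⟩)
  right
  obtain ⟨v, hv, hvT, hv2, hvC, -⟩ := D.exists_v E
  have hq : v * t ∈ Cfsg.wOf K ⊔ zJ T := (D.Q_eq E).le ((D.side E).mul_mem_Q hvT ht hvC htC)
  set q := v * t with hqdef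
  have ht' : t = v * q := by rw [hqdef, ← mul_assoc, hv2, one_mul]
  obtain ⟨e, he, z, hz, heq⟩ : ∃ e ∈ Cfsg.wOf K, ∃ z ∈ zJ T, q = e * z :=
    Amalgam.mem_sup_of_comm (fun x hx => Subgroup.mem_centralizer_iff.2 fun s hs =>
      D.zJ_central E s (D.W_le E hs) x hx) hq
  have hve : v * e = e * v := by
    have h1 : (v * e) * (v * e) = 1 := by
      have h3 : t * t = v * e * (v * e) * (z * z) := by
        rw [ht', heq]
        calc v * (e * z) * (v * (e * z)) = v * e * (z * v) * e * z := by group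
          _ = v * e * v * (z * e) * z := by rw [← D.zJ_central E v hvT z hz]; group
          _ = _ := by rw [← D.zJ_central E e (D.W_le E he) z hz]; group
      rw [h2, zJ_sq hz, mul_one] at h3
      exact h3.symm
    calc v * e = (v * e)⁻¹ := eq_inv_of_mul_eq_one_left h1
      _ = e * v := by
        rw [mul_inv_rev, inv_eq_of_mul_eq_one_right hv2,
          inv_eq_of_mul_eq_one_right ((D.side E).sq he)]
  have hew : e ∈ zJ T := by
    by_cases he1 : e = 1
    · rw [he1]; exact one_mem _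
    by_cases hew : e = w
    · rw [hew]; exact D.m1.1
    exact absurd ((D.side E).fixes_imp hvT he hew he1 hve) hvC
  rw [ht', heq]
  exact Subgroup.mul_mem _ (Subgroup.mem_sup_left hv)
    (Subgroup.mem_sup_right (Subgroup.mul_mem _ hew hz))

theorem normalizer_W_maximal :
    Cfsg.IsMaximalTwoLocal (Subgroup.normalizer (Cfsg.wOf K : Set G)) ∧
      Subgroup.normalizer (Cfsg.wOf K : Set G) = Subgroup.normalizer (K : Set G) ∧
      Subgroup.normalizer (Cfsg.wOf K : Set G) ∈ Cfsg.jOvergroups T ∧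
      ∀ L' : Subgroup G, Cfsg.IsMaximalTwoLocal L' → K ⊔ Cfsg.thompsonSubgroupOf 2 T ≤ L' →
        L' = Subgroup.normalizer (Cfsg.wOf K : Set G) := by
  have hEg : sSup (Setting.family T K) ⊔ Cfsg.thompsonSubgroupOf 2 T =
      K ⊔ Cfsg.thompsonSubgroupOf 2 T :=
    le_antisymm (sup_le_sup_right (sSup_le fun K' h => (D.single E K' h).le) _)
      (sup_le_sup_right (le_sSup (Setting.self_mem D.o1.comp)) _)
  have key : ∀ L' : Subgroup G, Cfsg.IsMaximalTwoLocal L' →
      K ⊔ Cfsg.thompsonSubgroupOf 2 T ≤ L' → L' ≤ Subgroup.normalizer (K : Set G) ∧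
        L' = Subgroup.normalizer (Cfsg.wOf K : Set G) := by
    intro L' hL' hKL'
    have h1 : L' ≤ Subgroup.normalizer (K : Set G) := by
      have := E.le_normalizer_family D.o1.comp D.o1.notLe hL'.1 hKL'
      rw [hEg] at this
      exact this.trans (normalizer_sup_le E.two D.o1.comp)
    exact ⟨h1, (hL'.2 _ (E.isTwoLocal_W D.o1.comp) (h1.trans (normalizer_le_wOf K))).symm⟩
  obtain ⟨L, V, C, Aa, P, X, hLmax, hLT, hKT, -, -⟩ := E.exists_L D.o1
  obtain ⟨h1, h2⟩ := key L hLmax ((sup_le_sup_left (Thompson.thompsonSubgroupOf_le 2 T) K).trans hKT)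
  refine ⟨h2 ▸ hLmax, le_antisymm (h2 ▸ h1) (normalizer_le_wOf K), h2 ▸ hLT, fun L' a b => (key L' a b).2⟩

theorem sup_le_normalizer_W : K ⊔ T ≤ Subgroup.normalizer (Cfsg.wOf K : Set G) := (D.side E).hWn

/-- `O₂(N(W_K)) = C_T(W_K) = C_{N(W_K)}(W_K)`. -/
theorem core_eq :
    Cfsg.pCoreOf 2 (Subgroup.normalizer (Cfsg.wOf K : Set G)) =
        T ⊓ Subgroup.centralizer (Cfsg.wOf K : Set G) ∧
      Subgroup.centralizer (Cfsg.wOf K : Set G) ≤ T := by
  haveI : Fact (Nat.Prime 2) := ⟨Nat.prime_two⟩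
  set W := Cfsg.wOf K with hWdef
  set L := Subgroup.normalizer (W : Set G) with hLdef
  have hLT := (D.normalizer_W_maximal E).2.2.1
  obtain ⟨V, C, Aa, P, X⟩ := exists_loc E.Z E.two E.ne_bot hLT
  have hKL : K ≤ L := Subgroup.le_normalizer.trans (normalizer_le_wOf K)
  obtain ⟨A, a, y, F⟩ := exists_frame (pre_of E.two D.o1.comp)
  have hWV : W ≤ V := (X.W_facts E.Z E.ne_bot D.o1.comp F hKL).2
  have hPQ : P ≤ T ⊓ Subgroup.centralizer (W : Set G) :=
    le_inf X.P_le_T fun q hq => Subgroup.mem_centralizer_iff.2 fun x hx =>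
      (mul_inv_eq_iff_eq_mul.1 (X.fix_V (X.hPC hq) (hWV hx))).symm
  have hWP : W ≤ P := hWV.trans X.hVP
  have hCL : Subgroup.centralizer (W : Set G) ≤ L := Subgroup.centralizer_le_normalizer _
  have hZW : zJ T ≤ Subgroup.centralizer (W : Set G) := fun x hx =>
    ((D.Q_eq E).ge (Subgroup.mem_sup_right hx)).2
  -- `P` has at most one nontrivial coset of `W`
  have hcoset : ∀ x ∈ P, ∀ x' ∈ P, x ∉ W → x' ∉ W → x * x' ∈ W := by
    have hdec : ∀ x ∈ P, ∃ e ∈ W, ∃ c ∈ c0 T K, x = e * c := by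
      intro x hx
      have h1 : x ∈ W ⊔ c0 T K := by
        have h := (D.Q_eq E).le (hPQ hx)
        rw [← zJ_decomp E.two D.o1.comp] at h
        refine (sup_le le_sup_left (sup_le le_sup_right ?_) : _ ≤ W ⊔ c0 T K) h
        exact inf_le_right.trans le_sup_left
      exact Amalgam.mem_sup_of_comm (inf_le_left.trans hZW) h1
    intro x hx x' hx' hxW hxW'
    obtain ⟨e, he, c, hc, rfl⟩ := hdec x hx
    obtain ⟨e', he', c', hc', rfl⟩ := hdec x' hx'
    have hc1 : c ≠ 1 := fun h => hxW (by rw [h, mul_one]; exact he)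
    have hc1' : c' ≠ 1 := fun h => hxW' (by rw [h, mul_one]; exact he')
    have h2 : Nat.card (c0 T K) = 2 := by
      have := (E.card_bound D.o1 D.o2 D.ne).2.1
      have : 1 < Nat.card (c0 T K) := Finite.one_lt_card_iff_nontrivial.2
        ((Subgroup.nontrivial_iff_exists_ne_one _).2 ⟨c, hc, hc1⟩)
      omega
    rw [eq_of_card_two h2 hc' hc hc1' hc1]
    have hce : c * e' = e' * c := (D.zJ_central E e' (D.W_le E he') c hc.1).symm
    rw [show e * c * (e' * c) = e * (c * e') * c by group, hce,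
      show e * (e' * c) * c = e * e' * (c * c) by group, zJ_sq hc.1, mul_one]
    exact mul_mem he he'
  have hodd : ∀ q ∈ Subgroup.centralizer (W : Set G), Odd (orderOf q) → q = 1 := by
    intro q hq ho
    refine eq_one_of_odd_two ho X.hP ?_
    rw [X.hPeq]
    refine hLT.2.2 (Subgroup.mem_centralizer_iff.2 fun x hx => ?_)
    rw [← X.hPeq] at hx
    by_cases hxW : x ∈ W
    · exact Subgroup.mem_centralizer_iff.1 hq x hxW
    have hxc : q * x * q⁻¹ ∈ P := (Subgroup.mem_normalizer_iff.1 (X.hPn (hCL hq)) x).1 hx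
    have hxc' : q * x * q⁻¹ ∉ W := fun h =>
      hxW ((Subgroup.mem_normalizer_iff.1 (hCL hq) x).2 h)
    have he : x * (q * x * q⁻¹) ∈ W := hcoset x hx _ hxc hxW hxc'
    have hx2 : x * x = 1 := by
      rw [← pow_two]; exact (D.Q_ea E).2 x ((D.Q_eq E).le (hPQ hx))
    refine (mul_inv_eq_iff_eq_mul.1 (Amalgam.fix_of_odd ho ((D.side E).sq he) ?_ ?_)).symm
    · rw [← Subgroup.mem_centralizer_iff.1 hq _ he, mul_inv_cancel_right]
    · rw [← mul_assoc, hx2, one_mul]
  have h2 : IsPGroup 2 (Subgroup.centralizer (W : Set G)) := isPGroup_two_of_odd hodd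
  have hn : L ≤ Subgroup.normalizer (Subgroup.centralizer (W : Set G) : Set G) := by
    intro g hg
    rw [Subgroup.mem_normalizer_iff_map_conj_eq]
    refine Subgroup.eq_of_le_of_card_ge ?_ (Subgroup.card_map_of_injective (MulAut.conj g).injective).ge
    rintro _ ⟨q, hq, rfl⟩
    refine Subgroup.mem_centralizer_iff.2 fun x hx => ?_
    have hx' := (Subgroup.mem_normalizer_iff.1 (inv_mem (s := L) hg) x).1 hx
    rw [inv_inv] at hx'
    have := Subgroup.mem_centralizer_iff.1 hq _ hx'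
    show x * (g * q * g⁻¹) = g * q * g⁻¹ * x
    calc x * (g * q * g⁻¹) = g * ((g⁻¹ * x * g) * q) * g⁻¹ := by group
      _ = g * q * g⁻¹ * x := by rw [this]; group
  have hCP : Subgroup.centralizer (W : Set G) ≤ P := by
    rw [X.hPeq]; exact CharP.le_opIn hCL hn h2
  rw [← X.hPeq]
  exact ⟨le_antisymm hPQ (inf_le_right.trans hCP), hCP.trans X.P_le_T⟩

/-- `N(W_K) = K T`. -/
theorem overgroup_eq : Subgroup.normalizer (Cfsg.wOf K : Set G) = K ⊔ T := by
  refine le_antisymm (fun l hl => ?_) (D.sup_le_normalizer_W E)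
  have S := D.side E
  have hx : l * w * l⁻¹ ∈ Cfsg.wOf K := (Subgroup.mem_normalizer_iff.1 hl w).1 S.hw
  obtain ⟨k, hk, hkw⟩ := S.exists_conj hx (fun h => D.w1 (conj_eq_one_iff.1 h))
  set q := k⁻¹ * l with hq
  have hqN : q ∈ Subgroup.normalizer (Cfsg.wOf K : Set G) :=
    mul_mem (inv_mem (S.hWn hk)) hl
  have hqw : q * w * q⁻¹ = w := by
    rw [hq, show k⁻¹ * l * w * (k⁻¹ * l)⁻¹ = k⁻¹ * (l * w * l⁻¹) * k by group, ← hkw]
    group
  have hcent : ∀ p : G, p ∈ Subgroup.normalizer (Cfsg.wOf K : Set G) → p * w * p⁻¹ = w →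
      ∀ u ∈ Cfsg.wOf K, u ≠ w → u ≠ 1 → p * u * p⁻¹ = u → p ∈ K ⊔ T := by
    intro p hp hpw u hu huw hu1 hpu
    refine Subgroup.mem_sup_right ((D.core_eq E).2 (Subgroup.mem_centralizer_iff.2 fun x hx => ?_))
    rcases S.eq_of_mem hu huw hu1 hx with rfl | rfl | rfl | rfl
    · simp
    · exact (mul_inv_eq_iff_eq_mul.1 hpw).symm
    · exact (mul_inv_eq_iff_eq_mul.1 hpu).symm
    · exact ((show Commute p w from mul_inv_eq_iff_eq_mul.1 hpw).mul_right
        (show Commute p u from mul_inv_eq_iff_eq_mul.1 hpu)).eq.symm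
  obtain ⟨u, hu, huw, hu1⟩ := S.exists_other
  have hqu : q * u * q⁻¹ ∈ Cfsg.wOf K := (Subgroup.mem_normalizer_iff.1 hqN u).1 hu
  have hqKT : q ∈ K ⊔ T := by
    rcases S.eq_of_mem hu huw hu1 hqu with h | h | h | h
    · exact absurd (conj_eq_one_iff.1 h) hu1
    · exact absurd (mul_left_cancel (mul_right_cancel (h.trans hqw.symm))) huw
    · exact hcent q hqN hqw u hu huw hu1 h
    obtain ⟨v, -, hvT, -, hvC, -⟩ := D.exists_v E
    have hvu : v * u * v⁻¹ = w * u := (S.conj_cases hvT hu huw hu1).resolve_left fun h' =>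
      hvC (S.fixes_imp hvT hu huw hu1 (mul_inv_eq_iff_eq_mul.1 h'))
    have hvw : v * w * v⁻¹ = w := mul_inv_eq_iff_eq_mul.2 (D.w_comm E v hvT)
    have hvq : v * q ∈ K ⊔ T := by
      refine hcent _ (mul_mem (S.hWn (S.hTP hvT)) hqN) ?_ u hu huw hu1 ?_
      · rw [show v * q * w * (v * q)⁻¹ = v * (q * w * q⁻¹) * v⁻¹ by group, hqw, hvw]
      · rw [show v * q * u * (v * q)⁻¹ = v * (q * u * q⁻¹) * v⁻¹ by group, h,
          show v * (w * u) * v⁻¹ = (v * w * v⁻¹) * (v * u * v⁻¹) by group, hvw, hvu, ← mul_assoc,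
          S.sq S.hw, one_mul]
    have := mul_mem (inv_mem (Subgroup.mem_sup_right hvT : v ∈ K ⊔ T)) hvq
    rwa [inv_mul_cancel_left] at this
  have := mul_mem hk hqKT
  rwa [hq, mul_inv_cancel_left] at this

/-- All the properties of `P = K T`. -/
theorem parabolic :
    Subgroup.centralizer (Cfsg.pCoreOf 2 (K ⊔ T) : Set G) ≤ Cfsg.pCoreOf 2 (K ⊔ T) ∧
      Cfsg.IsSylowTwoIn T (K ⊔ T) ∧ (Cfsg.pCoreOf 2 (K ⊔ T)).relIndex (K ⊔ T) = 6 ∧
      ¬ ⁅K ⊔ T, K ⊔ T⁆ ≤ Cfsg.pCoreOf 2 (K ⊔ T) ∧ ⁅Cfsg.omegaCenterOf T, K ⊔ T⁆ ≠ ⊥ ∧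
      Cfsg.IsMaximalTwoLocal (K ⊔ T) := by
  obtain ⟨hmax, -, hjo, -⟩ := D.normalizer_W_maximal E
  have hcore := (D.core_eq E).1
  rw [D.overgroup_eq E] at hmax hjo hcore
  obtain ⟨A, a, y, F⟩ := exists_frame (pre_of E.two D.o1.comp)
  refine ⟨hjo.2.2, hjo.1, ?_, fun h => ?_, fun h => ?_, hmax⟩
  · rw [hcore, ← Subgroup.relIndex_mul_relIndex _ T (K ⊔ T) inf_le_left le_sup_right,
      D.Q_relIndex E, (D.side E).hidx]
  · have hy : y ∈ Cfsg.pCoreOf 2 (K ⊔ T) := by
      refine h ?_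
      have hy' : y ∈ ⁅K, Cfsg.thompsonSubgroupOf 2 T⁆ := by rw [D.o1.comp.2.1]; exact F.hy
      exact Subgroup.commutator_mono le_sup_left
        ((Thompson.thompsonSubgroupOf_le 2 T).trans le_sup_right) hy'
    apply F.hyQ
    rw [eq_one_of_odd_two F.hyo (CharP.opIn_isPGroup _) hy]
    exact one_mem _
  · apply D.w1
    refine F.fpf D.m1.2 ?_
    have hwΩ : w ∈ Cfsg.omegaCenterOf T := (D.omega_eq E).ge D.m1.1
    have := Subgroup.commutator_mem_commutator hwΩ (Subgroup.mem_sup_left F.hy : y ∈ K ⊔ T)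
    rw [h, Subgroup.mem_bot, commutatorElement_eq_one_iff_mul_comm] at this
    exact this.symm

/-- No nontrivial 2-subgroup is normalized by both parabolics. -/
theorem core_join : Cfsg.pCoreOf 2 ((K ⊔ T) ⊔ (K₂ ⊔ T)) = ⊥ := by
  by_contra h
  set P := (K ⊔ T) ⊔ (K₂ ⊔ T) with hP
  have hn : P ≤ Subgroup.normalizer (Cfsg.pCoreOf 2 P : Set G) := CharP.le_normalizer_opIn P
  refine D.ne (E.family_eq D.o1.comp D.o1.notLe (E.mem_family_of_common D.o1.comp D.o1.notLe
    D.o2.comp (CharP.opIn_isPGroup P) h ?_ ?_ ?_)).symm <;> refine le_trans ?_ hn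
  · exact (Thompson.thompsonSubgroupOf_le 2 T).trans (le_sup_right.trans le_sup_left)
  · exact le_sup_left.trans le_sup_left
  · exact le_sup_left.trans le_sup_right

end Duo

end Cfsg.Agent.JComp
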