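import Cfsg.Agent.Lib.JComp.Main
import Cfsg.Agent.Lib.LocalEven.SylowAux

/-!
Maximal members of `𝒯(M)` and the members of `ℒ(T)` they give.
-/

set_option autoImplicit false
set_option linter.style.haveILetI false
set_option linter.unusedSectionVars false

namespace Cfsg.Agent.JComp

open Cfsg.Agent

universe u

variable {G : Type u} [Group G] [Finite G]

theorem maxElemAbelianOrder_eq {T A : Subgroup G} (hA : Thompson.IsMaxEAIn 2 T A) :
    Cfsg.maxElemAbelianOrder T = Nat.card A := by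
  have h : (fun B : Subgroup ↥T => Nat.card ↥B) '' Cfsg.maxElementaryAbelianSubgroups 2 ↥T =
      {Nat.card A} := by
    refine Set.eq_singleton_iff_unique_mem.2 ⟨⟨A.subgroupOf T, Thompson.mem_maxEA_iff.2 ?_, ?_⟩, ?_⟩
    · rwa [Subgroup.map_subgroupOf_eq_of_le hA.1]
    · exact Nat.card_congr (Subgroup.subgroupOfEquivOfLe hA.1).toEquiv
    · rintro _ ⟨B, hB, rfl⟩
      have hB' := Thompson.mem_maxEA_iff.1 hB
      show Nat.card ↥B = Nat.card ↥A
      rw [← Subgroup.card_map_of_injective (K := B) T.subtype_injective]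
      exact le_antisymm (hA.2.2 _ hB'.1 hB'.2.1) (hB'.2.2 A hA.1 hA.2.1)
  rw [Cfsg.maxElemAbelianOrder, h, csSup_singleton]

/-- A member of `𝒯(M)` containing `J(T)`, for maximal `T`, has the same Thompson subgroup. -/
theorem thompson_eq_of_straddling {M T T' : Subgroup G} (hT : T ∈ Cfsg.maxStraddlingTwoSubgroups M)
    (hT' : T' ∈ Cfsg.straddlingTwoSubgroups M) (hJ : Cfsg.thompsonSubgroupOf 2 T ≤ T') :
    Cfsg.thompsonSubgroupOf 2 T' = Cfsg.thompsonSubgroupOf 2 T ∧ Nat.card T' ≤ Nat.card T := by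
  obtain ⟨A, hA⟩ := Thompson.exists_isMaxEAIn 2 T
  obtain ⟨B, hB⟩ := Thompson.exists_isMaxEAIn 2 T'
  obtain ⟨h1, h2⟩ := hT.2 T' hT'
  rw [maxElemAbelianOrder_eq hA, maxElemAbelianOrder_eq hB] at h1 h2
  have hle : Cfsg.thompsonSubgroupOf 2 T ≤ Cfsg.thompsonSubgroupOf 2 T' := by
    rw [Thompson.thompsonSubgroupOf_eq 2 T]
    refine sSup_le fun C hC => Thompson.le_thompsonSubgroupOf
      ⟨(Thompson.le_thompsonSubgroupOf hC).trans hJ, hC.2.1, fun D hD hDe => ?_⟩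
    exact (hB.2.2 D hD hDe).trans (h1.trans (hC.2.2 A hA.1 hA.2.1))
  have hab : Nat.card B = Nat.card A :=
    le_antisymm h1 (hB.2.2 A ((Thompson.le_thompsonSubgroupOf hA).trans hJ) hA.2.1)
  obtain ⟨h3, h4⟩ := h2 hab
  have heq := Subgroup.eq_of_le_of_card_ge hle h3
  exact ⟨heq.symm, h4 (by rw [heq])⟩

/-- `N(J(T)) ≤ M` for `T ∈ 𝒯*(M)`. -/
theorem normalizer_thompson_le (S : Sylow 2 G) {M : Subgroup G}
    (hMJ : Subgroup.normalizer (Cfsg.thompsonSubgroupOf 2 (S : Subgroup G) : Set G) ≤ M)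
    {T : Subgroup G} (hT : T ∈ Cfsg.maxStraddlingTwoSubgroups M) :
    Subgroup.normalizer (Cfsg.thompsonSubgroupOf 2 T : Set G) ≤ M := by
  haveI : Fact (Nat.Prime 2) := ⟨Nat.prime_two⟩
  obtain ⟨hT2, hT1, hTM, -⟩ := hT.1
  set J := Cfsg.thompsonSubgroupOf 2 T with hJ
  have hJT : J ≤ T := Thompson.thompsonSubgroupOf_le 2 T
  have hJ1 : J ≠ ⊥ := by
    refine Thompson.thompsonSubgroupOf_ne_bot ?_
    obtain ⟨k, hk⟩ := IsPGroup.iff_card.1 hT2
    have hk0 : k ≠ 0 := fun h => hT1 (Subgroup.card_eq_one.1 (by rw [hk, h, pow_zero]))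
    rw [hk]
    exact dvd_pow_self 2 hk0
  have hJ2 : IsPGroup 2 J := hT2.to_le hJT
  by_contra hcon
  have hS_M : (S : Subgroup G) ≤ M := (Subgroup.le_normalizer.trans
    (Thompson.normalizer_le_normalizer_thompsonSubgroupOf 2 (S : Subgroup G))).trans hMJ
  obtain ⟨U, hU, hTU⟩ := exists_sylowTwoIn hTM hT2
  have hUN : U ⊓ Subgroup.normalizer (T : Set G) ≤ T := by
    set T2 := U ⊓ Subgroup.normalizer (T : Set G) with hT2def
    have hTT2 : T ≤ T2 := le_inf hTU Subgroup.le_normalizer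
    have hmem : T2 ∈ Cfsg.straddlingTwoSubgroups M :=
      ⟨hU.2.1.to_le inf_le_left, fun h => hT1 (le_bot_iff.1 (h ▸ hTT2)), inf_le_left.trans hU.1,
        Subgroup.normalizer (J : Set G), ⟨J, hJ2, hJ1, rfl⟩,
        inf_le_right.trans (Thompson.normalizer_le_normalizer_thompsonSubgroupOf 2 T), hcon⟩
    exact (Subgroup.eq_of_le_of_card_ge hTT2
      (thompson_eq_of_straddling hT hmem (hJT.trans hTT2)).2).ge
  have hTU' : T = U := LESylow.eq_of_normalizer_inf_le hU.2.1 hTU hUN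
  obtain ⟨g, hg, hle⟩ := exists_conj_le hU hS_M S.isPGroup'
  obtain ⟨R, hR⟩ := hU.2.1.exists_le_sylow
  have hcard : Nat.card U ≤ Nat.card ((S : Subgroup G).map (MulAut.conj g).toMonoidHom) := by
    rw [Subgroup.card_map_of_injective (MulAut.conj g).injective]
    refine (Subgroup.card_le_of_le hR).trans ?_
    rw [R.card_eq_multiplicity, S.card_eq_multiplicity]
  have hTS : T = (S : Subgroup G).map (MulAut.conj g).toMonoidHom :=
    hTU'.trans (Subgroup.eq_of_le_of_card_ge hle hcard).symm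
  apply hcon
  intro x hx
  have hJS : J = (Cfsg.thompsonSubgroupOf 2 (S : Subgroup G)).map (MulAut.conj g).toMonoidHom := by
    rw [hJ, hTS, Thompson.thompsonSubgroupOf_map_of_injective _ _ (MulAut.conj g).injective]
  have h1 : g⁻¹ * x * g ∈ M := by
    apply hMJ
    rw [Subgroup.mem_normalizer_iff]
    intro z
    have hiff : ∀ w : G, g * w * g⁻¹ ∈ J ↔ w ∈ Cfsg.thompsonSubgroupOf 2 (S : Subgroup G) := by
      intro w
      rw [hJS]
      exact Subgroup.mem_map_iff_mem (MulAut.conj g).injective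
    rw [← hiff z, ← hiff (g⁻¹ * x * g * z * (g⁻¹ * x * g)⁻¹)]
    rw [show g * (g⁻¹ * x * g * z * (g⁻¹ * x * g)⁻¹) * g⁻¹ = x * (g * z * g⁻¹) * x⁻¹ by group]
    exact Subgroup.mem_normalizer_iff.1 hx _
  have := mul_mem (mul_mem hg h1) (inv_mem hg)
  simpa [mul_assoc] using this

theorem straddling_main (Z : ZN G) (S : Sylow 2 G) {M : Subgroup G}
    (hMJ : Subgroup.normalizer (Cfsg.thompsonSubgroupOf 2 (S : Subgroup G) : Set G) ≤ M)
    {T : Subgroup G} (hT : T ∈ Cfsg.maxStraddlingTwoSubgroups M) {L : Subgroup G}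
    (hL2 : Cfsg.IsTwoLocal L) (hLM : ¬ L ≤ M) {T₀ : Subgroup G} (hT₀ : Cfsg.IsSylowTwoIn T₀ L)
    (hJT₀ : Cfsg.thompsonSubgroupOf 2 T ≤ T₀) :
    Cfsg.thompsonSubgroupOf 2 T = Cfsg.thompsonSubgroupOf 2 T₀ ∧
      T₀ ∈ Cfsg.straddlingTwoSubgroups M ∧ L ∈ Cfsg.jOvergroups T₀ ∧
      (T ≤ L → L ∈ Cfsg.jOvergroups T ∧ ∃ K : Subgroup G, Cfsg.IsJComponent T K ∧ K ≤ L) := by
  haveI : Fact (Nat.Prime 2) := ⟨Nat.prime_two⟩
  obtain ⟨hT2, hT1, hTM, -⟩ := hT.1
  set J := Cfsg.thompsonSubgroupOf 2 T with hJ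
  have hJT : J ≤ T := Thompson.thompsonSubgroupOf_le 2 T
  have hJ1 : J ≠ ⊥ := by
    refine Thompson.thompsonSubgroupOf_ne_bot ?_
    obtain ⟨k, hk⟩ := IsPGroup.iff_card.1 hT2
    have hk0 : k ≠ 0 := fun h => hT1 (Subgroup.card_eq_one.1 (by rw [hk, h, pow_zero]))
    rw [hk]
    exact dvd_pow_self 2 hk0
  have hJ2 : IsPGroup 2 J := hT2.to_le hJT
  have hTNJ : T ≤ Subgroup.normalizer (J : Set G) :=
    Subgroup.le_normalizer.trans (Thompson.normalizer_le_normalizer_thompsonSubgroupOf 2 T)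
  have hNJ : Subgroup.normalizer (J : Set G) ≤ M := normalizer_thompson_le S hMJ hT
  set T3 := T₀ ⊓ Subgroup.normalizer (J : Set G) with hT3
  have hJT3 : J ≤ T3 := le_inf hJT₀ Subgroup.le_normalizer
  have hT3mem : T3 ∈ Cfsg.straddlingTwoSubgroups M :=
    ⟨hT₀.2.1.to_le inf_le_left, fun h => hJ1 (le_bot_iff.1 (h ▸ hJT3)), inf_le_right.trans hNJ,
      L, hL2, inf_le_left.trans hT₀.1, hLM⟩
  have hJ3 := (thompson_eq_of_straddling hT hT3mem hJT3).1
  have hT30 : T3 = T₀ := by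
    refine LESylow.eq_of_normalizer_inf_le hT₀.2.1 inf_le_left (le_inf inf_le_left ?_)
    refine inf_le_right.trans ?_
    have h := Thompson.normalizer_le_normalizer_thompsonSubgroupOf 2 T3
    rwa [hJ3] at h
  rw [hT30] at hJ3 hT3mem
  have hjo : ∀ U : Subgroup G, Cfsg.IsSylowTwoIn U L → J ≤ U → Cfsg.thompsonSubgroupOf 2 U = J →
      L ∈ Cfsg.jOvergroups U := by
    intro U hU hJU hJeq
    obtain ⟨W, hW2, hW1, rfl⟩ := hL2
    refine ⟨hU, ?_, centralizer_pCoreOf_normalizer Z hW2 hW1⟩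
    rw [hJeq]
    intro hle
    apply hLM
    refine le_trans ?_ hNJ
    have hO : Cfsg.pCoreOf 2 (Subgroup.normalizer (W : Set G)) ≤ U := by
      obtain ⟨g, hg, h⟩ := exists_conj_le hU (CharP.opIn_le _) (CharP.opIn_isPGroup (p := 2) _)
      exact (Subgroup.mem_normalizer_iff_map_conj_eq.1
        (CharP.le_normalizer_opIn (p := 2) _ hg)).ge.trans h
    have h1 : Cfsg.thompsonSubgroupOf 2 (Cfsg.pCoreOf 2 (Subgroup.normalizer (W : Set G))) = J := by
      rw [← hJeq]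
      exact Thompson.thompsonSubgroupOf_eq_of_le (hJeq ▸ hle) hO
    have h2 := (CharP.le_normalizer_opIn (p := 2) (Subgroup.normalizer (W : Set G))).trans
      (Thompson.normalizer_le_normalizer_thompsonSubgroupOf 2
        (CharP.opIn 2 (Subgroup.normalizer (W : Set G))))
    rw [show Cfsg.thompsonSubgroupOf 2 (CharP.opIn 2 (Subgroup.normalizer (W : Set G))) = J from h1] at h2
    exact h2
  refine ⟨hJ3.symm, hT3mem, hjo T₀ hT₀ hJT₀ hJ3, fun hTL => ?_⟩
  obtain ⟨U, hU, hTU⟩ := exists_sylowTwoIn hTL hT2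
  have hcard : Nat.card U ≤ Nat.card T := by
    obtain ⟨g, -, hg⟩ := exists_conj_le hT₀ hU.1 hU.2.1
    rw [← Subgroup.card_map_of_injective (K := U) (f := (MulAut.conj g).toMonoidHom)
      (MulAut.conj g).injective]
    exact (Subgroup.card_le_of_le hg).trans (thompson_eq_of_straddling hT hT3mem hJT₀).2
  have hTeq : T = U := Subgroup.eq_of_le_of_card_ge hTU hcard
  rw [← hTeq] at hU
  have hLT := hjo T hU hJT rfl
  obtain ⟨V, C, Aa, P, X⟩ := exists_loc Z hT2 hT1 hLT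
  exact ⟨hLT, X.exists_component (by rw [X.hPeq]; exact hLT.2.1)⟩

end Cfsg.Agent.JComp
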