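import Cfsg.Agent.Lib.JComp.Shape

/-!
`T` a Sylow 2-subgroup: replacing `M` by `N(J(T))`, and the consequences of all components lying in
one family.
-/

set_option autoImplicit false
set_option linter.style.haveILetI false
set_option linter.unusedSectionVars false
open scoped commutatorElement Pointwise

namespace Cfsg.Agent.JComp

open Cfsg.Agent

universe u

variable {G : Type u} [Group G] [Finite G]

theorem invariants_le {X T : Subgroup G} {g : G} (hle : X.map (MulAut.conj g).toMonoidHom ≤ T) :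
    Cfsg.maxElemAbelianOrder X ≤ Cfsg.maxElemAbelianOrder T ∧
      (Cfsg.maxElemAbelianOrder X = Cfsg.maxElemAbelianOrder T →
        Nat.card (Cfsg.thompsonSubgroupOf 2 X) ≤ Nat.card (Cfsg.thompsonSubgroupOf 2 T)) ∧
      Nat.card X ≤ Nat.card T := by
  set f := (MulAut.conj g).toMonoidHom with hf
  have hinj : Function.Injective f := (MulAut.conj g).injective
  have hcard : ∀ H : Subgroup G, Nat.card (H.map f) = Nat.card H := fun H =>
    Subgroup.card_map_of_injective (K := H) (f := f) hinj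
  obtain ⟨A, hA⟩ := Thompson.exists_isMaxEAIn 2 X
  obtain ⟨B, hB⟩ := Thompson.exists_isMaxEAIn 2 T
  rw [maxElemAbelianOrder_eq hA, maxElemAbelianOrder_eq hB]
  have hAB : Nat.card A ≤ Nat.card B := by
    rw [← hcard A]
    exact hB.2.2 _ ((Subgroup.map_mono hA.1).trans hle) (Thompson.isElementaryAbelian_map f hA.2.1)
  refine ⟨hAB, fun heq => ?_, (hcard X).ge.trans (Subgroup.card_le_of_le hle)⟩
  rw [← hcard (Cfsg.thompsonSubgroupOf 2 X)]
  refine Subgroup.card_le_of_le (Subgroup.map_le_iff_le_comap.2 ?_)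
  rw [Thompson.thompsonSubgroupOf_eq 2 X]
  refine sSup_le fun C hC => Subgroup.map_le_iff_le_comap.1 (Thompson.le_thompsonSubgroupOf
    ⟨(Subgroup.map_mono hC.1).trans hle, Thompson.isElementaryAbelian_map f hC.2.1, fun D hD hDe => ?_⟩)
  rw [hcard C]
  exact (hB.2.2 D hD hDe).trans (heq.ge.trans (hC.2.2 A hA.1 hA.2.1))

theorem straddling_map {L X : Subgroup G} (hX : X ∈ Cfsg.straddlingTwoSubgroups L) {l : G}
    (hl : l ∈ L) : X.map (MulAut.conj l).toMonoidHom ∈ Cfsg.straddlingTwoSubgroups L := by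
  obtain ⟨h2, h1, hXL, N, ⟨W, hW, hW1, rfl⟩, hXN, hNL⟩ := hX
  have hLl := map_eq_self (Subgroup.le_normalizer hl : l ∈ Subgroup.normalizer (L : Set G))
  refine ⟨h2.map _, map_ne_bot l h1, (Subgroup.map_mono hXL).trans hLl.le,
    Subgroup.normalizer ((W.map (MulAut.conj l).toMonoidHom : Subgroup G) : Set G),
    ⟨_, hW.map _, map_ne_bot l hW1, rfl⟩, (Subgroup.map_mono hXN).trans (Subgroup.le_normalizer_map _),
    fun h => hNL ?_⟩
  intro x hx
  have h1 : l * x * l⁻¹ ∈ L := h (Subgroup.le_normalizer_map _ ⟨x, hx, rfl⟩)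
  have := mul_mem (mul_mem (inv_mem hl) h1) hl
  rwa [show l⁻¹ * (l * x * l⁻¹) * l = x by group] at this

/-- A maximal member of `𝒯(L)` inside a given Sylow 2-subgroup of `L`. -/
theorem exists_maxStraddling {L T : Subgroup G} (hT : Cfsg.IsSylowTwoIn T L)
    (hne : (Cfsg.straddlingTwoSubgroups L).Nonempty) :
    ∃ T', T' ≤ T ∧ T' ∈ Cfsg.maxStraddlingTwoSubgroups L := by
  have key : ∀ X ∈ Cfsg.straddlingTwoSubgroups L, ∃ l : G,
      X.map (MulAut.conj l).toMonoidHom ≤ T ∧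
        X.map (MulAut.conj l).toMonoidHom ∈ Cfsg.straddlingTwoSubgroups L := by
    intro X hX
    obtain ⟨l, hl, hle⟩ := exists_conj_le hT hX.2.2.1 hX.1
    exact ⟨l, hle, straddling_map hX hl⟩
  set S0 := {X | X ∈ Cfsg.straddlingTwoSubgroups L ∧ X ≤ T}
  obtain ⟨X0, hX0⟩ := hne
  obtain ⟨l0, hle0, hm0⟩ := key X0 hX0
  obtain ⟨X1, hX1, hmax1⟩ := Set.exists_max_image S0 Cfsg.maxElemAbelianOrder (Set.toFinite _)
    ⟨_, hm0, hle0⟩
  set S1 := {X | X ∈ S0 ∧ Cfsg.maxElemAbelianOrder X = Cfsg.maxElemAbelianOrder X1}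
  obtain ⟨X2, hX2, hmax2⟩ := Set.exists_max_image S1
    (fun X => Nat.card (Cfsg.thompsonSubgroupOf 2 X)) (Set.toFinite _) ⟨X1, hX1, rfl⟩
  set S2 := {X | X ∈ S1 ∧ Nat.card (Cfsg.thompsonSubgroupOf 2 X) =
    Nat.card (Cfsg.thompsonSubgroupOf 2 X2)}
  obtain ⟨X3, hX3, hmax3⟩ := Set.exists_max_image S2 (fun X => Nat.card X) (Set.toFinite _)
    ⟨X2, hX2, rfl⟩
  refine ⟨X3, hX3.1.1.2, hX3.1.1.1, fun X hX => ?_⟩
  obtain ⟨l, hle, hm⟩ := key X hX
  obtain ⟨i1, i2, i3⟩ := invariants_le (le_refl (X.map (MulAut.conj l).toMonoidHom))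
  have hY : X.map (MulAut.conj l).toMonoidHom ∈ S0 := ⟨hm, hle⟩
  have ha := hmax1 _ hY
  refine ⟨i1.trans (ha.trans hX3.1.2.ge), fun heq => ?_⟩
  have hYa : Cfsg.maxElemAbelianOrder (X.map (MulAut.conj l).toMonoidHom) =
      Cfsg.maxElemAbelianOrder X1 :=
    le_antisymm ha (hX3.1.2.ge.trans (heq.ge.trans i1))
  have hXY : Cfsg.maxElemAbelianOrder X =
      Cfsg.maxElemAbelianOrder (X.map (MulAut.conj l).toMonoidHom) :=
    heq.trans (hX3.1.2.trans hYa.symm)
  have hY1 : X.map (MulAut.conj l).toMonoidHom ∈ S1 := ⟨hY, hYa⟩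
  have hb := hmax2 _ hY1
  refine ⟨(i2 hXY).trans (hb.trans hX3.2.ge), fun heq' => ?_⟩
  have hYb : Nat.card (Cfsg.thompsonSubgroupOf 2 (X.map (MulAut.conj l).toMonoidHom)) =
      Nat.card (Cfsg.thompsonSubgroupOf 2 X2) :=
    le_antisymm hb (hX3.2.ge.trans (heq'.ge.trans (i2 hXY)))
  exact i3.trans (hmax3 _ ⟨hY1, hYb⟩)

theorem centralizer_eq_normalizer_zpowers {x : G} (hx : x * x = 1) (hx1 : x ≠ 1) :
    Subgroup.centralizer ({x} : Set G) =
      Subgroup.normalizer ((Subgroup.zpowers x : Subgroup G) : Set G) := by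
  refine le_antisymm ?_ fun g hg => ?_
  · refine le_trans ?_ (Subgroup.centralizer_le_normalizer _)
    rw [Subgroup.zpowers_eq_closure, Subgroup.centralizer_closure]
  · refine Subgroup.mem_centralizer_singleton_iff.2 (mul_inv_eq_iff_eq_mul.1 ?_)
    refine eq_of_card_two ?_ ((Subgroup.mem_normalizer_iff.1 hg x).1 (Subgroup.mem_zpowers x))
      (Subgroup.mem_zpowers x) (fun h => hx1 (conj_eq_one_iff.1 h)) hx1
    rw [Nat.card_zpowers, orderOf_eq_prime (by rw [pow_two]; exact hx) hx1]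

theorem centralizer_isTwoLocal {x : G} (hx : x * x = 1) (hx1 : x ≠ 1) :
    Cfsg.IsTwoLocal (Subgroup.centralizer ({x} : Set G)) := by
  refine ⟨Subgroup.zpowers x, ?_, Subgroup.zpowers_ne_bot.2 hx1,
    centralizer_eq_normalizer_zpowers hx hx1⟩
  refine IsPGroup.of_card (n := 1) ?_
  rw [Nat.card_zpowers, orderOf_eq_prime (by rw [pow_two]; exact hx) hx1, pow_one]

theorem exists_central_involution {T : Subgroup G} (hT : IsPGroup 2 T) (h1 : T ≠ ⊥) :
    ∃ z ∈ T, z ≠ 1 ∧ z * z = 1 ∧ ∀ t ∈ T, t * z = z * t := by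
  have h := inf_centralizer_ne_bot hT hT Subgroup.le_normalizer h1
  obtain ⟨x, hx, hx1⟩ := (Subgroup.nontrivial_iff_exists_ne_one _).1
    ((Subgroup.nontrivial_iff_ne_bot _).2 h)
  obtain ⟨k, hk⟩ := IsPGroup.iff_orderOf.1 hT ⟨x, hx.1⟩
  rw [Subgroup.orderOf_mk] at hk
  rcases k with _ | k
  · rw [pow_zero, orderOf_eq_one_iff] at hk
    exact absurd hk hx1
  have hmem := pow_mem hx (2 ^ k)
  refine ⟨x ^ 2 ^ k, hmem.1, fun h' => ?_, ?_, Subgroup.mem_centralizer_iff.1 hmem.2⟩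
  · have h2 := orderOf_dvd_of_pow_eq_one h'
    rw [hk, Nat.pow_dvd_pow_iff_le_right (by norm_num)] at h2
    omega
  · rw [← pow_add, ← two_mul, ← pow_succ', ← hk, pow_orderOf_eq_one]

/-- A Sylow 2-subgroup of `G` is one of every subgroup containing it. -/
theorem sylowTwoIn_of_sylow {T X : Subgroup G} (P : Sylow 2 G) (hP : (P : Subgroup G) = T)
    (hTX : T ≤ X) : Cfsg.IsSylowTwoIn T X := by
  subst hP
  obtain ⟨U, hU, hle⟩ := exists_sylowTwoIn hTX P.isPGroup'
  rwa [P.is_maximal' hU.2.1 hle] at hU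

namespace Setting

variable {T M : Subgroup G} (E : Setting T M)
include E

theorem J_isTwoLocal : Cfsg.IsTwoLocal
    (Subgroup.normalizer (Cfsg.thompsonSubgroupOf 2 T : Set G)) := by
  haveI : Fact (Nat.Prime 2) := ⟨Nat.prime_two⟩
  refine ⟨_, E.two.to_le (Thompson.thompsonSubgroupOf_le 2 T), ?_, rfl⟩
  refine Thompson.thompsonSubgroupOf_ne_bot ?_
  obtain ⟨k, hk⟩ := IsPGroup.iff_card.1 E.two
  have hk0 : k ≠ 0 := fun h => E.ne_bot (Subgroup.card_eq_one.1 (by rw [hk, h, pow_zero]))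
  rw [hk]
  exact dvd_pow_self 2 hk0

/-- When `T` is a Sylow 2-subgroup of `G`, `M` may be replaced by `N(J(T))`. -/
theorem to_normalizer (P : Sylow 2 G) (hP : (P : Subgroup G) = T) :
    Setting T (Subgroup.normalizer (Cfsg.thompsonSubgroupOf 2 T : Set G)) := by
  refine ⟨E.Z, ⟨⟨E.two, E.ne_bot, ?_, ?_⟩, fun X hX => ?_⟩, P, ?_⟩
  · exact Subgroup.le_normalizer.trans (Thompson.normalizer_le_normalizer_thompsonSubgroupOf 2 T)
  · obtain ⟨L, hL, hTL, hLM⟩ := E.hT.1.2.2.2
    exact ⟨L, hL, hTL, fun h => hLM (h.trans E.normalizer_J_le)⟩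
  · obtain ⟨g, -, hle⟩ := exists_conj_le (sylowTwoIn_of_sylow P hP
      (Subgroup.le_normalizer.trans (Thompson.normalizer_le_normalizer_thompsonSubgroupOf 2 T)))
      hX.2.2.1 hX.1
    obtain ⟨i1, i2, i3⟩ := invariants_le hle
    exact ⟨i1, fun h => ⟨i2 h, fun _ => i3⟩⟩
  · rw [hP]

end Setting

section Lonely

variable {T K L : Subgroup G}
  (E : Setting T (Subgroup.normalizer (Cfsg.thompsonSubgroupOf 2 T : Set G)))
  (P : Sylow 2 G) (hP : (P : Subgroup G) = T)
  (hK : Outer T (Subgroup.normalizer (Cfsg.thompsonSubgroupOf 2 T : Set G)) K)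
  (hall : ∀ K', Outer T (Subgroup.normalizer (Cfsg.thompsonSubgroupOf 2 T : Set G)) K' →
    Setting.family T K' = Setting.family T K)
  (hLmax : Cfsg.IsMaximalTwoLocal L) (hKL : K ⊔ Cfsg.thompsonSubgroupOf 2 T ≤ L)
include E P hP hK hall hLmax hKL

theorem local_le_L {N : Subgroup G} (hN : Cfsg.IsTwoLocal N) {K' : Subgroup G}
    (hK' : Cfsg.IsJComponent T K') (hfam : Setting.family T K' = Setting.family T K)
    (hKN : K' ⊔ Cfsg.thompsonSubgroupOf 2 T ≤ N) : N ≤ L := by
  rw [E.maximal_eq hK.comp hK.notLe hLmax hKL, ← hfam]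
  exact (E.le_normalizer_family hK' (isJComponent_not_le_normalizer E.two hK') hN hKN).trans
    (CharP.normalizer_le_normalizer_opIn _)

theorem normalizer_T_le : Subgroup.normalizer (T : Set G) ≤ L := by
  intro g hg
  have hK' := E.outer_conj hK hg
  refine E.mem_of_family_conj hK.comp hK.notLe hLmax hKL
    (Thompson.normalizer_le_normalizer_thompsonSubgroupOf 2 T hg) ?_
  rw [← hall _ hK']
  exact Setting.self_mem hK'.comp

theorem centralizer_omega_le :
    Subgroup.centralizer (Cfsg.omegaCenterOf T : Set G) ≤ L := by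
  have h := E.Z.hZ P
  rw [hP] at h
  exact h.trans (normalizer_T_le E P hP hK hall hLmax hKL)

/-- **All components in one family forces `N(J(T)) ≤ L`.** -/
theorem normalizer_J_le_of_lonely :
    Subgroup.normalizer (Cfsg.thompsonSubgroupOf 2 T : Set G) ≤ L := by
  intro g hgJ
  by_contra hgL
  set K₁ := K.map (MulAut.conj g).toMonoidHom with hK₁def
  have hK₁ : Cfsg.IsJComponent T K₁ := isJComponent_map_of_mem hgJ hK.comp
  have hK₁f : K₁ ∉ Setting.family T K := fun h =>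
    hgL (E.mem_of_family_conj hK.comp hK.notLe hLmax hKL hgJ h)
  have h0 : c0 T K ⊓ c0 T K₁ = ⊥ := by
    rw [eq_bot_iff]
    intro x hx
    rw [Subgroup.mem_bot]
    by_contra hx1
    exact hK₁f (E.mem_family_of_c0 hK.comp hK.notLe hK₁ hx.1 hx.2 hx1)
  have h1 := card_inf_le (zJ_ea T) (inf_le_left : c0 T K ≤ zJ T) (inf_le_left : c0 T K₁ ≤ zJ T) h0
  have h2 := card_zJ E.two hK.comp
  have h3 := card_zJ E.two hK₁
  have heq : Nat.card (c0 T K) = Nat.card (c0 T K₁) := by omega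
  rw [← c0, ← c0, ← heq, h2] at h1
  have hc2 : Nat.card (c0 T K) ≤ 2 :=
    Nat.le_of_mul_le_mul_left (by rw [mul_comm _ 2]; exact h1) Nat.card_pos
  have hzn : ∀ h ∈ Subgroup.normalizer (Cfsg.thompsonSubgroupOf 2 T : Set G), ∀ x ∈ zJ T,
      h * x * h⁻¹ ∈ zJ T := fun h hh x hx =>
    (Subgroup.mem_normalizer_iff.1 (normalizer_le_omegaCenterOf _ hh) x).1 hx
  obtain ⟨z, hzT, hz1, hz2, hzc⟩ := exists_central_involution E.two E.ne_bot
  have hzΩ : z ∈ Cfsg.omegaCenterOf T :=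
    OmegaOne.mem ⟨hzT, Subgroup.mem_centralizer_iff.2 hzc⟩ (by rw [pow_two]; exact hz2)
  have hzz : z ∈ zJ T := omega_le_zJ T hzΩ
  have hΩ_le : (∀ x ∈ Cfsg.omegaCenterOf T, x = 1 ∨ x = z) →
      ∀ h : G, h * z * h⁻¹ = z → h ∈ Subgroup.centralizer (Cfsg.omegaCenterOf T : Set G) := by
    intro hΩ h hh
    refine Subgroup.mem_centralizer_iff.2 fun x hx => ?_
    rcases hΩ x hx with rfl | rfl
    · simp
    · exact (mul_inv_eq_iff_eq_mul.1 hh).symm
  by_cases hc : Nat.card (c0 T K) = 1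
  · rw [hc] at h2
    have hΩ : ∀ x ∈ Cfsg.omegaCenterOf T, x = 1 ∨ x = z := fun x hx => by
      by_cases hx1 : x = 1
      · exact Or.inl hx1
      · exact Or.inr (eq_of_card_two (by omega) (omega_le_zJ T hx) hzz hx1 hz1)
    exact hgL (centralizer_omega_le E P hP hK hall hLmax hKL (hΩ_le hΩ g
      (eq_of_card_two (C := zJ T) (by omega) (hzn g hgJ z hzz) hzz
        (fun h => hz1 (conj_eq_one_iff.1 h)) hz1)))
  have hcpos : 0 < Nat.card (c0 T K) := Nat.card_pos
  have hc' : Nat.card (c0 T K) = 2 := by omega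
  have hz4 : Nat.card (zJ T) = 4 := by omega
  obtain ⟨c, hcm, hc1⟩ := (Subgroup.nontrivial_iff_exists_ne_one _).1
    (Finite.one_lt_card_iff_nontrivial.1 (show 1 < Nat.card (c0 T K) by omega))
  -- a conjugate of `c` is not central in `T`
  set c' := g * c * g⁻¹ with hc'def
  have hc'z : c' ∈ zJ T := hzn g hgJ c hcm.1
  have hc'1 : c' ≠ 1 := fun h => hc1 (conj_eq_one_iff.1 h)
  have hc'nc : ¬ ∀ t ∈ T, t * c' = c' * t := by
    intro h
    have hC : K₁ ⊔ T ≤ Subgroup.centralizer ({c'} : Set G) := by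
      refine sup_le ?_ fun t ht => Subgroup.mem_centralizer_singleton_iff.2 (h t ht)
      rintro _ ⟨k, hk, rfl⟩
      refine Subgroup.mem_centralizer_singleton_iff.2 ?_
      show g * k * g⁻¹ * c' = c' * (g * k * g⁻¹)
      rw [hc'def]
      calc g * k * g⁻¹ * (g * c * g⁻¹) = g * (k * c) * g⁻¹ := by group
        _ = _ := by rw [Subgroup.mem_centralizer_iff.1 hcm.2 k hk]; group
    have hO : Outer T (Subgroup.normalizer (Cfsg.thompsonSubgroupOf 2 T : Set G)) K₁ := by
      refine ⟨hK₁, isJComponent_not_le_normalizer E.two hK₁, fun hb => hc'1 ?_⟩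
      have hc'T : c' ∈ T := zJ_le T hc'z
      have h4 : Subgroup.zpowers c' ≤ Cfsg.pCoreOf 2 (K₁ ⊔ T) :=
        CharP.le_opIn (Subgroup.zpowers_le.2 (Subgroup.mem_sup_right hc'T))
          (hC.trans (centralizer_eq_normalizer_zpowers (zJ_sq hc'z) hc'1).le)
          (E.two.to_le (Subgroup.zpowers_le.2 hc'T))
      rw [hb] at h4
      exact Subgroup.mem_bot.1 (h4 (Subgroup.mem_zpowers c'))
    exact hK₁f (hall _ hO ▸ Setting.self_mem hK₁)
  have hΩ : ∀ x ∈ Cfsg.omegaCenterOf T, x = 1 ∨ x = z := by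
    intro x hx
    by_contra hcon
    push Not at hcon
    apply hc'nc
    intro t ht
    rcases four_list (zJ_ea T) hz4 hzz (omega_le_zJ T hx) hc'z hz1 hcon.1 (Ne.symm hcon.2) with
      e | e | e | e
    · exact absurd e hc'1
    · rw [e]; exact omega_central hzΩ ht
    · rw [e]; exact omega_central hx ht
    · rw [e]; exact omega_central (mul_mem hzΩ hx) ht
  -- no conjugate of `c` under `N(J)` is `z`
  have hne : ∀ h ∈ Subgroup.normalizer (Cfsg.thompsonSubgroupOf 2 T : Set G), h * c * h⁻¹ ≠ z := by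
    intro h hh e
    have hK' := isJComponent_map_of_mem hh hK.comp
    apply isJComponent_not_le_normalizer E.two hK'
    have h4 := E.Z.hZ P
    rw [hP] at h4
    refine le_trans ?_ (Thompson.normalizer_le_normalizer_thompsonSubgroupOf 2 T)
    rintro _ ⟨k, hk, rfl⟩
    refine h4 (hΩ_le hΩ _ (mul_inv_eq_iff_eq_mul.2 ?_))
    show h * k * h⁻¹ * z = z * (h * k * h⁻¹)
    rw [← e]
    calc h * k * h⁻¹ * (h * c * h⁻¹) = h * (k * c) * h⁻¹ := by group
      _ = _ := by rw [Subgroup.mem_centralizer_iff.1 hcm.2 k hk]; group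
  have hcz : c ≠ z := fun e => hne 1 (one_mem _) (by rw [e]; group)
  obtain ⟨t, ht, htc⟩ : ∃ t ∈ T, t * c * t⁻¹ = z * c := by
    by_contra hcon
    push Not at hcon
    have hcΩ : c ∈ Cfsg.omegaCenterOf T := by
      refine OmegaOne.mem ⟨zJ_le T hcm.1, Subgroup.mem_centralizer_iff.2 fun t ht => ?_⟩
        (by rw [pow_two]; exact zJ_sq hcm.1)
      have htN := (Subgroup.le_normalizer.trans
        (Thompson.normalizer_le_normalizer_thompsonSubgroupOf 2 T)) ht
      rcases four_list (zJ_ea T) hz4 hzz hcm.1 (hzn t htN c hcm.1) hz1 hc1 (Ne.symm hcz) with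
        e | e | e | e
      · exact absurd (conj_eq_one_iff.1 e) hc1
      · exact absurd e (hne t htN)
      · exact mul_inv_eq_iff_eq_mul.1 e
      · exact absurd e (hcon t ht)
    rcases hΩ c hcΩ with h | h
    · exact hc1 h
    · exact hcz h
  have htN : t ∈ Subgroup.normalizer (Cfsg.thompsonSubgroupOf 2 T : Set G) :=
    (Subgroup.le_normalizer.trans (Thompson.normalizer_le_normalizer_thompsonSubgroupOf 2 T)) ht
  rcases four_list (zJ_ea T) hz4 hzz hcm.1 (hzn g hgJ z hzz) hz1 hc1 (Ne.symm hcz) with e | e | e | e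
  · exact hz1 (conj_eq_one_iff.1 e)
  · exact hgL (centralizer_omega_le E P hP hK hall hLmax hKL (hΩ_le hΩ g e))
  · exact hne g⁻¹ (inv_mem hgJ) (by rw [← e]; group)
  · refine hne (g⁻¹ * t) (mul_mem (inv_mem hgJ) htN) ?_
    rw [show g⁻¹ * t * c * (g⁻¹ * t)⁻¹ = g⁻¹ * (t * c * t⁻¹) * g by group, htc, ← e]
    group

/-- Every 2-local containing `T` lies in `L`. -/
theorem two_local_le {N : Subgroup G} (hN : Cfsg.IsTwoLocal N) (hTN : T ≤ N) : N ≤ L := by
  by_cases hNM : N ≤ Subgroup.normalizer (Cfsg.thompsonSubgroupOf 2 T : Set G)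
  · exact hNM.trans (normalizer_J_le_of_lonely E P hP hK hall hLmax hKL)
  obtain ⟨S, hS⟩ := E.hSylow
  have hTs := sylowTwoIn_of_sylow P hP hTN
  obtain ⟨-, K', hK', hK'N⟩ := (straddling_main E.Z S hS E.hT hN hNM hTs
    (Thompson.thompsonSubgroupOf_le 2 T)).2.2.2 hTN
  obtain ⟨W, hW, hW1, rfl⟩ := hN
  set N := Subgroup.normalizer (W : Set G) with hNdef
  have hWN : W ≤ N := Subgroup.le_normalizer
  have hWT : W ≤ T := by
    obtain ⟨n, hn, hle⟩ := exists_conj_le hTs hWN hW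
    rwa [map_eq_self hn] at hle
  have hO : Outer T (Subgroup.normalizer (Cfsg.thompsonSubgroupOf 2 T : Set G)) K' := by
    refine ⟨hK', isJComponent_not_le_normalizer E.two hK', fun hb => hW1 ?_⟩
    rw [← le_bot_iff, ← hb]
    exact CharP.le_opIn (hWT.trans le_sup_right) (sup_le hK'N hTN) hW
  exact local_le_L E P hP hK hall hLmax hKL ⟨W, hW, hW1, rfl⟩ hK' (hall _ hO)
    (sup_le hK'N ((Thompson.thompsonSubgroupOf_le 2 T).trans hTN))

/-- `L` is straddled, as `O₂(G) = 1`. -/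
theorem exists_straddler (hG : Cfsg.pCore 2 G = ⊥) (hLT : L ∈ Cfsg.jOvergroups T) :
    (Cfsg.straddlingTwoSubgroups L).Nonempty := by
  haveI : Fact (Nat.Prime 2) := ⟨Nat.prime_two⟩
  by_contra hempty
  rw [Set.not_nonempty_iff_eq_empty] at hempty
  have hTL : T ≤ L := hLT.1.1
  set R := Cfsg.pCoreOf 2 L with hR
  have hRT : R ≤ T := by
    obtain ⟨n, hn, hle⟩ := exists_conj_le hLT.1 (CharP.opIn_le L) (CharP.opIn_isPGroup L)
    rwa [map_eq_self (CharP.le_normalizer_opIn (p := 2) L hn)] at hle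
  have hR1 : R ≠ ⊥ := by
    intro h
    have hc := hLT.2.2
    rw [← hR, h, le_bot_iff] at hc
    apply E.ne_bot
    rw [← le_bot_iff, ← hc]
    intro x _
    refine Subgroup.mem_centralizer_iff.2 fun y hy => ?_
    rw [SetLike.mem_coe, Subgroup.mem_bot] at hy
    rw [hy, one_mul, mul_one]
  -- centralizers of involutions of `L` lie in `L`
  have hcent : ∀ i ∈ L, i * i = 1 → i ≠ 1 → Subgroup.centralizer ({i} : Set G) ≤ L := by
    intro i hi hi2 hi1
    by_contra h
    have hmem : Subgroup.zpowers i ∈ Cfsg.straddlingTwoSubgroups L := by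
      refine ⟨?_, Subgroup.zpowers_ne_bot.2 hi1, Subgroup.zpowers_le.2 hi, _,
        centralizer_isTwoLocal hi2 hi1,
        Subgroup.zpowers_le.2 (Subgroup.mem_centralizer_singleton_iff.2 rfl), h⟩
      refine IsPGroup.of_card (n := 1) ?_
      rw [Nat.card_zpowers, orderOf_eq_prime (by rw [pow_two]; exact hi2) hi1, pow_one]
    rw [hempty] at hmem
    exact hmem
  obtain ⟨z, hzT, hz1, hz2, hzc⟩ := exists_central_involution E.two E.ne_bot
  -- an involution outside `L`
  obtain ⟨j, hjL, hj2⟩ : ∃ j, j ∉ L ∧ j * j = 1 := by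
    by_contra hcon
    push Not at hcon
    set N := Subgroup.closure {x : G | x * x = 1} with hN
    have hNL : N ≤ L := (Subgroup.closure_le _).2 fun x hx => by
      by_contra hxL
      exact hcon x hxL hx
    have hNn : ∀ g : G, g ∈ Subgroup.normalizer (N : Set G) := fun g => by
      refine Subgroup.mem_normalizer_iff_map_conj_eq.2 (Subgroup.eq_of_le_of_card_ge ?_
        (Subgroup.card_map_of_injective (MulAut.conj g).injective).ge)
      rw [hN, MonoidHom.map_closure]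
      refine Subgroup.closure_mono ?_
      rintro _ ⟨x, hx, rfl⟩
      have hx' : x * x = 1 := hx
      show g * x * g⁻¹ * (g * x * g⁻¹) = 1
      calc g * x * g⁻¹ * (g * x * g⁻¹) = g * (x * x) * g⁻¹ := by group
        _ = 1 := by rw [hx']; group
    have hRN : R ⊓ N ≠ ⊥ := by
      obtain ⟨r, hr, hr1, hr2, -⟩ := exists_central_involution (E.two.to_le hRT) hR1
      intro h
      apply hr1
      rw [← Subgroup.mem_bot, ← h]
      exact ⟨hr, Subgroup.subset_closure hr2⟩
    have h1 : R ⊓ N ≤ Cfsg.pCoreOf 2 N := by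
      refine CharP.le_opIn inf_le_right ?_ (E.two.to_le (inf_le_left.trans hRT))
      intro g hg
      refine Amalgam.mem_normalizer_of_cj (Subgroup.eq_of_le_of_card_ge ?_
        (Subgroup.card_map_of_injective (MulAut.conj g).injective).ge)
      rintro _ ⟨x, hx, rfl⟩
      exact ⟨(Subgroup.mem_normalizer_iff.1 (CharP.le_normalizer_opIn (p := 2) L (hNL hg)) x).1 hx.1,
        (Subgroup.mem_normalizer_iff.1 (hNn g) x).1 hx.2⟩
    apply hRN
    rw [← le_bot_iff]
    refine h1.trans ?_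
    have hn : (Cfsg.pCoreOf 2 N).Normal := by
      rw [← Subgroup.normalizer_eq_top_iff, eq_top_iff]
      exact fun g _ => CharP.normalizer_le_normalizer_opIn _ (hNn g)
    rw [← hG]
    exact PBasic.le_pCore hn (CharP.opIn_isPGroup N)
  have hj1 : j ≠ 1 := fun h => hjL (h ▸ one_mem L)
  -- an involution of `L` is conjugate to `j`
  have hconj : ∀ i ∈ L, i * i = 1 → i ≠ 1 → ∃ g : G, g * i * g⁻¹ = j := by
    intro i hi hi2 hi1
    have hinv : i⁻¹ = i := inv_eq_of_mul_eq_one_right hi2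
    have hjinv : j⁻¹ = j := inv_eq_of_mul_eq_one_right hj2
    set r := i * j with hr
    have hri : i * r * i⁻¹ = r⁻¹ := by
      rw [hr, mul_inv_rev, hinv, hjinv, ← mul_assoc, hi2, one_mul]
    have hrpow : ∀ n : ℕ, i * r ^ n * i⁻¹ = (r ^ n)⁻¹ := fun n => by
      rw [← conj_pow, hri, inv_pow]
    rcases Nat.even_or_odd (orderOf r) with ⟨m, hm⟩ | ⟨m, hm⟩
    · exfalso
      have hm0 : 0 < m := by
        have := orderOf_pos r
        omega
      set k := r ^ m with hk
      have hk2 : k * k = 1 := by rw [hk, ← pow_add, ← hm, pow_orderOf_eq_one]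
      have hk1 : k ≠ 1 := fun h => by
        have := Nat.le_of_dvd hm0 (orderOf_dvd_of_pow_eq_one h)
        omega
      have hki : i * k = k * i := by
        have := hrpow m
        rw [← hk, inv_eq_of_mul_eq_one_right hk2] at this
        exact mul_inv_eq_iff_eq_mul.1 this
      have hkr : r * k = k * r := (Commute.self_pow r m).eq
      have hkj : j * k = k * j := by
        have hje : j = i * r := by rw [hr, ← mul_assoc, hi2, one_mul]
        calc j * k = i * (r * k) := by rw [hje, mul_assoc]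
          _ = k * i * r := by rw [hkr, ← mul_assoc, hki]
          _ = k * j := by rw [hje, mul_assoc]
      have hkL : k ∈ L := hcent i hi hi2 hi1 (Subgroup.mem_centralizer_singleton_iff.2 hki.symm)
      exact hjL (hcent k hkL hk2 hk1 (Subgroup.mem_centralizer_singleton_iff.2 hkj))
    · refine ⟨r ^ m, ?_⟩
      have h1 : r ^ m * i = i * (r ^ m)⁻¹ := by
        rw [← hrpow m]
        calc r ^ m * i = (i * i) * r ^ m * i := by rw [hi2, one_mul]
          _ = i * (i * r ^ m * i⁻¹) := by rw [hinv]; group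
      have h2 : (r ^ m)⁻¹ * (r ^ m)⁻¹ = r := by
        rw [← mul_inv_rev, ← pow_add]
        refine inv_eq_of_mul_eq_one_left ?_
        rw [← pow_succ', show m + m + 1 = orderOf r by omega, pow_orderOf_eq_one]
      rw [h1, mul_assoc, h2, hr, ← mul_assoc, hi2, one_mul]
  -- all involutions of `L` lie in `Ω₁(Z(O₂(L)))`
  have hzR : z ∈ R := hLT.2.2 (Subgroup.mem_centralizer_iff.2 fun x hx => hzc x (hRT hx))
  have hzV : z ∈ Cfsg.omegaCenterOf R :=
    OmegaOne.mem ⟨hzR, Subgroup.mem_centralizer_iff.2 fun x hx => hzc x (hRT hx)⟩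
      (by rw [pow_two]; exact hz2)
  have hall' : ∀ i ∈ L, i * i = 1 → i ∈ Cfsg.omegaCenterOf R := by
    intro i hi hi2
    by_cases hi1 : i = 1
    · rw [hi1]; exact one_mem _
    obtain ⟨g₁, hg₁⟩ := hconj i hi hi2 hi1
    obtain ⟨g₂, hg₂⟩ := hconj z (hTL hzT) hz2 hz1
    set g := g₁⁻¹ * g₂ with hg
    have hgz : g * z * g⁻¹ = i := by
      rw [hg, show g₁⁻¹ * g₂ * z * (g₁⁻¹ * g₂)⁻¹ = g₁⁻¹ * (g₂ * z * g₂⁻¹) * g₁ by group, hg₂, ← hg₁]
      group
    have hTg : T.map (MulAut.conj g).toMonoidHom ≤ L := by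
      rintro _ ⟨t, ht, rfl⟩
      refine hcent i hi hi2 hi1 (Subgroup.mem_centralizer_singleton_iff.2 ?_)
      show g * t * g⁻¹ * i = i * (g * t * g⁻¹)
      rw [← hgz]
      calc g * t * g⁻¹ * (g * z * g⁻¹) = g * (t * z) * g⁻¹ := by group
        _ = _ := by rw [hzc t ht]; group
    obtain ⟨l, hl, hle⟩ := exists_conj_le hLT.1 hTg (E.two.map _)
    have hlg : l * g ∈ Subgroup.normalizer (T : Set G) := by
      refine Amalgam.mem_normalizer_of_cj (Subgroup.eq_of_le_of_card_ge ?_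
        (Subgroup.card_map_of_injective (MulAut.conj (l * g)).injective).ge)
      rintro _ ⟨t, ht, rfl⟩
      refine hle ⟨_, ⟨t, ht, rfl⟩, ?_⟩
      simp [mul_assoc]
    have hgL : g ∈ L := by
      have := mul_mem (inv_mem hl) (normalizer_T_le E P hP hK hall hLmax hKL hlg)
      rwa [inv_mul_cancel_left] at this
    rw [← hgz]
    exact (Subgroup.mem_normalizer_iff.1 (((CharP.le_normalizer_opIn (p := 2) L).trans
      (normalizer_le_omegaCenterOf _)) hgL) z).1 hzV
  obtain ⟨A, a, y, F⟩ := exists_frame (pre_of E.two hK.comp)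
  have haV : a ∈ Cfsg.omegaCenterOf R :=
    hall' a (hTL (F.hA.1 F.ha)) (by rw [← pow_two]; exact F.hA.2.1.2 a F.ha)
  have hcard := (F.main (wOf_ne_bot hK.comp)).1
  have hWc : ∀ x ∈ Cfsg.wOf K, x * a = a * x := by
    intro x hx
    have hxL : x ∈ L := hKL (Subgroup.mem_sup_left (F.pre.core_le (F.W_le_core hx)))
    exact Thompson.commute_of_isElementaryAbelian (omegaCenterOf_ea R)
      (hall' x hxL (hK.comp.2.2.2.2.2 x hx)) haV
  rw [inf_eq_left.2 (fun x hx => Subgroup.mem_centralizer_singleton_iff.2 (hWc x hx))] at hcard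
  have := hK.comp.2.2.2.2.1
  omega

end Lonely

end Cfsg.Agent.JComp
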