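import Cfsg.Agent.Lib.JComp.Local

/-!
`J(T)`-components inside a member of `ℒ(T)`: subnormality, uniqueness for a given `W_K`, existence.
-/

set_option autoImplicit false
set_option linter.style.haveILetI false
set_option linter.unusedSectionVars false
open scoped commutatorElement Pointwise

namespace Cfsg.Agent.JComp

open Cfsg.Agent

universe u

theorem alg_central {M : Type*} [Group M] {y t x c c' : M} (hy : t * y * t⁻¹ = y⁻¹)
    (hx : t * x * t⁻¹ = c' * x) (hc : c = ⁅y, x⁆) (hcy : y * c = c * y) (hct : t * c * t⁻¹ = c)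
    (hcc : c' * c = c * c') (hc'y : c' * y = y * c') : c * c = 1 := by
  have hxy : y * x * y⁻¹ = c * x := by rw [hc, commutatorElement_def]; group
  have h2 : y⁻¹ * x * y = c⁻¹ * x := by
    have h3 : y⁻¹ * c * y = c := by rw [mul_assoc, ← hcy, inv_mul_cancel_left]
    calc y⁻¹ * x * y = y⁻¹ * (c⁻¹ * (c * x)) * y := by group
      _ = (y⁻¹ * c * y)⁻¹ * (y⁻¹ * (c * x) * y) := by group
      _ = c⁻¹ * (y⁻¹ * (y * x * y⁻¹) * y) := by rw [h3, hxy]
      _ = _ := by group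
  have hyc' : y⁻¹ * c' = c' * y⁻¹ := (show Commute y c' from hc'y.symm).inv_left.eq
  have h : t * ⁅y, x⁆ * t⁻¹ = ⁅t * y * t⁻¹, t * x * t⁻¹⁆ := by
    simp only [commutatorElement_def]; group
  rw [← hc, hct, hy, hx] at h
  have hcc2 : c' * c⁻¹ * c'⁻¹ = c⁻¹ := by
    rw [(show Commute c' c from hcc).inv_right.eq, mul_inv_cancel_right]
  have h4 : ⁅y⁻¹, c' * x⁆ = c⁻¹ := by
    calc ⁅y⁻¹, c' * x⁆ = (y⁻¹ * c') * x * y * x⁻¹ * c'⁻¹ := by rw [commutatorElement_def]; group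
      _ = c' * (y⁻¹ * x * y) * x⁻¹ * c'⁻¹ := by rw [hyc']; group
      _ = c' * c⁻¹ * c'⁻¹ := by rw [h2]; group
      _ = c⁻¹ := hcc2
  rw [h4] at h
  nth_rewrite 1 [h]
  exact inv_mul_cancel c

theorem alg_unique {M : Type*} [Group M] {y t t' m c : M} (hm : m = c * y)
    (ht : t * y * t⁻¹ = y⁻¹) (ht' : t' * m * t'⁻¹ = m⁻¹) (hcy : c * y = y * c)
    (hct : t * c * t⁻¹ = c) (hct' : t' * c * t'⁻¹ = c)
    (hg : (t * t' * (t * t')) * y * (t * t' * (t * t'))⁻¹ = y) : c ^ 4 = 1 := by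
  have hyc : y⁻¹ * c⁻¹ = c⁻¹ * y⁻¹ := by rw [← mul_inv_rev, ← mul_inv_rev, hcy]
  have h1 : t' * y * t'⁻¹ = c⁻¹ * c⁻¹ * y⁻¹ := by
    calc t' * y * t'⁻¹ = (t' * c * t'⁻¹)⁻¹ * (t' * (c * y) * t'⁻¹) := by group
      _ = c⁻¹ * (c * y)⁻¹ := by rw [hct', ← hm, ht']
      _ = _ := by rw [mul_inv_rev, hyc, mul_assoc]
  have hti : t * y⁻¹ * t⁻¹ = y := by rw [← conj_inv, ht, inv_inv]
  have h2 : (t * t') * y * (t * t')⁻¹ = c⁻¹ * c⁻¹ * y := by
    calc (t * t') * y * (t * t')⁻¹ = t * (t' * y * t'⁻¹) * t⁻¹ := by group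
      _ = (t * c * t⁻¹)⁻¹ * (t * c * t⁻¹)⁻¹ * (t * y⁻¹ * t⁻¹) := by rw [h1]; group
      _ = _ := by rw [hct, hti]
  have h3 : (t * t') * c * (t * t')⁻¹ = c := by
    calc (t * t') * c * (t * t')⁻¹ = t * (t' * c * t'⁻¹) * t⁻¹ := by group
      _ = c := by rw [hct', hct]
  have h4 : (t * t' * (t * t')) * y * (t * t' * (t * t'))⁻¹ = c⁻¹ * c⁻¹ * (c⁻¹ * c⁻¹ * y) := by
    calc (t * t' * (t * t')) * y * (t * t' * (t * t'))⁻¹
        = (t * t') * ((t * t') * y * (t * t')⁻¹) * (t * t')⁻¹ := by group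
      _ = (t * t') * (c⁻¹ * c⁻¹ * y) * (t * t')⁻¹ := by rw [h2]
      _ = ((t * t') * c * (t * t')⁻¹)⁻¹ * ((t * t') * c * (t * t')⁻¹)⁻¹ *
          ((t * t') * y * (t * t')⁻¹) := by group
      _ = _ := by rw [h3, h2]
  rw [hg] at h4
  calc c ^ 4 = (c ^ 4) * (y * y⁻¹) := by group
    _ = (c ^ 4) * ((c⁻¹ * c⁻¹ * (c⁻¹ * c⁻¹ * y)) * y⁻¹) := by rw [← h4]
    _ = 1 := by group

theorem conj_pow_of_fix {M : Type*} [Group M] {g y c : M} (h : g * y * g⁻¹ = c * y)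
    (hc : g * c * g⁻¹ = c) (n : ℕ) : g ^ n * y * (g ^ n)⁻¹ = c ^ n * y := by
  induction n with
  | zero => simp
  | succ n ih =>
    calc g ^ (n + 1) * y * (g ^ (n + 1))⁻¹ = g * (g ^ n * y * (g ^ n)⁻¹) * g⁻¹ := by
          rw [pow_succ']; group
      _ = (g * c * g⁻¹) ^ n * (g * y * g⁻¹) := by rw [ih, conj_pow]; group
      _ = c ^ (n + 1) * y := by rw [hc, h, pow_succ]; group

variable {G : Type u} [Group G] [Finite G]

theorem subgroupOf_le_normalizer {K H L : Subgroup G} (h : H ≤ Subgroup.normalizer (K : Set G)) :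
    H.subgroupOf L ≤ Subgroup.normalizer ((K.subgroupOf L : Subgroup L) : Set L) := by
  intro x hx
  rw [Subgroup.mem_normalizer_iff]
  intro z
  exact Subgroup.mem_normalizer_iff.1 (h hx) (z : G)

namespace Loc

variable {L T V C Aa P : Subgroup G} (X : Loc L T V C Aa P) {K A : Subgroup G} {a y : G}
include X

theorem two_pow_of_A (hA : Thompson.IsMaxEAIn 2 T A) {t : G} (ht : t ∈ A) :
    ∃ k, orderOf t = 2 ^ k := by
  obtain ⟨k, hk⟩ := IsPGroup.iff_orderOf.1 (FF.isPGroup_of_ea hA.2.1) ⟨t, ht⟩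
  exact ⟨k, by rwa [Subgroup.orderOf_mk] at hk⟩

theorem mem_L_of_A (hA : Thompson.IsMaxEAIn 2 T A) {t : G} (ht : t ∈ A) : t ∈ L :=
  (isMax_of_sylowTwoIn X.hT hA).1 ht

theorem Cnormal : (C.subgroupOf L).Normal := by
  refine (Subgroup.normal_subgroupOf_iff_le_normalizer X.hCL).2 ?_
  intro g hg
  rw [Subgroup.mem_normalizer_iff_map_conj_eq]
  refine Subgroup.eq_of_le_of_card_ge ?_ (Subgroup.card_map_of_injective (MulAut.conj g).injective).ge
  rintro _ ⟨c, hc, rfl⟩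
  rw [SetLike.mem_coe, X.hC] at hc
  rw [X.hC]
  refine ⟨mul_mem (mul_mem hg hc.1) (inv_mem (s := L) hg), Subgroup.mem_centralizer_iff.2 fun v hv => ?_⟩
  have hv' : g⁻¹ * v * g ∈ V := by
    simpa using (Subgroup.mem_normalizer_iff.1 (X.hVn (inv_mem hg)) v).1 hv
  have h := Subgroup.mem_centralizer_iff.1 hc.2 _ hv'
  rw [MonoidHom.coe_coe, MulAut.conj_apply]
  calc v * (g * c * g⁻¹) = g * (g⁻¹ * v * g * c) * g⁻¹ := by group
    _ = g * c * g⁻¹ * v := by rw [h]; group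

theorem fix_V {c v : G} (hc : c ∈ C) (hv : v ∈ V) : c * v * c⁻¹ = v := by
  rw [X.hC] at hc
  rw [← Subgroup.mem_centralizer_iff.1 hc.2 v hv, mul_inv_cancel_right]

theorem inverter (Z : ZN G) (hT1 : T ≠ ⊥) (hK : Cfsg.IsJComponent T K) (F : Frame T K A a y)
    (hKL : K ≤ L) :
    ∃ t ∈ A, t * y * t⁻¹ * y ∈ P ∧ ∀ v ∈ V, ⁅t, v⁆ ∈ Cfsg.wOf K := by
  have hW := wOf_ne_bot hK
  obtain ⟨hC2, hW4, hMW, -⟩ := F.main hW
  obtain ⟨-, hWV⟩ := X.W_facts Z hT1 hK F hKL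
  have hyC := X.y_notMem F hKL
  have hya : ⁅y, a⁆ ∉ C := by
    rw [commutatorElement_def, show y * a * y⁻¹ * a⁻¹ = y * (a * y⁻¹ * a⁻¹) by group, F.inv_conj]
    intro h
    exact hyC (X.mem_C_of_pow (X.K_le_Aa F.pre hKL F.hy) (k := 1) (by rwa [pow_one, pow_two]))
  obtain ⟨t, ht, hyt, z, hz⟩ :=
    X.transvection A (isMax_of_sylowTwoIn X.hT F.hA) y (hKL F.hy) ⟨a, F.ha, hya⟩
  have htN : t ∈ Subgroup.normalizer (K : Set G) := F.A_le_normalizer ht
  have hat : a * t ∈ F.pre.modCent := by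
    rcases F.mem_or htN with h | h
    · exact absurd (X.hPC (X.core_le_P F.pre hKL ((F.pre.mem_modCent.1 h).2 y F.hy))) hyt
    · exact h
  refine ⟨t, ht, ?_, fun v hv => ?_⟩
  · have hq := (F.pre.mem_modCent.1 hat).2 y F.hy
    set q := ⁅y, a * t⁆ with hq'
    have h1 : t * y * t⁻¹ = a⁻¹ * (q⁻¹ * y) * a := by
      rw [hq', commutatorElement_def]; group
    have h2 : a⁻¹ * y * a = y⁻¹ := by
      have h := F.hay
      rw [F.a_inv] at h ⊢
      exact h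
    have e : t * y * t⁻¹ * y = a⁻¹ * q⁻¹ * a⁻¹⁻¹ := by
      rw [h1]
      calc a⁻¹ * (q⁻¹ * y) * a * y = a⁻¹ * q⁻¹ * a * (a⁻¹ * y * a) * y := by group
        _ = _ := by rw [h2]; group
    rw [e]
    exact X.core_le_P F.pre hKL (F.pre.conj_core (inv_mem F.haN) (inv_mem hq))
  · obtain ⟨w, hw, hwa⟩ : ∃ w ∈ Cfsg.wOf K, a * w * a⁻¹ ≠ w := by
      by_contra hcon
      push Not at hcon
      have hle : Cfsg.wOf K ≤ Cfsg.wOf K ⊓ Subgroup.centralizer ({a} : Set G) := fun w hw =>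
        ⟨hw, Subgroup.mem_centralizer_singleton_iff.2 (mul_inv_eq_iff_eq_mul.1 (hcon w hw)).symm⟩
      have := Subgroup.card_le_of_le hle
      rw [hC2, hW4] at this
      omega
    have hatW := hMW ⟨mul_mem F.ha ht, hat⟩
    have htw : t * w * t⁻¹ = a * w * a⁻¹ := by
      calc t * w * t⁻¹ = a⁻¹ * ((a * t) * w * (a * t)⁻¹) * a⁻¹⁻¹ := by group
        _ = a⁻¹ * w * a⁻¹⁻¹ := by
            rw [← Subgroup.mem_centralizer_iff.1 hatW w hw, mul_inv_cancel_right]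
        _ = _ := by simp [F.a_inv]
    have hne : ⁅t, w⁆ ≠ 1 := by
      rw [commutatorElement_def, htw, Ne, mul_inv_eq_one]
      exact hwa
    have hzw : ⁅t, w⁆ = z := (hz w (hWV hw)).resolve_left hne
    have hzW : z ∈ Cfsg.wOf K := by
      rw [← hzw, commutatorElement_def, htw]
      exact mul_mem (F.conjW F.haN hw) (inv_mem hw)
    rcases hz v hv with h | h <;> rw [h]
    · exact one_mem _
    · exact hzW

theorem Aa_normalizes_W (Z : ZN G) (hT1 : T ≠ ⊥) (hK : Cfsg.IsJComponent T K) (F : Frame T K A a y)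
    (hKL : K ≤ L) {x : G} (hx : x ∈ Aa) : x ∈ Subgroup.normalizer (Cfsg.wOf K : Set G) := by
  obtain ⟨hW1, hWV⟩ := X.W_facts Z hT1 hK F hKL
  let f : Cfsg.wOf K → Cfsg.wOf K := fun w =>
    ⟨y * (w : G) * y⁻¹ * (w : G)⁻¹, hW1 _ (hWV w.2)⟩
  have hinj : Function.Injective f := by
    intro u v huv
    have h : y * (u : G) * y⁻¹ * (u : G)⁻¹ = y * v * y⁻¹ * (v : G)⁻¹ := congrArg Subtype.val huv
    have h1 : y * ((v : G)⁻¹ * u) * y⁻¹ = (v : G)⁻¹ * u := by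
      calc y * ((v : G)⁻¹ * u) * y⁻¹
          = (y * v * y⁻¹)⁻¹ * (y * u * y⁻¹ * (u : G)⁻¹) * u := by group
        _ = _ := by rw [h]; group
    exact Subtype.ext (inv_mul_eq_one.1 (F.fpf (mul_mem (inv_mem v.2) u.2)
      (mul_inv_eq_iff_eq_mul.1 h1))).symm
  rw [Subgroup.mem_normalizer_iff_map_conj_eq]
  refine Subgroup.eq_of_le_of_card_ge ?_ (Subgroup.card_map_of_injective (MulAut.conj x).injective).ge
  rintro _ ⟨w, hw, rfl⟩
  obtain ⟨u, hu⟩ := Finite.surjective_of_injective hinj ⟨w, hw⟩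
  have hu' : y * (u : G) * y⁻¹ * (u : G)⁻¹ = w := congrArg Subtype.val hu
  rw [MonoidHom.coe_coe, MulAut.conj_apply, ← hu']
  have hc : ⁅x, y⁆ ∈ C := X.comm_mem x hx y (X.K_le_Aa F.pre hKL F.hy)
  set c := ⁅x, y⁆ with hcdef
  set u' := x * (u : G) * x⁻¹ with hu'def
  have hu'V : u' ∈ V := (Subgroup.mem_normalizer_iff.1 (X.hVn (X.hAL hx)) _).1 (hWV u.2)
  have hyV : y * u' * y⁻¹ ∈ V := (Subgroup.mem_normalizer_iff.1 (X.hVn (hKL F.hy)) _).1 hu'V
  have e : x * (y * (u : G) * y⁻¹ * (u : G)⁻¹) * x⁻¹ = c * (y * u' * y⁻¹) * c⁻¹ * u'⁻¹ := by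
    rw [hcdef, hu'def, commutatorElement_def]; group
  rw [e, X.fix_V hc hyV]
  exact hW1 _ hu'V

/-- Elements of `Aa` trivial on `V / W_K` are powers of `y` modulo `C`. -/
theorem rot (Z : ZN G) (hT1 : T ≠ ⊥) (hK : Cfsg.IsJComponent T K) (F : Frame T K A a y)
    (hKL : K ≤ L) {r : G} (hr : r ∈ Aa) (hrV : ∀ v ∈ V, ⁅r, v⁆ ∈ Cfsg.wOf K) :
    ∃ i : ℕ, y ^ i * r ∈ C := by
  obtain ⟨hW1, hWV⟩ := X.W_facts Z hT1 hK F hKL
  have hW4 : Nat.card (Cfsg.wOf K) = 4 := hK.2.2.2.2.1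
  have hyK := Subgroup.le_normalizer (G := G) (H := K) F.hy
  obtain ⟨w0, hw0, hw01⟩ := SetLike.exists_of_lt (bot_lt_iff_ne_bot.2 (wOf_ne_bot hK))
  have hw01' : w0 ≠ 1 := fun h => hw01 (h ▸ one_mem _)
  have hrW := X.Aa_normalizes_W Z hT1 hK F hKL hr
  set u := r * w0 * r⁻¹ with hu
  have huW : u ∈ Cfsg.wOf K := (Subgroup.mem_normalizer_iff.1 hrW w0).1 hw0
  have hu1 : u ≠ 1 := fun h => hw01' (conj_eq_one_iff.1 h)
  have hpW : ∀ (n : ℕ), ∀ w ∈ Cfsg.wOf K, y ^ n * w * (y ^ n)⁻¹ ∈ Cfsg.wOf K := fun n w hw =>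
    F.conjW (pow_mem hyK n) hw
  obtain ⟨i, hi⟩ : ∃ i : ℕ, y ^ i * u * (y ^ i)⁻¹ = w0 := by
    by_contra hcon
    push Not at hcon
    let g : Fin 4 → Cfsg.wOf K := ![1, ⟨w0, hw0⟩,
      ⟨y ^ 0 * u * (y ^ 0)⁻¹, hpW 0 u huW⟩, ⟨y ^ 1 * u * (y ^ 1)⁻¹, hpW 1 u huW⟩]
    have hginj : Function.Injective g := by
      have h01 : y ^ 0 * u * (y ^ 0)⁻¹ ≠ y ^ 1 * u * (y ^ 1)⁻¹ := by
        intro h
        apply hu1
        refine F.fpf huW (mul_inv_eq_iff_eq_mul.1 ?_)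
        simpa using h.symm
      have h0 : y ^ 0 * u * (y ^ 0)⁻¹ ≠ 1 := by simpa using hu1
      have h1 : y ^ 1 * u * (y ^ 1)⁻¹ ≠ 1 := fun h => hu1 (conj_eq_one_iff.1 h)
      intro i j hij
      have hij' := congrArg Subtype.val hij
      fin_cases i <;> fin_cases j <;> first | rfl | (exfalso; simp [g] at hij')
      all_goals first
        | exact hw01' hij' | exact hw01' hij'.symm | exact hu1 hij' | exact hu1 hij'.symm
        | exact h0 (by simpa using hij') | exact h0 (by simpa using hij'.symm)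
        | exact h1 (by simpa using hij') | exact h1 (by simpa using hij'.symm)
        | exact hcon 0 (by simpa using hij') | exact hcon 0 (by simpa using hij'.symm)
        | exact hcon 1 (by simpa using hij') | exact hcon 1 (by simpa using hij'.symm)
        | exact h01 (by simpa using hij') | exact h01 (by simpa using hij'.symm)
    have hbij := (Nat.bijective_iff_injective_and_card g).2 ⟨hginj, by rw [Nat.card_fin, hW4]⟩
    obtain ⟨j, hj⟩ := hbij.2 ⟨y ^ 2 * u * (y ^ 2)⁻¹, hpW 2 u huW⟩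
    have hj' := congrArg Subtype.val hj
    have hfix2 : ∀ {n : ℕ}, y ^ (2 ^ n) * u * (y ^ (2 ^ n))⁻¹ = u → u = 1 := fun h =>
      F.fpf huW (eq_one_of_odd_of_pow F.hyo (mul_inv_eq_iff_eq_mul.1 h))
    fin_cases j
    · exact hu1 (conj_eq_one_iff.1 hj'.symm)
    · exact hcon 2 hj'.symm
    · exact hu1 (hfix2 (n := 1) (by simpa [g] using hj'.symm))
    · apply hu1
      refine F.fpf huW (mul_inv_eq_iff_eq_mul.1 ?_)
      have h : y ^ 2 * u * (y ^ 2)⁻¹ = y ^ 1 * u * (y ^ 1)⁻¹ := by simpa [g] using hj'.symm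
      calc y * u * y⁻¹ = y⁻¹ * (y ^ 2 * u * (y ^ 2)⁻¹) * y := by group
        _ = u := by rw [h]; group
  refine ⟨i, ?_⟩
  set r' := y ^ i * r with hr'
  have hr'A : r' ∈ Aa := mul_mem (pow_mem (X.K_le_Aa F.pre hKL F.hy) i) hr
  have hyi : ∀ v ∈ V, ⁅y ^ i, v⁆ ∈ Cfsg.wOf K := by
    have key : ∀ n : ℕ, ∀ v ∈ V, ⁅y ^ n, v⁆ ∈ Cfsg.wOf K := by
      intro n
      induction n with
      | zero => intro v _; simp
      | succ m ih =>
        intro v hv
        have hv' : y ^ m * v * (y ^ m)⁻¹ ∈ V :=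
          (Subgroup.mem_normalizer_iff.1 (X.hVn (pow_mem (hKL F.hy) m)) v).1 hv
        rw [show ⁅y ^ (m + 1), v⁆ = (y * (y ^ m * v * (y ^ m)⁻¹) * y⁻¹ * (y ^ m * v * (y ^ m)⁻¹)⁻¹) *
          ⁅y ^ m, v⁆ by rw [pow_succ', commutatorElement_def, commutatorElement_def]; group]
        exact mul_mem (hW1 _ hv') (ih v hv)
    exact key i
  have hr'V : ∀ v ∈ V, ⁅r', v⁆ ∈ Cfsg.wOf K := fun v hv => by
    rw [hr', show ⁅y ^ i * r, v⁆ = y ^ i * ⁅r, v⁆ * (y ^ i)⁻¹ * ⁅y ^ i, v⁆ by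
      simp only [commutatorElement_def]; group]
    exact mul_mem (hpW i _ (hrV v hv)) (hyi v hv)
  have hfix : r' * w0 * r'⁻¹ = w0 := by
    calc r' * w0 * r'⁻¹ = y ^ i * (r * w0 * r⁻¹) * (y ^ i)⁻¹ := by rw [hr']; group
      _ = w0 := hi
  have hc : ⁅r', y⁆ ∈ C := X.comm_mem r' hr'A y (X.K_le_Aa F.pre hKL F.hy)
  have hfix2 : r' * (y * w0 * y⁻¹) * r'⁻¹ = y * w0 * y⁻¹ := by
    calc r' * (y * w0 * y⁻¹) * r'⁻¹ = ⁅r', y⁆ * (y * (r' * w0 * r'⁻¹) * y⁻¹) * ⁅r', y⁆⁻¹ := by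
          simp only [commutatorElement_def]; group
      _ = ⁅r', y⁆ * (y * w0 * y⁻¹) * ⁅r', y⁆⁻¹ := by rw [hfix]
      _ = _ := X.fix_V hc (hWV (F.conjW hyK hw0))
  have hWfix : Cfsg.wOf K ≤ Subgroup.centralizer ({r'} : Set G) := by
    set D := Cfsg.wOf K ⊓ Subgroup.centralizer ({r'} : Set G) with hD
    have hd : Nat.card D ∣ 4 := hW4 ▸ Subgroup.card_dvd_of_le inf_le_left
    have h3 : 3 ≤ Nat.card D := by
      let g : Fin 3 → D := ![1,
        ⟨w0, hw0, Subgroup.mem_centralizer_singleton_iff.2 (mul_inv_eq_iff_eq_mul.1 hfix).symm⟩,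
        ⟨y * w0 * y⁻¹, F.conjW hyK hw0,
          Subgroup.mem_centralizer_singleton_iff.2 (mul_inv_eq_iff_eq_mul.1 hfix2).symm⟩]
      have hg : Function.Injective g := by
        intro i j hij
        have hij' := congrArg Subtype.val hij
        have h0 : y * w0 * y⁻¹ ≠ w0 := fun h => hw01' (F.fpf hw0 (mul_inv_eq_iff_eq_mul.1 h))
        have h1 : y * w0 * y⁻¹ ≠ 1 := fun h => hw01' (conj_eq_one_iff.1 h)
        fin_cases i <;> fin_cases j <;> first | rfl | (exfalso; simp [g] at hij')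
        all_goals first
          | exact hw01' hij' | exact hw01' hij'.symm | exact h0 hij' | exact h0 hij'.symm
          | exact h1 hij' | exact h1 hij'.symm
      have := Nat.card_le_card_of_injective g hg
      rwa [Nat.card_fin] at this
    have := Nat.le_of_dvd (by norm_num) hd
    have hD4 : Nat.card D = 4 := by
      rcases (show Nat.card D = 3 ∨ Nat.card D = 4 by omega) with h | h
      · rw [h] at hd; norm_num at hd
      · exact h
    exact (Subgroup.eq_of_le_of_card_ge (inf_le_left : D ≤ Cfsg.wOf K) (by rw [hW4, hD4])).ge.trans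
      inf_le_right
  rw [X.hC]
  refine ⟨X.hAL hr'A, Subgroup.mem_centralizer_iff.2 fun v hv => ?_⟩
  set δ := ⁅r', v⁆ with hδ
  have hδW := hr'V v hv
  have hδfix : r' * δ * r'⁻¹ = δ := by
    rw [← Subgroup.mem_centralizer_singleton_iff.1 (hWfix hδW), mul_inv_cancel_right]
  have h3 := conj_pow_of_fix (g := r') (y := v) (c := δ)
    (by rw [hδ, commutatorElement_def]; group) hδfix 3
  rw [X.fix_V (X.cube_mem r' hr'A) hv, eq_comm, mul_eq_right] at h3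
  have h2 : δ ^ 2 = 1 := F.W_ea.2 δ hδW
  have h1 : δ = 1 := by rwa [pow_succ, h2, one_mul] at h3
  rw [hδ, commutatorElement_eq_one_iff_mul_comm] at h1
  exact h1.symm

/-- `y` is central in `Aa` modulo `P`. -/
theorem central (Z : ZN G) (hT1 : T ≠ ⊥) (hK : Cfsg.IsJComponent T K) (F : Frame T K A a y)
    (hKL : K ≤ L) {x : G} (hx : x ∈ Aa) : ⁅y, x⁆ ∈ P := by
  haveI := X.Pnormal
  haveI := X.Cnormal
  obtain ⟨t, ht, hty, htV⟩ := X.inverter Z hT1 hK F hKL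
  have hxW := X.Aa_normalizes_W Z hT1 hK F hKL hx
  have htL := X.mem_L_of_A F.hA ht
  have hyA := X.K_le_Aa F.pre hKL F.hy
  set r := ⁅t, x⁆ with hr
  have hrA : r ∈ Aa := by
    rw [hr, commutatorElement_def]
    exact mul_mem ((Subgroup.mem_normalizer_iff.1 (X.hAn htL) x).1 hx) (inv_mem hx)
  have htW : t ∈ Subgroup.normalizer (Cfsg.wOf K : Set G) :=
    normalizer_le_wOf K (F.A_le_normalizer ht)
  have htinv : ∀ v ∈ V, ⁅t⁻¹, v⁆ ∈ Cfsg.wOf K := fun v hv => by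
    rw [show ⁅t⁻¹, v⁆ = t⁻¹ * ⁅t, v⁆⁻¹ * t⁻¹⁻¹ by simp only [commutatorElement_def]; group]
    exact (Subgroup.mem_normalizer_iff.1 (inv_mem htW) _).1 (inv_mem (htV v hv))
  have hrV : ∀ v ∈ V, ⁅r, v⁆ ∈ Cfsg.wOf K := by
    intro v hv
    have hv1 : x⁻¹ * v * x ∈ V := by
      simpa using (Subgroup.mem_normalizer_iff.1 (X.hVn (inv_mem (X.hAL hx))) v).1 hv
    rw [show ⁅r, v⁆ = t * (x * ⁅t⁻¹, x⁻¹ * v * x⁆ * x⁻¹) * t⁻¹ * ⁅t, v⁆ by
      rw [hr]; simp only [commutatorElement_def]; group]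
    exact mul_mem ((Subgroup.mem_normalizer_iff.1 htW _).1
      ((Subgroup.mem_normalizer_iff.1 hxW _).1 (htinv _ hv1))) (htV v hv)
  obtain ⟨i, hi⟩ := X.rot Z hT1 hK F hKL hrA hrV
  set x' := x * y ^ i with hx'
  have hx'A : x' ∈ Aa := mul_mem hx (pow_mem hyA i)
  -- modulo `C`
  have hc' : ⁅t, x'⁆ ∈ C := by
    set π := QuotientGroup.mk' (C.subgroupOf L) with hπ
    let Y : L := ⟨y, hKL F.hy⟩
    let Xe : L := ⟨x, X.hAL hx⟩
    let Te : L := ⟨t, htL⟩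
    have hone : ∀ g : L, (g : G) ∈ C → π g = 1 := fun g hg => (QuotientGroup.eq_one_iff g).2 hg
    have h1 : π Te * π Y * (π Te)⁻¹ * π Y = 1 := by
      rw [← map_inv, ← map_mul, ← map_mul, ← map_mul]
      exact hone _ (X.hPC hty)
    have h2 : (π Y) ^ i * ⁅π Te, π Xe⁆ = 1 := by
      rw [← map_pow, ← map_commutatorElement, ← map_mul]
      exact hone _ hi
    have h3 : (π Y) ^ 3 = 1 := by rw [← map_pow]; exact hone _ (X.cube_mem y hyA)
    have h4 : π Xe * π Y = π Y * π Xe := by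
      rw [← commutatorElement_eq_one_iff_mul_comm, ← map_commutatorElement]
      exact hone _ (X.comm_mem x hx y hyA)
    have key : ⁅π Te, π Xe * (π Y) ^ i⁆ = 1 := by
      generalize π Te = s at *
      generalize π Y = b at *
      generalize π Xe = d at *
      have hs : s * b * s⁻¹ = b⁻¹ := eq_inv_of_mul_eq_one_left h1
      have hd : d * (b ^ i)⁻¹ = (b ^ i)⁻¹ * d := ((show Commute d b from h4).pow_right i).inv_right.eq
      have hb : (b ^ i)⁻¹ * (b ^ i)⁻¹ = b ^ i := by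
        rw [inv_mul_eq_iff_eq_mul, inv_eq_iff_mul_eq_one, ← pow_add, ← pow_add,
          show i + (i + i) = 3 * i by ring, pow_mul, h3, one_pow]
      calc ⁅s, d * b ^ i⁆ = (s * d * s⁻¹ * d⁻¹) * (d * (s * b * s⁻¹) ^ i * (b ^ i)⁻¹ * d⁻¹) := by
            rw [conj_pow, commutatorElement_def]; group
        _ = ⁅s, d⁆ * ((d * (b ^ i)⁻¹) * (b ^ i)⁻¹ * d⁻¹) := by
            rw [hs, inv_pow, commutatorElement_def]
        _ = ⁅s, d⁆ * ((b ^ i)⁻¹ * (b ^ i)⁻¹) := by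
            rw [mul_assoc d, ((show Commute d (b ^ i)⁻¹ from hd).mul_right hd).eq, mul_inv_cancel_right]
        _ = (b ^ i)⁻¹ * b ^ i := by rw [hb, eq_inv_of_mul_eq_one_right h2]
        _ = 1 := inv_mul_cancel _
    have h5 : π ⁅Te, Xe * Y ^ i⁆ = 1 := by rw [map_commutatorElement, map_mul, map_pow, key]
    exact (QuotientGroup.eq_one_iff (⁅Te, Xe * Y ^ i⁆)).1 h5
  set c' := ⁅t, x'⁆ with hc'def
  have hcC : ⁅y, x'⁆ ∈ C := X.comm_mem y hyA x' hx'A
  have hyJ := X.K_le_J F.pre hKL F.hy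
  have hcJ : ⁅y, x'⁆ ∈ Cfsg.thompsonSubgroupOf 2 L := by
    rw [commutatorElement_def, mul_assoc, mul_assoc, ← mul_assoc x']
    exact mul_mem hyJ ((Subgroup.mem_normalizer_iff.1
      (Thompson.normalizer_le_normalizer_thompsonSubgroupOf 2 L
        (Subgroup.le_normalizer (X.hAL hx'A))) _).1 (inv_mem hyJ))
  have heq : ⁅y, x'⁆ = ⁅y, x⁆ := by
    rw [hx', commutatorElement_def, commutatorElement_def, mul_inv_rev]
    have h : y ^ i * y⁻¹ * (y ^ i)⁻¹ = y⁻¹ := by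
      rw [((Commute.pow_self y i).inv_right).eq, mul_inv_cancel_right]
    calc y * (x * y ^ i) * y⁻¹ * ((y ^ i)⁻¹ * x⁻¹) = y * x * (y ^ i * y⁻¹ * (y ^ i)⁻¹) * x⁻¹ := by group
      _ = _ := by rw [h]
  rw [← heq]
  -- modulo `P`
  set π := QuotientGroup.mk' (P.subgroupOf L) with hπ
  let Y : L := ⟨y, hKL F.hy⟩
  let Xe : L := ⟨x', X.hAL hx'A⟩
  let Te : L := ⟨t, htL⟩
  have hone : ∀ g : L, (g : G) ∈ P → π g = 1 := fun g hg => (QuotientGroup.eq_one_iff g).2 hg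
  have hcomm : ∀ g h : L, ⁅(g : G), (h : G)⁆ ∈ P → π g * π h = π h * π g := fun g h hg => by
    rw [← commutatorElement_eq_one_iff_mul_comm, ← map_commutatorElement]
    exact hone _ hg
  obtain ⟨k, hk⟩ := X.two_pow_of_A F.hA ht
  have hct := hcomm ⁅Y, Xe⁆ Te (X.comm_two _ hcC t htL ⟨k, hk⟩)
  have h := alg_central (y := π Y) (t := π Te) (x := π Xe) (c := π ⁅Y, Xe⁆) (c' := π ⁅Te, Xe⁆)
    (eq_inv_of_mul_eq_one_left (by
      rw [← map_inv, ← map_mul, ← map_mul, ← map_mul]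
      exact hone _ hty))
    (by rw [← map_inv, ← map_mul, ← map_mul, ← map_mul]; congr 1; rw [commutatorElement_def]; group)
    (map_commutatorElement π Y Xe)
    (hcomm ⁅Y, Xe⁆ Y (X.comm_J hcC hyJ)).symm
    (by rw [← hct, mul_inv_cancel_right])
    (hcomm ⁅Te, Xe⁆ ⁅Y, Xe⁆ (X.comm_J hc' hcJ))
    (hcomm ⁅Te, Xe⁆ Y (X.comm_J hc' hyJ))
  rw [← map_mul] at h
  have h' : ⁅y, x'⁆ * ⁅y, x'⁆ ∈ P := (QuotientGroup.eq_one_iff (⁅Y, Xe⁆ * ⁅Y, Xe⁆)).1 h
  exact X.mem_P_of_pow hcC (k := 1) (by rwa [pow_one, pow_two])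

/-- Two components with the same four-group coincide. -/
theorem unique (Z : ZN G) (hT1 : T ≠ ⊥) {T' : Subgroup G} (hT' : Cfsg.IsSylowTwoIn T' L)
    (hT'1 : T' ≠ ⊥) (hK : Cfsg.IsJComponent T K) {M : Subgroup G} (hM : Cfsg.IsJComponent T' M)
    (hKL : K ≤ L) (hML : M ≤ L) (hW : Cfsg.wOf M = Cfsg.wOf K) : M ≤ K := by
  haveI := X.Pnormal
  have X' : Loc L T' V C Aa P := { X with hT := hT' }
  obtain ⟨A, a, y, F⟩ := exists_frame (pre_of X.hT.2.1 hK)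
  obtain ⟨A', a', m, F'⟩ := exists_frame (pre_of hT'.2.1 hM)
  obtain ⟨t, ht, hty, -⟩ := X.inverter Z hT1 hK F hKL
  obtain ⟨t', ht', htm, -⟩ := X'.inverter Z hT'1 hM F' hML
  have hmA := X'.K_le_Aa F'.pre hML F'.hy
  have hyA := X.K_le_Aa F.pre hKL F.hy
  obtain ⟨i, hi⟩ := X.rot Z hT1 hK F hKL hmA fun v hv => by
    rw [commutatorElement_def, ← hW]
    exact (X'.W_facts Z hT'1 hM F' hML).1 v hv
  obtain ⟨y', hy'K, hy'A, hy't, hcC⟩ :
      ∃ y', y' ∈ K ∧ y' ∈ Aa ∧ t * y' * t⁻¹ * y' ∈ P ∧ m * y'⁻¹ ∈ C := by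
    haveI := X.Cnormal
    set π := QuotientGroup.mk' (C.subgroupOf L) with hπ
    let Y : L := ⟨y, hKL F.hy⟩
    let Me : L := ⟨m, hML F'.hy⟩
    have hone : ∀ g : L, (g : G) ∈ C → π g = 1 := fun g hg => (QuotientGroup.eq_one_iff g).2 hg
    have h1 : π Y ^ i * π Me = 1 := by rw [← map_pow, ← map_mul]; exact hone _ hi
    have h3 : (π Y) ^ 3 = 1 := by rw [← map_pow]; exact hone _ (X.cube_mem y hyA)
    rw [pow_eq_pow_mod i h3] at h1
    rcases (show i % 3 = 0 ∨ i % 3 = 1 ∨ i % 3 = 2 by omega) with h | h | h <;> rw [h] at h1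
    · rw [pow_zero, one_mul] at h1
      exact absurd ((QuotientGroup.eq_one_iff Me).1 h1) (X'.y_notMem F' hML)
    · refine ⟨y⁻¹, inv_mem F.hy, inv_mem hyA, ?_, ?_⟩
      · haveI := X.Pnormal
        have htL := X.mem_L_of_A F.hA ht
        have h2 := (Subgroup.mem_normalizer_iff.1 (X.hPn (hKL F.hy)) _).1 (inv_mem hty)
        convert h2 using 1
        group
      · have h2 : π (Me * Y) = 1 := by
          rw [pow_one] at h1
          rw [map_mul, eq_inv_of_mul_eq_one_right h1, inv_mul_cancel]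
        rw [inv_inv]
        exact (QuotientGroup.eq_one_iff (Me * Y)).1 h2
    · refine ⟨y, F.hy, hyA, hty, ?_⟩
      have h2 : π (Me * Y⁻¹) = 1 := by
        have h4 : π Y⁻¹ = π Y ^ 2 := by
          rw [map_inv]; exact inv_eq_of_mul_eq_one_right (by rw [← pow_succ']; exact h3)
        rw [map_mul, eq_inv_of_mul_eq_one_right h1, h4, inv_mul_cancel]
      exact (QuotientGroup.eq_one_iff (Me * Y⁻¹)).1 h2
  set c := m * y'⁻¹ with hc
  have hy'J := X.K_le_J F.pre hKL hy'K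
  have hgJ : t * t' ∈ Cfsg.thompsonSubgroupOf 2 L :=
    mul_mem (Thompson.le_thompsonSubgroupOf (isMax_of_sylowTwoIn X.hT F.hA) ht)
      (Thompson.le_thompsonSubgroupOf (isMax_of_sylowTwoIn hT' F'.hA) ht')
  have hgA := X.sq_mem _ hgJ
  have hgy : ⁅t * t' * (t * t'), y'⁆ ∈ P := by
    -- `y'` is `y` or `y⁻¹` up to the centre
    obtain ⟨q, hq, hdec⟩ := F.dec hy'K
    have hqP := X.core_le_P F.pre hKL hq
    have hcy := X.central Z hT1 hK F hKL hgA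
    set g := t * t' * (t * t') with hg
    have hgL : g ∈ L := X.hAL hgA
    have h1 : ⁅g, y⁆ ∈ P := by rw [← commutatorElement_inv]; exact inv_mem hcy
    have hyN := X.hPn (hKL F.hy)
    have h2 : ⁅g, q⁆ ∈ P := by
      rw [commutatorElement_def]
      exact mul_mem ((Subgroup.mem_normalizer_iff.1 (X.hPn hgL) q).1 hqP) (inv_mem hqP)
    rcases hdec with e | e | e <;> rw [e]
    · exact h2
    · rw [show ⁅g, y * q⁆ = ⁅g, y⁆ * (y * ⁅g, q⁆ * y⁻¹) by simp only [commutatorElement_def]; group]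
      exact mul_mem h1 ((Subgroup.mem_normalizer_iff.1 hyN _).1 h2)
    · rw [show ⁅g, y⁻¹ * q⁆ = (y⁻¹ * ⁅g, y⁆⁻¹ * y⁻¹⁻¹) * (y⁻¹ * ⁅g, q⁆ * y⁻¹⁻¹) by
        simp only [commutatorElement_def]; group]
      exact mul_mem ((Subgroup.mem_normalizer_iff.1 (inv_mem hyN) _).1 (inv_mem h1))
        ((Subgroup.mem_normalizer_iff.1 (inv_mem hyN) _).1 h2)
  set π := QuotientGroup.mk' (P.subgroupOf L) with hπ
  let Y : L := ⟨y', hKL hy'K⟩
  let Me : L := ⟨m, hML F'.hy⟩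
  let Te : L := ⟨t, X.mem_L_of_A F.hA ht⟩
  let Te' : L := ⟨t', X'.mem_L_of_A F'.hA ht'⟩
  let Ce : L := ⟨c, X.hCL hcC⟩
  have hone : ∀ g : L, (g : G) ∈ P → π g = 1 := fun g hg => (QuotientGroup.eq_one_iff g).2 hg
  have hcomm : ∀ g h : L, ⁅(g : G), (h : G)⁆ ∈ P → π g * π h = π h * π g := fun g h hg => by
    rw [← commutatorElement_eq_one_iff_mul_comm, ← map_commutatorElement]
    exact hone _ hg
  obtain ⟨k, hk⟩ := X.two_pow_of_A F.hA ht
  obtain ⟨k', hk'⟩ := X'.two_pow_of_A F'.hA ht'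
  have hct := hcomm Ce Te (X.comm_two c hcC t Te.2 ⟨k, hk⟩)
  have hct' := hcomm Ce Te' (X.comm_two c hcC t' Te'.2 ⟨k', hk'⟩)
  have h := alg_unique (m := π Me) (c := π Ce) (y := π Y) (t := π Te) (t' := π Te')
    (by rw [← map_mul]; congr 1; apply Subtype.ext; simp [Ce, Y, Me, hc])
    (eq_inv_of_mul_eq_one_left (by
      rw [← map_inv, ← map_mul, ← map_mul, ← map_mul]; exact hone _ hy't))
    (eq_inv_of_mul_eq_one_left (by
      rw [← map_inv, ← map_mul, ← map_mul, ← map_mul]; exact hone _ htm))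
    (hcomm Ce Y (X.comm_J hcC hy'J))
    (by rw [← hct, mul_inv_cancel_right])
    (by rw [← hct', mul_inv_cancel_right])
    (by
      rw [← map_mul, ← map_mul, hcomm (Te * Te' * (Te * Te')) Y hgy, mul_inv_cancel_right])
  rw [← map_pow] at h
  have h' : c ^ 4 ∈ P := (QuotientGroup.eq_one_iff (Ce ^ 4)).1 h
  have hcP : c ∈ P := X.mem_P_of_pow hcC (k := 2) (by norm_num; exact h')
  have hmKP : m ∈ K ⊔ P := by
    rw [show m = c * y' by rw [hc]; group]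
    exact mul_mem (Subgroup.mem_sup_right hcP) (Subgroup.mem_sup_left hy'K)
  have hle : M ≤ K ⊔ P := F'.K_le.trans
    (sup_le ((X'.core_le_P F'.pre hML).trans le_sup_right) (Subgroup.zpowers_le.2 hmKP))
  rw [← hM.1, Subgroup.closure_le]
  exact fun g hg => odd_mem_of_sup X.hP (X.P_le_normalizer Z hT1 hK hKL) (hle hg.1) hg.2

theorem isSubnormal (Z : ZN G) (hT1 : T ≠ ⊥) (hK : Cfsg.IsJComponent T K) (hKL : K ≤ L) :
    (K.subgroupOf L).IsSubnormal := by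
  obtain ⟨A, a, y, F⟩ := exists_frame (pre_of X.hT.2.1 hK)
  have hKA := X.K_le_Aa F.pre hKL
  have hPA : P ≤ Aa := X.hPC.trans X.hCA
  have hA : Aa ≤ Subgroup.normalizer ((K ⊔ P : Subgroup G) : Set G) := by
    intro x hx
    rw [Subgroup.mem_normalizer_iff_map_conj_eq]
    refine Subgroup.eq_of_le_of_card_ge ?_ (Subgroup.card_map_of_injective (MulAut.conj x).injective).ge
    rw [Subgroup.map_sup]
    refine sup_le ?_ ((Subgroup.mem_normalizer_iff_map_conj_eq.1 (X.hPn (X.hAL hx))).le.trans le_sup_right)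
    refine (Subgroup.map_mono F.K_le).trans ?_
    rw [Subgroup.map_sup, MonoidHom.map_zpowers]
    refine sup_le ?_ (Subgroup.zpowers_le.2 ?_)
    · exact (Subgroup.map_mono (X.core_le_P F.pre hKL)).trans
        ((Subgroup.mem_normalizer_iff_map_conj_eq.1 (X.hPn (X.hAL hx))).le.trans le_sup_right)
    · rw [MonoidHom.coe_coe, MulAut.conj_apply,
        show x * y * x⁻¹ = ⁅y, x⁆⁻¹ * y by simp only [commutatorElement_def]; group]
      exact mul_mem (Subgroup.mem_sup_right (inv_mem (X.central Z hT1 hK F hKL hx)))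
        (Subgroup.mem_sup_left F.hy)
  have h1 : (Aa.subgroupOf L).IsSubnormal :=
    Subgroup.Normal.isSubnormal ((Subgroup.normal_subgroupOf_iff_le_normalizer X.hAL).2 X.hAn)
  have hle2 : (K ⊔ P).subgroupOf L ≤ Aa.subgroupOf L :=
    Subgroup.comap_mono (sup_le hKA hPA)
  have h2 : ((K ⊔ P).subgroupOf L).IsSubnormal := Subgroup.IsSubnormal.step _ _ hle2 h1
    ((Subgroup.normal_subgroupOf_iff_le_normalizer hle2).2 (subgroupOf_le_normalizer hA))
  refine Subgroup.IsSubnormal.step _ _ (Subgroup.comap_mono le_sup_left) h2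
    ((Subgroup.normal_subgroupOf_iff_le_normalizer (Subgroup.comap_mono le_sup_left)).2
      (subgroupOf_le_normalizer ?_))
  exact sup_le Subgroup.le_normalizer (X.P_le_normalizer Z hT1 hK hKL)

end Loc

end Cfsg.Agent.JComp
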