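import Cfsg.Agent.Lib.JComp.ResidualShape
import Cfsg.Agent.Lib.JComp.ResidualSE
import Cfsg.Agent.Lib.LocalEven.Basic
import Cfsg.Agent.S2947

/-!
The dichotomy for a normal subgroup of characteristic two type containing `O²(G)` and the central involutions.
-/

set_option autoImplicit false
set_option linter.style.haveILetI false
set_option linter.unusedSectionVars false

namespace Cfsg.Agent.JComp

open Cfsg.Agent

universe u

variable {G : Type u} [Group G] [Finite G] {N : Subgroup G} [N.Normal]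

/-- The Sylow subgroups of a normal subgroup are traces. -/
theorem sylow_normal_trace (P : Sylow 2 ↥N) (Q : Sylow 2 G)
    (h : (P : Subgroup ↥N).map N.subtype ≤ (Q : Subgroup G)) :
    (Q : Subgroup G) ⊓ N = (P : Subgroup ↥N).map N.subtype := by
  refine le_antisymm (fun x hx => ⟨⟨x, hx.2⟩, ?_, rfl⟩) (le_inf h (Subgroup.map_subtype_le _))
  have e : (Q : Subgroup G).subgroupOf N = (P : Subgroup ↥N) :=
    P.is_maximal' Q.isPGroup'.comap_subtype fun y hy => h ⟨y, hy, rfl⟩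
  exact e ▸ (show (⟨x, hx.2⟩ : ↥N) ∈ (Q : Subgroup G).subgroupOf N from hx.1)

theorem exists_sylow_trace (S : Sylow 2 G) :
    ∃ P : Sylow 2 ↥N, (P : Subgroup ↥N).map N.subtype = (S : Subgroup G) ⊓ N := by
  haveI : Fact (Nat.Prime 2) := ⟨Nat.prime_two⟩
  obtain ⟨P, hP⟩ := (S.isPGroup'.comap_subtype : IsPGroup 2 ((S : Subgroup G).subgroupOf N)).exists_le_sylow
  refine ⟨P, Eq.symm (Subgroup.eq_of_le_of_card_ge (K := (P : Subgroup ↥N).map N.subtype)
    (fun x hx => ⟨⟨x, hx.2⟩, hP (show (⟨x, hx.2⟩ : ↥N) ∈ (S : Subgroup G).subgroupOf N from hx.1), rfl⟩) ?_)⟩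
  obtain ⟨Q, hQ⟩ := (P.isPGroup'.map N.subtype).exists_le_sylow
  obtain ⟨g, hg⟩ := MulAction.exists_smul_eq G Q S
  have hle : ((P : Subgroup ↥N).map N.subtype).map (MulAut.conj g).toMonoidHom ≤ (S : Subgroup G) ⊓ N := by
    rintro _ ⟨x, hx, rfl⟩
    refine ⟨?_, (inferInstance : N.Normal).conj_mem x (Subgroup.map_subtype_le _ hx) g⟩
    rw [← hg]
    exact Subgroup.smul_mem_pointwise_smul x (MulAut.conj g) (Q : Subgroup G) (hQ hx)
  have := Subgroup.card_le_of_le hle
  rwa [Subgroup.card_map_of_injective (MulAut.conj g).injective] at this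

theorem residual_map (hH : Cfsg.pResidual 2 G ≤ N) :
    (Cfsg.pResidual 2 ↥N).map N.subtype = Cfsg.pResidual 2 G := by
  rw [Cfsg.pResidual, MonoidHom.map_closure, Cfsg.pResidual]
  congr 1
  ext x
  constructor
  · rintro ⟨y, hy, rfl⟩
    show Nat.Coprime (orderOf (y : G)) 2
    rw [Subgroup.orderOf_coe]
    exact hy
  · intro hx
    refine ⟨⟨x, hH (Subgroup.subset_closure hx)⟩, ?_, rfl⟩
    show Nat.Coprime (orderOf (_ : ↥N)) 2
    rw [Subgroup.orderOf_mk]
    exact hx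

theorem zn_normal (hN : ∀ L : Subgroup G, Cfsg.IsTwoLocal L → Group.IsSolvable ↥L)
    (hZ : ∀ S : Sylow 2 G, Subgroup.centralizer (Cfsg.omegaCenterOf (S : Subgroup G) : Set G) ≤
      Subgroup.normalizer ((S : Subgroup G) : Set G))
    (hc : Cfsg.IsCharacteristicTwoType ↥N) (S₀ : Sylow 2 G)
    (hZN : Cfsg.omegaCenterOf (S₀ : Subgroup G) ≤ N) : ZN ↥N := by
  haveI : Fact (Nat.Prime 2) := ⟨Nat.prime_two⟩
  refine ⟨hc, ?_, fun P => ?_⟩
  · rintro _ ⟨T, hT, hT1, rfl⟩
    haveI := hN _ ⟨T.map N.subtype, hT.map _,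
      fun h => hT1 ((Subgroup.map_eq_bot_iff_of_injective _ N.subtype_injective).1 h), rfl⟩
    let f : ↥(Subgroup.normalizer (T : Set ↥N)) →* ↥(Subgroup.normalizer (T.map N.subtype : Set G)) :=
      { toFun := fun x => ⟨((x : ↥N) : G), Subgroup.le_normalizer_map N.subtype ⟨(x : ↥N), x.2, rfl⟩⟩
        map_one' := rfl
        map_mul' := fun _ _ => rfl }
    refine solvable_of_solvable_injective (f := f) fun a b h => ?_
    exact Subtype.ext (Subtype.ext (congrArg (fun z : ↥(Subgroup.normalizer (T.map N.subtype : Set G)) => (z : G)) h))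
  · obtain ⟨Q, hQ⟩ := (P.isPGroup'.map N.subtype).exists_le_sylow
    have htr := sylow_normal_trace P Q hQ
    obtain ⟨g, hg⟩ := MulAction.exists_smul_eq G S₀ Q
    intro x hx
    have hQx : (x : G) ∈ Subgroup.centralizer (Cfsg.omegaCenterOf (Q : Subgroup G) : Set G) := by
      refine Subgroup.mem_centralizer_iff.2 fun z hz => ?_
      have hzN : z ∈ N := by
        rw [← hg, show ((g • S₀ : Sylow 2 G) : Subgroup G) = (S₀ : Subgroup G).map (MulAut.conj g).toMonoidHom from rfl,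
          Cfsg.omegaCenterOf, ← OmegaOne.map_center (MulAut.conj g).toMonoidHom (MulAut.conj g).injective.injOn] at hz
        obtain ⟨y, hy, rfl⟩ := hz
        exact (inferInstance : N.Normal).conj_mem y (hZN hy) g
      obtain ⟨y, hy, e⟩ : z ∈ (P : Subgroup ↥N).map N.subtype := htr ▸ ⟨omegaCenterOf_le _ hz, hzN⟩
      have hy' : y ∈ Cfsg.omegaCenterOf (P : Subgroup ↥N) := by
        refine OmegaOne.mem ⟨hy, Subgroup.mem_centralizer_iff.2 fun p hp => Subtype.ext ?_⟩ (Subtype.ext ?_)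
        · simp only [Subgroup.coe_mul]
          rw [show (y : G) = z from e]
          exact omega_central hz (hQ ⟨p, hp, rfl⟩)
        · simp only [Subgroup.coe_pow, Subgroup.coe_one]
          rw [show (y : G) = z from e]
          exact (omegaCenterOf_ea _).2 z hz
      have := congrArg Subtype.val (Subgroup.mem_centralizer_iff.1 hx y hy')
      simp only [Subgroup.coe_mul] at this
      rwa [show (y : G) = z from e] at this
    have hxn := hZ Q hQx
    refine Subgroup.mem_normalizer_fintype fun p hp => ?_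
    have hmem : (x : G) * p * (x : G)⁻¹ ∈ (P : Subgroup ↥N).map N.subtype := by
      rw [← htr]
      exact ⟨(Subgroup.mem_normalizer_iff.1 hxn _).1 (hQ ⟨p, hp, rfl⟩),
        (inferInstance : N.Normal).conj_mem p p.2 x⟩
    obtain ⟨q, hq, e⟩ := hmem
    exact (Subtype.ext e : q = x * p * x⁻¹) ▸ hq

theorem pCore_normal_eq_bot (hO : Cfsg.pCore 2 G = ⊥) : Cfsg.pCore 2 ↥N = ⊥ := by
  haveI : Fact (Nat.Prime 2) := ⟨Nat.prime_two⟩
  haveI : (Cfsg.pCore 2 ↥N).Characteristic := LEBasic.pCore_characteristic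
  have h : ((Cfsg.pCore 2 ↥N).map N.subtype).Normal := inferInstance
  have := LEBasic.le_pCore h ((LEBasic.pCore_isPGroup (p := 2) (G := ↥N)).map N.subtype)
  rwa [hO, le_bot_iff, Subgroup.map_eq_bot_iff_of_injective _ N.subtype_injective] at this

/-- **The dichotomy below a normal subgroup.** -/
theorem se_or_trace (hN : ∀ L : Subgroup G, Cfsg.IsTwoLocal L → Group.IsSolvable ↥L)
    (hZ : ∀ S : Sylow 2 G, Subgroup.centralizer (Cfsg.omegaCenterOf (S : Subgroup G) : Set G) ≤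
      Subgroup.normalizer ((S : Subgroup G) : Set G))
    (hO : Cfsg.pCore 2 G = ⊥) (hc : Cfsg.IsCharacteristicTwoType ↥N) (S : Sylow 2 G)
    (hZN : Cfsg.omegaCenterOf (S : Subgroup G) ≤ N) (hH : Cfsg.pResidual 2 G ≤ N)
    (ht : ∃ a : ↥(Cfsg.pResidual 2 G), orderOf a = 2) :
    (∃ M : Subgroup ↥(Cfsg.pResidual 2 G), Cfsg.IsStronglyEmbedded M) ∨
      ((∃ n : ℕ, 2 ≤ n ∧ Nonempty (↥((S : Subgroup G) ⊓ Cfsg.pResidual 2 G) ≃* DihedralGroup n)) ∨
        Cfsg.IsQuasiDihedral ↥((S : Subgroup G) ⊓ Cfsg.pResidual 2 G)) := by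
  haveI : Fact (Nat.Prime 2) := ⟨Nat.prime_two⟩
  have Z := zn_normal hN hZ hc S hZN
  have hO2 : Cfsg.pCore 2 ↥N = ⊥ := pCore_normal_eq_bot hO
  rcases se_or_duo Z hO2 (fun P M hM hMJ hst => ⟨M, (S2947.result hc Z.hN Z.hZ hO2 P M hM hMJ).2 hst⟩) with
    ⟨M, hM⟩ | ⟨T, M, K, K₂, w, E, D⟩
  · refine Or.inl ⟨_, stronglyEmbedded_comap (Subgroup.inclusion hH) (Subgroup.inclusion_injective hH) ?_ ht hM⟩
    rw [Subgroup.inclusion_range]
    exact (inferInstance : ((Cfsg.pResidual 2 G).subgroupOf N).Normal)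
  · obtain ⟨P, hP⟩ := exists_sylow_trace (N := N) S
    have hmap : ((P : Subgroup ↥N) ⊓ Cfsg.pResidual 2 ↥N).map N.subtype =
        (S : Subgroup G) ⊓ Cfsg.pResidual 2 G := by
      rw [Subgroup.map_inf _ _ _ N.subtype_injective, hP, residual_map hH, inf_assoc, inf_eq_right.2 hH]
    have e : ↥((S : Subgroup G) ⊓ Cfsg.pResidual 2 G) ≃* ↥((P : Subgroup ↥N) ⊓ Cfsg.pResidual 2 ↥N) :=
      ((Subgroup.equivMapOfInjective _ _ N.subtype_injective).trans (MulEquiv.subgroupCongr hmap)).symm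
    refine Or.inr ?_
    rcases D.sylow_trace E P with ⟨n, hn, ⟨f⟩⟩ | ⟨n, hn, hcard, a, b, ha, hb, hab⟩
    · exact Or.inl ⟨n, hn, ⟨e.trans f⟩⟩
    · exact Or.inr ⟨n, hn, (Nat.card_congr e.toEquiv).trans hcard, e.symm a, e.symm b,
        by rw [MulEquiv.orderOf_eq, ha], by rw [MulEquiv.orderOf_eq, hb],
        by rw [← map_inv, ← map_mul, ← map_mul, hab, map_pow]⟩

end Cfsg.Agent.JComp
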